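import Cfsg.Agent.OddCyclic.COneSeven

/-!
# S0342 T_cyc (Empty), (4.5): four-groups of `L₃(2)` fixing a generating vector

`Mod ρ`, `A` a four-group of index `|V : C_V(A)| ≤ 4`, `V` generated by `C_V(N(A))`: then `|V : C_V(A)| = 4` and
every `w ∈ V` is fixed by an involution of `A`.
-/

set_option autoImplicit false
set_option linter.unusedSectionVars false

namespace Cfsg.Agent.OddCyclic.EmpE.SevenA

open Subgroup Cfsg.Agent.GH.L2Aut Cfsg.Agent.OddCyclic.T1Module Cfsg.Agent.OddCyclic.FFBasic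
  Cfsg.Agent.OddCyclic.FFRed Cfsg.Agent.OddCyclic.FFSl2 Cfsg.Agent.OddCyclic.FFThree Cfsg.Agent.OddCyclic.COneSeven

variable {L : Type*} [Group L] [Finite L] {V : Type*} [CommGroup V] [Finite V] {ρ : L →* MulAut V}

theorem isPGroup_four {A : Subgroup L} (hA : IsFour A) : IsPGroup 2 A :=
  IsPGroup.of_card (n := 2) (by rw [hA.card]; norm_num)

theorem exists_sylow {A : Subgroup L} (hA : IsFour A) : ∃ T : Sylow 2 L, A ≤ T :=
  (isPGroup_four hA).exists_le_sylow

theorem bo_of (h : Mod ρ) {A : Subgroup L} (hA : IsFour A) (hi : (CS ρ A).index ≤ 4) : BO ρ A := by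
  refine ⟨hA.sq, fun B hBA => ?_⟩
  have hV := (CS ρ A).card_mul_index
  have hVle : Nat.card V ≤ Nat.card A * Nat.card (CS ρ A) := by
    rw [hA.card, ← hV, mul_comm 4]
    exact Nat.mul_le_mul_left _ hi
  have hdvd : Nat.card B ∣ 2 ^ 2 := by
    have h1 := Subgroup.card_dvd_of_le hBA
    rw [hA.card] at h1
    exact h1
  obtain ⟨k, hk, hk'⟩ := (Nat.dvd_prime_pow Nat.prime_two).1 hdvd
  rcases Nat.eq_zero_or_pos k with rfl | hk0
  · refine le_trans ?_ hVle
    rw [hk', pow_zero, one_mul]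
    exact Subgroup.card_le_card_group _
  · rcases (by omega : k = 1 ∨ k = 2) with rfl | rfl
    · have hB1 : B ≠ ⊥ := by
        rintro rfl
        rw [Subgroup.card_bot] at hk'
        norm_num at hk'
      obtain ⟨⟨b, hb⟩, hb1'⟩ := Subgroup.ne_bot_iff_exists_ne_one.1 hB1
      have hb1 : b ≠ 1 := fun h => hb1' (Subtype.ext h)
      have h2 := h.two_le hb1
      have h3 := (fx ρ b).card_mul_index
      have h4 : Nat.card (CS ρ B) ≤ Nat.card (fx ρ b) := Subgroup.card_le_of_le (CS_le_fx hb)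
      refine le_trans ?_ hVle
      rw [hk', pow_one, ← h3, mul_comm 2]
      exact Nat.mul_le_mul h4 h2
    · have : B = A := Subgroup.eq_of_le_of_card_ge hBA (by rw [hA.card, hk']; norm_num)
      rw [this]

/-- a four-group fixing a generating vector together with its normaliser is not an axis -/
theorem not_ax_of (h : Mod ρ) {A : Subgroup L}
    (hgen : ∀ N : Subgroup V, (∀ x : L, ∀ v ∈ N, ρ x v ∈ N) → CS ρ (normalizer (A : Set L)) ≤ N → N = ⊤) :
    ¬ Ax ρ A := by
  intro hax
  obtain ⟨T, hAT⟩ := exists_sylow hax.four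
  obtain ⟨B, hB⟩ := FFThree.par h.l32 T hax.four hAT hax.fix
  have h1 : CS ρ (⊤ : Subgroup L) = ⊤ := by
    apply hgen
    · intro x v hv y _
      have e1 := hv x (mem_top x)
      rw [e1]
      exact hv y (mem_top y)
    · intro v hv
      rw [mem_CS_iff, ← hB.gen]
      refine sup_le (mem_CS_iff.1 hv) ?_
      intro x hx
      exact hB.cent x hx v (CS_anti (sylow_le_normalizer h.l32 T hax.four hAT) hv)
  have h2 := h.top_le
  rw [h1, Subgroup.index_top] at h2
  omega

theorem cm_mem_fx (h : Mod ρ) {a : L} (ha : a * a = 1) (w : V) : ρ a (cm ρ a w) = cm ρ a w := by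
  have h1 : ρ a (ρ a w) = w := by
    rw [← MulAut.mul_apply, ← map_mul, ha, map_one]; rfl
  have h2 : ∀ v : V, v⁻¹ = v := fun v => inv_eq_of_mul_eq_one_left (h.sq v)
  rw [cm_apply, map_mul, map_inv, h1, h2, h2, mul_comm]

theorem cm_mul (x y : L) (w : V) : cm ρ (x * y) w = cm ρ x (cm ρ y w) * cm ρ y w * cm ρ x w := by
  rw [cm_apply, cm_apply ρ x, cm_apply ρ y, cm_apply, map_mul, MulAut.mul_apply, map_mul, map_inv]
  group

theorem centre (h : Mod ρ) {A : Subgroup L} (hA : IsFour A) (hi : (CS ρ A).index ≤ 4)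
    (hgen : ∀ N : Subgroup V, (∀ x : L, ∀ v ∈ N, ρ x v ∈ N) → CS ρ (normalizer (A : Set L)) ≤ N → N = ⊤) :
    (CS ρ A).index = 4 ∧ ∀ w, ∃ b ∈ A, b ≠ 1 ∧ ρ b w = w := by
  have hnax := not_ax_of h hgen
  have hA1 : A ≠ ⊥ := by
    rintro rfl
    have := hA.card
    rw [Subgroup.card_bot] at this
    norm_num at this
  have hα : Alpha ρ := by
    rcases FFThree.main h (bo_of h hA hi) hA1 with h1 | h1
    · exact h1
    · exact absurd ⟨hA, h1.2.2⟩ hnax
  have hfx : ∀ a ∈ A, a ≠ 1 → (fx ρ a).index = 2 := fun a ha ha1 => hα.inv a ha1 (hA.sq a ha)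
  constructor
  · obtain ⟨d, hd⟩ := index_pow h.sq (CS ρ A)
    have h1 : d ≤ 2 := by
      rw [hd] at hi
      exact (Nat.pow_le_pow_iff_right (by norm_num)).1 (hi.trans (by norm_num : 4 ≤ 2 ^ 2))
    have h2 : 2 ≤ d := by
      by_contra hcon
      apply hnax
      refine ⟨hA, fun a ha ha1 => ?_⟩
      symm
      apply eq_of_index_le (CS_le_fx ha)
      rw [hfx a ha ha1, hd]
      calc 2 ^ d ≤ 2 ^ 1 := Nat.pow_le_pow_right (by norm_num) (by omega)
        _ = 2 := by norm_num
    have : d = 2 := by omega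
    rw [hd, this]; norm_num
  · intro w
    obtain ⟨z, hz, a, ha, hza, hmem⟩ := hA.exists_four
    have hzaA : z * a ∈ A := mul_mem hz ha
    have hza1 : z * a ≠ 1 := hza.right.b1
    by_cases h1 : ρ z w = w
    · exact ⟨z, hz, hza.a1, h1⟩
    by_cases h2 : ρ a w = w
    · exact ⟨a, ha, hza.b1, h2⟩
    refine ⟨z * a, hzaA, hza1, ?_⟩
    rcases axis_or_centre hza.comm (hfx z hz hza.a1) (hfx a ha hza.b1) (hfx _ hzaA hza1) with h3 | h3
    · exfalso
      apply hnax
      have h4 : fx ρ (z * a) = fx ρ z := by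
        symm
        apply eq_of_index_le
        · intro v hv
          exact fx_mul ρ hv (by rw [← h3]; exact hv)
        · rw [hfx z hz hza.a1, hfx _ hzaA hza1]
      have h5 : CS ρ A = fx ρ z := by
        apply le_antisymm (CS_le_fx hz)
        intro v hv x hx
        rcases (hmem x).1 hx with rfl | rfl | rfl | rfl
        · rw [map_one]; rfl
        · exact hv
        · have : v ∈ fx ρ x := by rw [← h3]; exact hv
          exact this
        · have : v ∈ fx ρ (z * a) := by rw [h4]; exact hv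
          exact this
      refine ⟨hA, fun x hx hx1 => ?_⟩
      rw [h5]
      rcases (hmem x).1 hx with rfl | rfl | rfl | rfl
      · exact absurd rfl hx1
      · rfl
      · exact h3.symm
      · exact h4
    · -- a common centre
      have hc2 : Nat.card (cm ρ z).range = 2 := by rw [card_range_cm]; exact hfx z hz hza.a1
      have e1 : cm ρ z w ≠ 1 := fun h0 => h1 (by
        rw [cm_apply, mul_inv_eq_one] at h0; exact h0)
      have e2 : cm ρ a w ≠ 1 := fun h0 => h2 (by
        rw [cm_apply, mul_inv_eq_one] at h0; exact h0)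
      have e3 : cm ρ a w = cm ρ z w := by
        have m1 : cm ρ z w ∈ (cm ρ z).range := ⟨w, rfl⟩
        have m2 : cm ρ a w ∈ (cm ρ z).range := by rw [h3]; exact ⟨w, rfl⟩
        obtain ⟨x, hx⟩ := (Nat.card_eq_two_iff' (1 : (cm ρ z).range)).1 hc2
        have q1 := hx.2 ⟨_, m1⟩ (fun h0 => e1 (congrArg Subtype.val h0))
        have q2 := hx.2 ⟨_, m2⟩ (fun h0 => e2 (congrArg Subtype.val h0))
        exact (congrArg Subtype.val q2).trans (congrArg Subtype.val q1).symm
      have e4 : cm ρ (z * a) w = 1 := by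
        have e5 : cm ρ z (cm ρ z w) = 1 := by
          rw [cm_apply ρ z (cm ρ z w), cm_mem_fx h hza.aa, mul_inv_cancel]
        rw [cm_mul, e3, e5, one_mul, h.sq]
      rw [cm_apply, mul_inv_eq_one] at e4
      exact e4

end Cfsg.Agent.OddCyclic.EmpE.SevenA
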