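import Cfsg.Agent.OddCyclic.FFPsl
import Cfsg.Agent.OddCyclic.FFThree

/-!
# S0342 T_cyc (Empty), (4.2): modules for `L₂(p)`, `p ≥ 11`

`false_of_index` : no involution of `L ≅ PSL₂(p)`, `p ≥ 11` prime, has fixed points of index at most 8 on a faithful
elementary abelian 2-group.
-/

set_option autoImplicit false
set_option linter.unusedSectionVars false

namespace Cfsg.Agent.OddCyclic.EmpE.Psl

open Matrix Cfsg.Agent.Lib.SL2Mat Cfsg.Agent.OddCyclic.T1Module Cfsg.Agent.OddCyclic.FFBasic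
  Cfsg.Agent.OddCyclic.FFRed Cfsg.Agent.OddCyclic.FFSl2 Cfsg.Agent.OddCyclic.FFPslMat Cfsg.Agent.OddCyclic.PGLTorus
  Cfsg.Agent.OddCyclic.T1Defs Cfsg.Agent.OddCyclic.FFPsl

section count

variable {H : Type*} [Group H] {V : Type*} [CommGroup V] [Finite V] {ρ : H →* MulAut V}

/-- `a` inverts `y`, of odd order `n`, and `y` is semiregular on `X ∖ 1`: the number of fixed points -/
theorem count (hV : ∀ v : V, v * v = 1) {a y : H} (hodd : Odd (orderOf y)) (ha : a * a = 1)
    (hay : a * y * a⁻¹ = y⁻¹) {X : Subgroup V} (hX : ∀ w ∈ X, ρ y w ∈ X) (haX : ∀ w ∈ X, ρ a w ∈ X)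
    (hfree : ∀ i : ℕ, y ^ i ≠ 1 → ∀ w ∈ X, ρ (y ^ i) w = w → w = 1) :
    ∃ c : ℕ, Nat.card X ≤ c * c ∧ (c - 1) * orderOf y ≤ Nat.card X - 1 := by
  classical
  obtain ⟨C, hC⟩ : ∃ C : Subgroup V, C = fx ρ a ⊓ X := ⟨_, rfl⟩
  have hst : ∀ i : ℕ, ∀ w ∈ X, ρ (y ^ i) w ∈ X := by
    intro i
    induction i with
    | zero => intro w hw; rw [pow_zero, map_one]; exact hw
    | succ i ih =>
      intro w hw
      rw [pow_succ, map_mul, MulAut.mul_apply]
      exact ih _ (hX w hw)
  have hn : 0 < orderOf y := hodd.pos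
  refine ⟨Nat.card C, ?_, ?_⟩
  · -- `[X, a] ≤ C_X(a)`
    have h1 : Nat.card (X.map (cm ρ a)) ≤ Nat.card C := by
      apply Subgroup.card_le_of_le
      rintro _ ⟨w, hw, rfl⟩
      rw [hC]
      refine Subgroup.mem_inf.2 ⟨?_, ?_⟩
      · rw [mem_fx, cm_apply, map_mul, map_inv, ← MulAut.mul_apply, ← map_mul, ha, map_one, MulAut.one_apply]
        have h2 : ∀ v : V, v⁻¹ = v := fun v => inv_eq_of_mul_eq_one_left (hV v)
        rw [h2, h2, mul_comm]
      · exact mul_mem (haX w hw) (inv_mem hw)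
    have h2 : Nat.card (X.map (cm ρ a)) = (fx ρ a).relIndex X := by
      rw [← ker_cm, ← Subgroup.relIndex_ker]
    have h3 : Nat.card C * (fx ρ a ⊓ X).relIndex X = Nat.card X := by
      rw [hC]; exact card_mul_relIndex inf_le_right
    rw [Subgroup.inf_relIndex_right, ← h2] at h3
    rw [← h3]
    exact Nat.mul_le_mul_left _ h1
  · let T := {w : C // w ≠ 1}
    have hT : Nat.card T = Nat.card C - 1 := by
      have : Fintype C := Fintype.ofFinite _
      rw [Nat.card_eq_fintype_card, Fintype.card_subtype_compl, Fintype.card_subtype_eq, Nat.card_eq_fintype_card]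
    have hX1 : Nat.card {x : X // x ≠ 1} = Nat.card X - 1 := by
      have : Fintype X := Fintype.ofFinite _
      rw [Nat.card_eq_fintype_card, Fintype.card_subtype_compl, Fintype.card_subtype_eq, Nat.card_eq_fintype_card]
    have hTX : ∀ w : T, ((w.1 : C) : V) ∈ X := fun w => by
      have h1 : ((w.1 : C) : V) ∈ fx ρ a ⊓ X := hC ▸ w.1.2
      exact h1.2
    have hTa : ∀ w : T, ρ a ((w.1 : C) : V) = ((w.1 : C) : V) := fun w => by
      have h1 : ((w.1 : C) : V) ∈ fx ρ a ⊓ X := hC ▸ w.1.2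
      exact h1.1
    have hT1 : ∀ w : T, ((w.1 : C) : V) ≠ 1 := fun w h1 => w.2 (Subtype.ext h1)
    let g : T × Fin (orderOf y) → {x : X // x ≠ 1} := fun p =>
      ⟨⟨ρ (y ^ (p.2 : ℕ)) ((p.1.1 : C) : V), hst _ _ (hTX p.1)⟩, by
        intro h
        have h1 : ρ (y ^ (p.2 : ℕ)) ((p.1.1 : C) : V) = 1 := congrArg Subtype.val h
        exact hT1 p.1 ((map_eq_one_iff _ (ρ (y ^ (p.2 : ℕ))).injective).1 h1)⟩
    have key : ∀ (w w' : T) (k : ℕ), ρ (y ^ k) ((w.1 : C) : V) = ((w'.1 : C) : V) → y ^ k = 1 := by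
      intro w w' k hk
      have h2 : a * y ^ k = (y ^ k)⁻¹ * a := by
        have : a * y ^ k * a⁻¹ = (y ^ k)⁻¹ := by rw [← conj_pow, hay, inv_pow]
        rw [← this]; group
      have h4 : ρ (y ^ (2 * k)) ((w.1 : C) : V) = ((w.1 : C) : V) := by
        have h6 : ρ ((y ^ k)⁻¹) ((w.1 : C) : V) = ((w'.1 : C) : V) := by
          calc ρ ((y ^ k)⁻¹) ((w.1 : C) : V) = ρ ((y ^ k)⁻¹) (ρ a ((w.1 : C) : V)) := by rw [hTa]
            _ = ρ (a * y ^ k) ((w.1 : C) : V) := by rw [h2, map_mul]; rfl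
            _ = ρ a (ρ (y ^ k) ((w.1 : C) : V)) := by rw [map_mul]; rfl
            _ = ((w'.1 : C) : V) := by rw [hk, hTa]
        rw [two_mul, pow_add, map_mul, MulAut.mul_apply, hk, ← h6, ← MulAut.mul_apply, ← map_mul, mul_inv_cancel,
          map_one]
        rfl
      by_contra hne
      have h5 : y ^ (2 * k) ≠ 1 := by
        intro h6
        apply hne
        have h7 : orderOf y ∣ k := by
          refine (Nat.Coprime.dvd_of_dvd_mul_left ?_ (orderOf_dvd_of_pow_eq_one h6))
          exact hodd.coprime_two_right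
        exact orderOf_dvd_iff_pow_eq_one.1 h7
      exact hT1 w (hfree _ h5 _ (hTX w) h4)
    have hg : Function.Injective g := by
      rintro ⟨w, i⟩ ⟨w', j⟩ hij
      have h1 : ρ (y ^ (i : ℕ)) ((w.1 : C) : V) = ρ (y ^ (j : ℕ)) ((w'.1 : C) : V) :=
        congrArg (fun t => ((t.1 : X) : V)) hij
      have main : ∀ (w w' : T) (i j : Fin (orderOf y)), (i : ℕ) ≤ j →
          ρ (y ^ (i : ℕ)) ((w.1 : C) : V) = ρ (y ^ (j : ℕ)) ((w'.1 : C) : V) → i = j ∧ w = w' := by
        intro w w' i j hle h1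
        have h3 : ρ (y ^ ((j : ℕ) - i)) ((w'.1 : C) : V) = ((w.1 : C) : V) := by
          have h4 : ρ (y ^ (i : ℕ)) (ρ (y ^ ((j : ℕ) - i)) ((w'.1 : C) : V)) = ρ (y ^ (i : ℕ)) ((w.1 : C) : V) := by
            rw [← MulAut.mul_apply, ← map_mul, ← pow_add, Nat.add_sub_cancel' hle]
            exact h1.symm
          exact (ρ (y ^ (i : ℕ))).injective h4
        have h4 := key w' w _ h3
        have h5 : (j : ℕ) - i = 0 := by
          have h6 := orderOf_dvd_of_pow_eq_one h4
          have h7 := j.2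
          rcases Nat.eq_zero_or_pos ((j : ℕ) - i) with h8 | h8
          · exact h8
          · have := Nat.le_of_dvd h8 h6
            omega
        refine ⟨Fin.ext (by omega), ?_⟩
        rw [h5, pow_zero, map_one] at h3
        exact (Subtype.ext (Subtype.ext h3)).symm
      rcases le_total (i : ℕ) j with hle | hle
      · obtain ⟨rfl, rfl⟩ := main w w' i j hle h1
        rfl
      · obtain ⟨rfl, rfl⟩ := main w' w j i hle h1.symm
        rfl
    have h1 := Nat.card_le_card_of_injective g hg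
    rw [Nat.card_prod, hT, Nat.card_eq_fintype_card (α := Fin _), Fintype.card_fin, hX1] at h1
    exact h1

end count

variable {L : Type*} [Group L] [Finite L] {V : Type*} [CommGroup V] [Finite V] {ρ : L →* MulAut V}
  {F : Type*} [Field F] [Finite F] (R : Cfsg.Agent.GH.L2Aut.Rep F L)

include R in
/-- the matrix of an involution -/
theorem exists_mat' {a : L} (ha1 : a ≠ 1) (ha : a * a = 1) :
    ∃ γ : GL (Fin 2) F, γ.1.trace = 0 ∧ R.gl γ = MulAut.conj a ∧ γ.1.det = 1 := by
  obtain ⟨x, rfl⟩ := R.surj a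
  refine ⟨Matrix.SpecialLinearGroup.toGL x, ?_, (R.conj_π x).symm, ?_⟩
  · apply trace_of_sq R
    · rw [← R.conj_π]
      intro h1
      exact ha1 (R.conj_injective (by rw [h1, map_one]))
    · rw [← R.conj_π, ← map_mul, ha, map_one]
  · exact x.2

theorem inv_of {a : L} {γ : GL (Fin 2) F} (hγ : R.gl γ = MulAut.conj a) {y : L} (h : R.gl γ y = y⁻¹) :
    a * y * a⁻¹ = y⁻¹ := by
  rw [hγ, MulAut.conj_apply] at h
  exact h

include R in
theorem exists_three' (h3 : (3 : F) ≠ 0) {a : L} (ha1 : a ≠ 1) (ha : a * a = 1) :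
    ∃ y : L, orderOf y = 3 ∧ a * y * a⁻¹ = y⁻¹ := by
  obtain ⟨γ, hγ0, hγ, -⟩ := exists_mat' R ha1 ha
  obtain ⟨x, hx, hx'⟩ := inv_exists R.two hγ0 (det_ne γ) 1
  obtain ⟨h1, h2⟩ := order_three_one R h3 hx
  refine ⟨R.π x, ?_, inv_of R hγ (gl_inv R hγ0 hx')⟩
  have : Fact (Nat.Prime 3) := ⟨Nat.prime_three⟩
  exact orderOf_eq_prime h1 h2

include R in
/-- elements of odd order `n ∣ |F| - 1` inverted by `a` -/
theorem exists_inv {n : ℕ} (hn : Odd n) (hn3 : 3 ≤ n) (hdvd : n ∣ Nat.card F - 1) {a : L} (ha1 : a ≠ 1)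
    (ha : a * a = 1) : ∃ y : L, orderOf y = n ∧ a * y * a⁻¹ = y⁻¹ := by
  classical
  obtain ⟨γ, hγ0, hγ, -⟩ := exists_mat' R ha1 ha
  have := Fintype.ofFinite F
  have hu : Nat.card Fˣ = Nat.card F - 1 := by
    rw [Nat.card_eq_fintype_card, Fintype.card_units, ← Nat.card_eq_fintype_card]
  obtain ⟨s₀, hs₀⟩ := IsCyclic.exists_ofOrder_eq_natCard (α := Fˣ)
  rw [hu] at hs₀
  obtain ⟨m, hm⟩ := hdvd
  have hpos : 0 < Nat.card F - 1 := by rw [← hu]; exact Nat.card_pos
  have hm0 : 0 < m := Nat.pos_of_ne_zero (by rintro rfl; omega)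
  have hs : orderOf (s₀ ^ m) = n := by
    rw [orderOf_pow, hs₀, hm, Nat.gcd_eq_right (Dvd.intro_left n rfl), Nat.mul_div_cancel _ hm0]
  set s := s₀ ^ m with hsdef
  let x₀ : Matrix.SpecialLinearGroup (Fin 2) F := dg (s : F) s.ne_zero
  have hx₀ : orderOf x₀ = n := by
    let f : Fˣ →* Matrix.SpecialLinearGroup (Fin 2) F :=
      { toFun := fun k => dg (k : F) k.ne_zero
        map_one' := by refine ext_ent ?_ ?_ ?_ ?_ <;> simp
        map_mul' := fun k l => by
          refine ext_ent ?_ ?_ ?_ ?_ <;> rw [ent_mul] <;> simp [mul_comm] }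
    have hf : Function.Injective f := by
      intro k l hkl
      apply Units.ext
      have := congrArg (fun w => ent w 0 0) hkl
      exact this
    rw [← hs]
    exact orderOf_injective f hf s
  obtain ⟨x, hx, hx'⟩ := inv_exists R.two hγ0 (det_ne γ) ((s : F) + (s : F)⁻¹)
  have hss : (s : F) ≠ (s : F)⁻¹ := by
    intro h1
    have h2 : s * s = 1 := by
      apply Units.ext
      rw [Units.val_mul, Units.val_one]
      nth_rewrite 2 [h1]
      exact mul_inv_cancel₀ s.ne_zero
    have h3 : orderOf s ∣ 2 := orderOf_dvd_of_pow_eq_one (by rw [pow_two, h2])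
    rw [hs] at h3
    have := Nat.le_of_dvd (by norm_num) h3
    omega
  have hxo : orderOf x = n := by
    rw [← hx₀]
    apply orderOf_eq_of_trace
    · show ent x 0 0 + ent x 1 1 = ent x₀ 0 0 + ent x₀ 1 1
      rw [hx]; rfl
    · by_contra hcon
      push Not at hcon
      obtain ⟨e1, e2, e3⟩ := hcon
      have e1' : ent x 0 1 = 0 := e1
      have e2' : ent x 1 0 = 0 := e2
      have e3' : ent x 0 0 = ent x 1 1 := e3
      have hd := det_eq x
      rw [e1', e3'] at hd
      rw [e3'] at hx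
      have h5 : ((s : F) - (s : F)⁻¹) * ((s : F) - (s : F)⁻¹) = 0 := by
        have h6 : (s : F) * (s : F)⁻¹ = 1 := mul_inv_cancel₀ s.ne_zero
        have h7 : ((s : F) - (s : F)⁻¹) * ((s : F) - (s : F)⁻¹) =
          ((s : F) + (s : F)⁻¹) * ((s : F) + (s : F)⁻¹) - 4 * ((s : F) * (s : F)⁻¹) := by ring
        rw [h7, ← hx, h6]
        linear_combination 4 * hd
      apply hss
      rcases mul_eq_zero.1 h5 with h6 | h6 <;> exact sub_eq_zero.1 h6
    · right; right
      exact hss
  refine ⟨R.π x, ?_, inv_of R hγ (gl_inv R hγ0 hx')⟩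
  apply Nat.dvd_antisymm
  · rw [← hxo]
    exact orderOf_map_dvd R.π x
  · have h1 : R.π (x ^ orderOf (R.π x)) = 1 := by rw [map_pow, pow_orderOf_eq_one]
    rw [R.ker] at h1
    rcases h1 with h1 | h1
    · rw [← hxo]
      exact orderOf_dvd_of_pow_eq_one h1
    · exfalso
      have h2 : (x ^ orderOf (R.π x)) ^ n = 1 := by
        rw [← pow_mul, mul_comm, pow_mul, ← hxo, pow_orderOf_eq_one, one_pow]
      rw [h1] at h2
      have h3 : (-1 : Matrix.SpecialLinearGroup (Fin 2) F) ^ n = -1 := hn.neg_one_pow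
      rw [h3] at h2
      exact R.neg_one_ne_one h2

theorem arith : ∀ d < 10, ∀ n ∈ Nat.divisors (2 ^ d - 1), n.Prime → 11 ≤ n → n = 17 ∨ n = 31 ∨ n = 73 ∨ n = 127 := by
  decide +kernel

theorem pow_arith15 : ∀ j < 15, j ≠ 0 → ∃ k < 15, (j * k) % 15 = 3 ∨ (j * k) % 15 = 5 := by decide

theorem pow_arith21 : ∀ j < 21, j ≠ 0 → ∃ k < 21, (j * k) % 21 = 3 ∨ (j * k) % 21 = 7 := by decide

/-- fixed point free elements of prime order -/
theorem dvd_of_free (hV : ∀ v : V, v * v = 1) {y : L} {l : ℕ} (hl : l.Prime) (hl2 : l ≠ 2) (hy : orderOf y = l)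
    {E : Subgroup V} (hE : ∀ w ∈ E, ρ y w ∈ E) : l ∣ (fx ρ y).relIndex E - 1 := by
  have hst : ∀ n ∈ Subgroup.zpowers y, ∀ w ∈ E, ρ n w ∈ E := by
    intro n hn w hw
    rw [← mem_powers_iff_mem_zpowers] at hn
    obtain ⟨k, rfl⟩ := hn
    show ρ (y ^ k) w ∈ E
    induction k with
    | zero => rw [pow_zero, map_one]; exact hw
    | succ k ih =>
      rw [pow_succ', map_mul, MulAut.mul_apply]
      exact hE _ ih
  let ρ' := res ρ (Subgroup.zpowers y) E hst
  let y' : Subgroup.zpowers y := ⟨y, Subgroup.mem_zpowers y⟩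
  have ho' : orderOf y' = l := by rw [← Subgroup.orderOf_coe]; exact hy
  have h1 := dvd_card_sub_one (ρ := ρ') (fun v => Subtype.ext (hV v)) hl hl2 ho'
  have h2 : (fx ρ' y').index = (fx ρ y).relIndex E := by
    rw [show fx ρ' y' = (fx ρ y).subgroupOf E from fx_res hst y']; rfl
  rwa [h2] at h1

include R in
/-- **no small involutions for `L₂(p)`, `p ≥ 11`** -/
theorem false_of_index (hc : OddCyc L) (hF : (Nat.card F).Prime) (h11 : 11 ≤ Nat.card F) (hV : ∀ v : V, v * v = 1)
    (hfaith : ∀ y : L, y ≠ 1 → ∃ v, ρ y v ≠ v) {a : L} (ha1 : a ≠ 1) (ha : a * a = 1) (hi : (fx ρ a).index ≤ 8) :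
    False := by
  have h3F : (3 : F) ≠ 0 := three_ne hF (by omega)
  have h2F := R.two
  obtain ⟨y₃, hy₃, hay₃⟩ := exists_three' R h3F ha1 ha
  have hall : ∀ z : L, orderOf z = 3 → (fx ρ z).index = (fx ρ y₃).index := fun z hz =>
    (index_eq_of_orderOf ρ hc Nat.prime_three (by norm_num) hy₃ hz).symm
  have hi3 : (fx ρ y₃).index ≤ 64 := (half' ρ (by rw [hy₃]; decide) hay₃).trans (Nat.pow_le_pow_left hi 2)
  -- the element `u` of order `p`
  have hou : orderOf (R.π (up 1)) = Nat.card F := by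
    have hch := charP hF
    have hfact : Fact (Nat.card F).Prime := ⟨hF⟩
    apply orderOf_eq_prime
    · rw [← map_pow, up_pow, CharP.cast_eq_zero, up_zero, map_one]
    · intro h
      rw [R.ker] at h
      rcases h with h | h
      · have := congrArg (fun w => ent w 0 1) h
        simp only [up_01, ent_one_01] at this
        exact one_ne_zero this
      · have h1 : (1 : F) = -0 := congrArg (fun w => ent w 0 1) h
        rw [neg_zero] at h1
        exact one_ne_zero h1
  have hune : R.π (up 1) ≠ 1 := by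
    intro h1
    rw [h1, orderOf_one] at hou
    omega
  obtain ⟨d, hd, hd1, hd2⟩ := prim (ρ := ρ) hV hF (by omega) hou (hfaith _ hune)
  have horder3 : ∀ {x : Matrix.SpecialLinearGroup (Fin 2) F}, ent x 0 0 + ent x 1 1 = 1 → orderOf (R.π x) = 3 := by
    intro x hx
    have : Fact (Nat.Prime 3) := ⟨Nat.prime_three⟩
    obtain ⟨h1, h2⟩ := order_three_one R h3F hx
    exact orderOf_eq_prime h1 h2
  -- `u` is a product of two elements of order 3
  have hu33 : (fx ρ (R.π (up 1))).index ≤ (fx ρ y₃).index * (fx ρ y₃).index := by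
    have hdz : (0 : F) * 1 - (-(1 / 2)) * 2 = 1 := by field_simp; ring
    have hdz' : (-1 : F) * 2 - (-(3 / 2)) * 2 = 1 := by field_simp; ring
    let z : Matrix.SpecialLinearGroup (Fin 2) F := mk 0 (-(1 / 2)) 2 1 hdz
    let z' : Matrix.SpecialLinearGroup (Fin 2) F := mk (-1) (-(3 / 2)) 2 2 hdz'
    have hz : orderOf (R.π z) = 3 := horder3 (by simp only [z, mk_00, mk_11]; ring)
    have hz' : orderOf (R.π z') = 3 := horder3 (by simp only [z', mk_00, mk_11]; ring)
    have hzz : z * z' = -up 1 := by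
      refine ext_ent ?_ ?_ ?_ ?_
      · rw [ent_mul]; show 0 * (-1) + (-(1 / 2)) * 2 = -(1 : F); field_simp; ring
      · rw [ent_mul]; show 0 * (-(3 / 2)) + (-(1 / 2)) * 2 = -(1 : F); field_simp; ring
      · rw [ent_mul]; show 2 * (-1) + 1 * 2 = -(0 : F); ring
      · rw [ent_mul]; show 2 * (-(3 / 2)) + 1 * 2 = -(1 : F); field_simp; ring
    have hu : R.π (up 1) = R.π z * R.π z' := by rw [← map_mul, hzz, R.π_neg]
    rw [hu]
    refine (index_mul_le ρ _ _).trans ?_
    rw [hall _ hz, hall _ hz']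
  -- `u` is the product of an element of order 3 and an involution
  have hu32 : (fx ρ (R.π (up 1))).index ≤ (fx ρ y₃).index * 8 := by
    let w : L := R.π (Cfsg.Agent.Lib.PSL2Torus.jm F)
    have hj : Cfsg.Agent.Lib.PSL2Torus.jm F * Cfsg.Agent.Lib.PSL2Torus.jm F = -1 := by
      refine ext_ent ?_ ?_ ?_ ?_
      · rw [ent_mul]; show 0 * 0 + (-1) * 1 = -(1 : F); ring
      · rw [ent_mul]; show 0 * (-1) + (-1) * 0 = -(0 : F); ring
      · rw [ent_mul]; show 1 * 0 + 0 * 1 = -(0 : F); ring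
      · rw [ent_mul]; show 1 * (-1) + 0 * 0 = -(1 : F); ring
    have hw2 : w * w = 1 := by
      show R.π _ * R.π _ = 1
      rw [← map_mul, hj, R.ker]
      exact Or.inr rfl
    have hw1 : w ≠ 1 := by
      intro h1
      have h2 : R.π (Cfsg.Agent.Lib.PSL2Torus.jm F) = 1 := h1
      rw [R.ker] at h2
      rcases h2 with h2 | h2
      · have := congrArg (fun w => ent w 1 0) h2
        simp only [Cfsg.Agent.Lib.PSL2Torus.jm_10, ent_one_10] at this
        exact one_ne_zero this
      · have h3 : (1 : F) = -0 := congrArg (fun w => ent w 1 0) h2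
        rw [neg_zero] at h3
        exact one_ne_zero h3
    obtain ⟨g, hg⟩ := Cfsg.Agent.Lib.PSL2Torus.conj_inv_hom R.π R.two R.surj R.ker ha1 ha hw1 hw2
    have hiw : (fx ρ w).index ≤ 8 := by
      rw [← hg, index_fx_conj]; exact hi
    have hz : orderOf (R.π (up 1 * Cfsg.Agent.Lib.PSL2Torus.jm F)) = 3 := by
      apply horder3
      rw [ent_mul, ent_mul]
      show (1 : F) * 0 + 1 * 1 + (0 * (-1) + 1 * 0) = 1
      ring
    have hu : R.π (up 1) = R.π (up 1 * Cfsg.Agent.Lib.PSL2Torus.jm F) * w := by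
      rw [map_mul, mul_assoc]
      show R.π (up 1) = R.π (up 1) * (w * w)
      rw [hw2, mul_one]
    rw [hu]
    refine (index_mul_le ρ _ _).trans ?_
    rw [hall _ hz]
    exact Nat.mul_le_mul_left _ hiw
  have hd9 : d < 10 := by
    have h1 : 2 ^ d ≤ 2 ^ 9 := by
      rw [← hd1]
      exact hu32.trans (by norm_num; omega)
    have := (Nat.pow_le_pow_iff_right (by norm_num : 1 < 2)).1 h1
    omega
  have hdiv : Nat.card F ∈ Nat.divisors (2 ^ d - 1) := by
    rw [Nat.mem_divisors]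
    refine ⟨hd2, ?_⟩
    have : 2 ^ 1 ≤ 2 ^ d := Nat.pow_le_pow_right (by norm_num) hd
    omega
  have h4 := arith d hd9 _ hdiv hF h11
  -- split involutions
  have hsplit : IsSquare (-1 : F) → False := by
    rintro ⟨s, hs⟩
    obtain ⟨γ, hγ0, hγ, hdet⟩ := exists_mat' R ha1 ha
    obtain ⟨u, hu1, hup, hui⟩ := split_inv R hγ0 (s := s) (by rw [hdet]; exact hs.symm)
    have hch := charP hF
    have hfact : Fact (Nat.card F).Prime := ⟨hF⟩
    have h1 := hup (Nat.card F) (CharP.cast_eq_zero F (Nat.card F))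
    have h2 : orderOf (R.π u) = Nat.card F := orderOf_eq_prime (by rw [← map_pow, h1, map_one]) hu1
    have h3 := inv_of R hγ hui
    obtain ⟨e, he, he1, he2⟩ := prim (ρ := ρ) hV hF (by omega) h2 (hfaith _ hu1)
    have h5 : (fx ρ (R.π u)).index ≤ 64 :=
      (half' ρ (by rw [h2]; exact hF.odd_of_ne_two (by omega)) h3).trans (Nat.pow_le_pow_left hi 2)
    have he6 : e ≤ 6 := by
      rw [he1] at h5
      exact (Nat.pow_le_pow_iff_right (by norm_num : 1 < 2)).1 (h5.trans (by norm_num : 64 ≤ 2 ^ 6))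
    have := Fintype.ofFinite F
    have h6 : Fintype.card F % 4 ≠ 3 := FiniteField.isSquare_neg_one_iff.1 ⟨s, hs⟩
    rw [← Nat.card_eq_fintype_card] at h6
    have h7 : Nat.card F = 17 ∨ Nat.card F = 73 := by
      rcases h4 with h | h | h | h
      · exact Or.inl h
      · rw [h] at h6; norm_num at h6
      · exact Or.inr h
      · rw [h] at h6; norm_num at h6
    rcases h7 with h | h <;> rw [h] at he2 <;> interval_cases e <;> norm_num at he2
  have hyodd : ∀ {y : L} {n : ℕ}, orderOf y = n → Odd n → a * y * a⁻¹ = y⁻¹ → (fx ρ y).index ≤ 64 := by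
    intro y n hy hn hay
    exact (half' ρ (by rw [hy]; exact hn) hay).trans (Nat.pow_le_pow_left hi 2)
  have hinvpow : ∀ {y : L} (k : ℕ), a * y * a⁻¹ = y⁻¹ → a * y ^ k * a⁻¹ = (y ^ k)⁻¹ := by
    intro y k hay
    rw [← conj_pow, hay, inv_pow]
  rcases h4 with h4 | h4 | h4 | h4
  · apply hsplit
    have := Fintype.ofFinite F
    rw [FiniteField.isSquare_neg_one_iff, ← Nat.card_eq_fintype_card, h4]
    norm_num
  · -- `p = 31`
    obtain ⟨y, hy, hay⟩ := exists_inv R (n := 15) (by decide) (by norm_num) (by rw [h4]; norm_num) ha1 ha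
    have o5 : orderOf (y ^ 3) = 5 := by rw [orderOf_pow, hy]; norm_num
    have o3 : orderOf (y ^ 5) = 3 := by rw [orderOf_pow, hy]; norm_num
    have hiy := hyodd hy (by decide) hay
    have hle3 : fx ρ y ≤ fx ρ (y ^ 3) := fun v hv => fx_pow ρ hv 3
    have hle5 : fx ρ y ≤ fx ρ (y ^ 5) := fun v hv => fx_pow ρ hv 5
    have n3 : y ^ 3 ≠ 1 := by intro h; rw [h, orderOf_one] at o5; norm_num at o5
    obtain ⟨e, he, he1, he2⟩ := prim (ρ := ρ) hV Nat.prime_five (by norm_num) o5 (hfaith _ n3)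
    have he6 : e ≤ 6 := by
      have h1 := (index_le_of_le hle3).trans hiy
      rw [he1] at h1
      exact (Nat.pow_le_pow_iff_right (by norm_num : 1 < 2)).1 (h1.trans (by norm_num : 64 ≤ 2 ^ 6))
    have he4 : e = 4 := by
      interval_cases e <;> first | rfl | (norm_num at he2)
    subst he4
    set X := (cm ρ (y ^ 3)).range with hX
    have hcX : Nat.card X = 16 := by rw [hX, card_range_cm, he1]; norm_num
    have hfix3 : ∀ w ∈ X, ρ (y ^ 3) w = w → w = 1 := fun w hw h =>
      eq_one_of_fix hV (by rw [o5]; decide) hw h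
    have hyX : ∀ w ∈ X, ρ y w ∈ X := fun w hw => apply_mem_range ρ ((Commute.refl y).pow_right 3) hw
    have haX : ∀ w ∈ X, ρ a w ∈ X := fun w hw => apply_mem_range_of_inv ρ (hinvpow 3 hay) hw
    by_cases hs3 : ∀ w ∈ X, ρ (y ^ 5) w = w → w = 1
    · obtain ⟨c, hc1, hc2⟩ := count hV (by rw [hy]; decide) ha hay hyX haX (by
        intro i hi1 w hw hwi
        have h2 : i % 15 ≠ 0 := by
          intro h
          apply hi1
          rw [← pow_mod_orderOf, hy, h, pow_zero]
        obtain ⟨k, -, hk⟩ := pow_arith15 (i % 15) (Nat.mod_lt _ (by norm_num)) h2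
        have h5 : ∀ m, (i % 15 * k) % 15 = m → (y ^ i) ^ k = y ^ m := by
          intro m hm
          rw [← pow_mul, ← pow_mod_orderOf, hy, ← hm, Nat.mod_mul_mod]
        have h6 : w ∈ fx ρ ((y ^ i) ^ k) := fx_pow ρ hwi k
        rcases hk with h7 | h7
        · rw [h5 3 h7] at h6
          exact hfix3 w hw h6
        · rw [h5 5 h7] at h6
          exact hs3 w hw h6)
      rw [hcX, hy] at hc2
      rw [hcX] at hc1
      have : c ≤ 2 := by omega
      interval_cases c <;> omega
    · push Not at hs3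
      obtain ⟨w, hwX, hw5, hw1⟩ := hs3
      set E := fx ρ (y ^ 5) ⊓ X with hE
      have hst : ∀ w ∈ E, ρ (y ^ 3) w ∈ E := by
        rintro w ⟨hw, hw'⟩
        refine ⟨?_, apply_mem_range ρ rfl hw'⟩
        show ρ (y ^ 5) (ρ (y ^ 3) w) = ρ (y ^ 3) w
        have h1 : ρ (y ^ 5) (ρ (y ^ 3) w) = ρ (y ^ 3) (ρ (y ^ 5) w) := by
          rw [← MulAut.mul_apply, ← MulAut.mul_apply, ← map_mul, ← map_mul, ← pow_add, ← pow_add]
        rw [h1, (mem_fx ρ).1 hw]
      have h1 := dvd_of_free hV Nat.prime_five (by norm_num) o5 hst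
      have h2 : (fx ρ (y ^ 3)).relIndex E = Nat.card E := by
        have h3 : Nat.card (fx ρ (y ^ 3) ⊓ E : Subgroup V) * (fx ρ (y ^ 3) ⊓ E).relIndex E = Nat.card E :=
          card_mul_relIndex inf_le_right
        have h5 : fx ρ (y ^ 3) ⊓ E = ⊥ := by
          rw [eq_bot_iff]
          rintro v ⟨hv, hv'⟩
          exact Subgroup.mem_bot.2 (hfix3 v hv'.2 hv)
        rw [Subgroup.inf_relIndex_right, h5, Subgroup.card_bot, one_mul] at h3
        exact h3
      rw [h2] at h1
      have h3 : Nat.card E ∣ 16 := by rw [← hcX]; exact Subgroup.card_dvd_of_le inf_le_right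
      have h5 : 2 ≤ Nat.card E := by
        have : E ≠ ⊥ := by
          intro h0
          apply hw1
          rw [← Subgroup.mem_bot, ← h0]
          exact ⟨hw5, hwX⟩
        exact (Subgroup.one_lt_card_iff_ne_bot E).2 this
      have h6 : Nat.card E = 16 := by
        have h7 := Nat.le_of_dvd (by norm_num) h3
        generalize Nat.card E = n at *
        interval_cases n <;> first | rfl | (exfalso; revert h1 h3; decide)
      have hXE : X ≤ fx ρ (y ^ 5) := by
        have : E = X := Subgroup.eq_of_le_of_card_ge inf_le_right (by rw [hcX, h6])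
        rw [← this]; exact inf_le_left
      have h7 : Nat.card X * Nat.card (fx ρ y) ≤ Nat.card (fx ρ (y ^ 5)) := by
        have h8 : X ⊓ fx ρ y = ⊥ := by
          rw [eq_bot_iff]
          rintro v ⟨hv, hv'⟩
          exact Subgroup.mem_bot.2 (hfix3 v hv (hle3 hv'))
        have h9 := FFThree.card_sup_mul X (fx ρ y)
        rw [h8, Subgroup.card_bot, mul_one] at h9
        rw [← h9]
        exact Subgroup.card_le_of_le (sup_le hXE hle5)
      have h8 := (fx ρ y).card_mul_index
      have h9 := (fx ρ (y ^ 5)).card_mul_index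
      have h10 : (fx ρ (y ^ 5)).index ≤ 4 := by
        by_contra hcon
        push Not at hcon
        have h0 : 0 < Nat.card (fx ρ y) := Nat.card_pos
        have e1 : Nat.card (fx ρ y) * 64 < Nat.card (fx ρ (y ^ 5)) * (fx ρ (y ^ 5)).index := by
          calc Nat.card (fx ρ y) * 64 < Nat.card (fx ρ y) * (16 * 5) := by
                apply Nat.mul_lt_mul_of_pos_left (by norm_num) h0
            _ = Nat.card X * Nat.card (fx ρ y) * 5 := by rw [hcX]; ring
            _ ≤ Nat.card (fx ρ (y ^ 5)) * (fx ρ (y ^ 5)).index := Nat.mul_le_mul h7 hcon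
        have e2 : Nat.card (fx ρ y) * (fx ρ y).index ≤ Nat.card (fx ρ y) * 64 := Nat.mul_le_mul_left _ hiy
        omega
      rw [hall _ o3] at h10
      have h11 : (fx ρ (R.π (up 1))).index ≤ 16 := hu33.trans (Nat.mul_le_mul h10 h10)
      rw [hd1] at h11
      have hd4 : d ≤ 4 := (Nat.pow_le_pow_iff_right (by norm_num : 1 < 2)).1 (h11.trans (by norm_num : 16 ≤ 2 ^ 4))
      rw [h4] at hd2
      interval_cases d <;> norm_num at hd2
  · apply hsplit
    have := Fintype.ofFinite F
    rw [FiniteField.isSquare_neg_one_iff, ← Nat.card_eq_fintype_card, h4]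
    norm_num
  · -- `p = 127`
    obtain ⟨y, hy, hay⟩ := exists_inv R (n := 21) (by decide) (by norm_num) (by rw [h4]; norm_num) ha1 ha
    have o7 : orderOf (y ^ 3) = 7 := by rw [orderOf_pow, hy]; norm_num
    have o3 : orderOf (y ^ 7) = 3 := by rw [orderOf_pow, hy]; norm_num
    have hiy := hyodd hy (by decide) hay
    have hle3 : fx ρ y ≤ fx ρ (y ^ 3) := fun v hv => fx_pow ρ hv 3
    have hle7 : fx ρ y ≤ fx ρ (y ^ 7) := fun v hv => fx_pow ρ hv 7
    have n3 : y ^ 3 ≠ 1 := by intro h; rw [h, orderOf_one] at o7; norm_num at o7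
    obtain ⟨e, he, he1, he2⟩ := prim (ρ := ρ) hV (by norm_num : Nat.Prime 7) (by norm_num) o7 (hfaith _ n3)
    obtain ⟨f, hf⟩ := prim_even (ρ := ρ) hV ha (by rw [o7]; decide) (hinvpow 3 hay)
    have he6 : e ≤ 6 := by
      have h1 := (index_le_of_le hle3).trans hiy
      rw [he1] at h1
      exact (Nat.pow_le_pow_iff_right (by norm_num : 1 < 2)).1 (h1.trans (by norm_num : 64 ≤ 2 ^ 6))
    have hef : e = f * 2 := by
      rw [he1, ← pow_mul] at hf
      exact Nat.pow_right_injective (le_refl 2) hf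
    have he6' : e = 6 := by
      have hf3 : f ≤ 3 := by omega
      subst hef
      interval_cases f <;> first | rfl | omega | (norm_num at he2)
    have h64 : (fx ρ (y ^ 3)).index = 64 := by rw [he1, he6']; norm_num
    have heq3 : fx ρ y = fx ρ (y ^ 3) := eq_of_index_le hle3 (by omega)
    have hiy' : (fx ρ y).index = 64 := by rw [heq3, h64]
    -- the elements of order 3
    have hi16 : 16 ≤ (fx ρ (y ^ 7)).index := by
      rw [hall _ o3]
      rw [h4] at hd2
      have hd7 : 7 ≤ d := by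
        by_contra hcon
        have : d ≤ 6 := by omega
        interval_cases d <;> norm_num at hd2
      have h1 : 2 ^ 7 ≤ 2 ^ d := Nat.pow_le_pow_right (by norm_num) hd7
      rw [hd1] at hu32
      omega
    have heq7 : fx ρ y = fx ρ (y ^ 7) := by
      have hst : ∀ w ∈ fx ρ (y ^ 7), ρ (y ^ 3) w ∈ fx ρ (y ^ 7) := by
        intro w hw
        show ρ (y ^ 7) (ρ (y ^ 3) w) = ρ (y ^ 3) w
        have h1 : ρ (y ^ 7) (ρ (y ^ 3) w) = ρ (y ^ 3) (ρ (y ^ 7) w) := by
          rw [← MulAut.mul_apply, ← MulAut.mul_apply, ← map_mul, ← map_mul, ← pow_add, ← pow_add]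
        rw [h1, (mem_fx ρ).1 hw]
      have h1 := dvd_of_free hV (by norm_num : Nat.Prime 7) (by norm_num) o7 hst
      rw [← heq3] at h1
      have h3 := Subgroup.relIndex_mul_index hle7
      rw [hiy'] at h3
      have h5 : (fx ρ y).relIndex (fx ρ (y ^ 7)) ≤ 4 := by
        by_contra hcon
        push Not at hcon
        nlinarith
      have h6 : (fx ρ y).relIndex (fx ρ (y ^ 7)) = 1 := by
        have hpos : 0 < (fx ρ y).relIndex (fx ρ (y ^ 7)) := by
          rcases Nat.eq_zero_or_pos ((fx ρ y).relIndex (fx ρ (y ^ 7))) with h | h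
          · rw [h] at h3; omega
          · exact h
        obtain ⟨c, hc⟩ := h1
        omega
      rw [h6, one_mul] at h3
      exact eq_of_index_le hle7 (by rw [hiy', h3])
    set X := (cm ρ y).range with hX
    have hcX : Nat.card X = 64 := by rw [hX, card_range_cm, hiy']
    have hfix : ∀ w ∈ X, ρ y w = w → w = 1 := fun w hw h => eq_one_of_fix hV (by rw [hy]; decide) hw h
    obtain ⟨c, hc1, hc2⟩ := count hV (by rw [hy]; decide) ha hay (X := X)
      (fun w hw => apply_mem_range ρ rfl hw) (fun w hw => apply_mem_range_of_inv ρ hay hw) (by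
        intro i hi1 w hw hwi
        have h2 : i % 21 ≠ 0 := by
          intro h
          apply hi1
          rw [← pow_mod_orderOf, hy, h, pow_zero]
        obtain ⟨k, -, hk⟩ := pow_arith21 (i % 21) (Nat.mod_lt _ (by norm_num)) h2
        have h5 : ∀ m, (i % 21 * k) % 21 = m → (y ^ i) ^ k = y ^ m := by
          intro m hm
          rw [← pow_mul, ← pow_mod_orderOf, hy, ← hm, Nat.mod_mul_mod]
        have h6 : w ∈ fx ρ ((y ^ i) ^ k) := fx_pow ρ hwi k
        rcases hk with h7 | h7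
        · rw [h5 3 h7, ← heq3] at h6
          exact hfix w hw h6
        · rw [h5 7 h7, ← heq7] at h6
          exact hfix w hw h6)
    rw [hcX, hy] at hc2
    rw [hcX] at hc1
    have : c ≤ 4 := by omega
    interval_cases c <;> omega

end Cfsg.Agent.OddCyclic.EmpE.Psl
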