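import Cfsg.Agent.OddCyclic.EmpE.Struct
import Cfsg.Agent.OddCyclic.EmpE.Psl
import Cfsg.Agent.OddCyclic.ClaimC.Sz
import Cfsg.Agent.OddCyclic.FFJ1
import Cfsg.Agent.OddCyclic.FFPsl

/-!
# S0342 T_cyc (Empty), (4.2): `J₁`, `Sz(q)` and `L₂(p)`, `p ≥ 11`
-/

set_option autoImplicit false
set_option linter.unusedSectionVars false

namespace Cfsg.Agent.OddCyclic.EmpE.Kill

open Subgroup Cfsg.Agent.SporRec.J1.Defs Cfsg.Agent.OddCyclic.T1Module Cfsg.Agent.OddCyclic.FFBasic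
  Cfsg.Agent.OddCyclic.FFRed Cfsg.Agent.OddCyclic.EmpNSDefs Cfsg.Agent.OddCyclic.EmpE.Struct
  Cfsg.Agent.OddCyclic.FFSl2
open Cfsg.Agent.OddCyclic.T1Defs (OddCyc)
open Cfsg.Agent.OddCyclic.PumpMain (KZero)

universe u

variable {H : Type u} [Group H] [Finite H] {W : Type*} [CommGroup W] {ρ : H →* MulAut W}
  {Y M C Θ J K : Subgroup H} {W₀ : Subgroup W}

/-! ### weak frame -/

theorem faith (hc : centralizer (K : Set H) = ⊥) {a : H} (ha : ∀ l ∈ K, a * l = l * a) : a = 1 := by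
  have h1 : a ∈ centralizer (K : Set H) := by
    rw [mem_centralizer_iff]
    intro l hl
    exact (ha l hl).symm
  rw [hc, mem_bot] at h1
  exact h1

theorem inn (hc : centralizer (K : Set H) = ⊥) {a g : H} (_hg : g ∈ K) (ha : ∀ l ∈ K, a * l * a⁻¹ = g * l * g⁻¹) :
    a = g := by
  have h1 : g⁻¹ * a = 1 := by
    apply faith hc
    intro l hl
    have h3 : a * l = g * l * g⁻¹ * a := by rw [← ha l hl]; group
    calc g⁻¹ * a * l = g⁻¹ * (a * l) := by group
      _ = g⁻¹ * (g * l * g⁻¹ * a) := by rw [h3]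
      _ = _ := by group
  exact (inv_mul_eq_one.1 h1).symm

theorem moved (h : HW ρ Y M C Θ J W₀) {y : H} (hy : y ≠ 1) : ∃ v, ρ y v ≠ v := by
  by_contra hcon
  push Not at hcon
  apply hy
  apply h.inj
  rw [map_one]
  ext v
  exact hcon v

/-- `|W : C_W(B)| ≤ |A| max(1, |B|/2)` -/
theorem index_le {B A : Subgroup H} {N : Subgroup W} {g : H} (d : Dir ρ M C Θ B A N g) :
    (CS ρ B).index ≤ Nat.card A ∨ 2 * (CS ρ B).index ≤ Nat.card A * Nat.card B := by
  have h1 := d.ineq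
  have h2 : (M.map (MulAut.conj g).toMonoidHom).relIndex A ≤ Nat.card A := by
    have h3 := ((M.map (MulAut.conj g).toMonoidHom).subgroupOf A).index_dvd_card
    exact Nat.le_of_dvd Nat.card_pos h3
  by_cases hN : N ≤ CS ρ B
  · left
    rw [relIndex_eq_one.2 hN, mul_one] at h1
    exact h1.trans h2
  · right
    have h3 := d.nff N le_rfl hN ⊥ bot_le (fun b hb n _ => by rw [mem_bot.1 hb, map_one]; rfl)
    rw [relIndex_bot_left] at h3
    calc 2 * (CS ρ B).index ≤ 2 * ((M.map (MulAut.conj g).toMonoidHom).relIndex A * (CS ρ B).relIndex N) :=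
          Nat.mul_le_mul_left _ h1
      _ = (M.map (MulAut.conj g).toMonoidHom).relIndex A * (2 * (CS ρ B).relIndex N) := by ring
      _ ≤ _ := Nat.mul_le_mul h2 h3

theorem exists_ne {B : Subgroup H} (hB : B ≠ ⊥) : ∃ b ∈ B, b ≠ 1 := by
  obtain ⟨⟨b, hb⟩, hb'⟩ := ne_bot_iff_exists_ne_one.1 hB
  exact ⟨b, hb, fun h => hb' (Subtype.ext h)⟩

/-! ### `J₁` -/

section jone

theorem arith : ∀ e ∈ Nat.divisors 18, 9240 / e % 19 = 1 → e = 6 := by decide +kernel

/-- the centraliser of an element of order 19 -/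
theorem card_cent {J : Type*} [Group J] [Finite J] [IsSimpleGroup J] (h : Local J) (hc : Nat.card J = 175560) {y : J}
    (hy : orderOf y = 19) : Nat.card (centralizer ({y} : Set J)) = 19 := by
  have hB : JFacts.Big (orderOf y) := Or.inr (Or.inr hy)
  have h1 := JFacts.cent_big h hc hB
  have h2 : 19 ∣ Nat.card (centralizer ({y} : Set J)) := by
    rw [← hy]; exact JFacts.mem_cent_dvd rfl
  obtain ⟨c, hcc⟩ := h2
  have h3 : c ∣ 77 := by
    have h4 : 19 * c ∣ 19 * 77 := by rw [← hcc]; exact h1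
    exact Nat.dvd_of_mul_dvd_mul_left (by norm_num) h4
  have h5 : c = 1 := by
    by_contra hc1
    obtain ⟨p, hp, hpc⟩ := Nat.exists_prime_and_dvd hc1
    have hp' : p ∣ 7 * 11 := hpc.trans h3
    have hpp : p = 7 ∨ p = 11 := by
      rcases hp.dvd_mul.1 hp' with h6 | h6
      · exact Or.inl ((Nat.prime_dvd_prime_iff_eq hp (by norm_num)).1 h6)
      · exact Or.inr ((Nat.prime_dvd_prime_iff_eq hp (by norm_num)).1 h6)
    have : Fact p.Prime := ⟨hp⟩
    obtain ⟨x, hx⟩ := exists_prime_orderOf_dvd_card' (G := centralizer ({y} : Set J)) p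
      (by rw [hcc]; exact hpc.mul_left _)
    have hx' : orderOf (x : J) = p := by rw [Subgroup.orderOf_coe, hx]
    refine JFacts.big_false h hc (x := (x : J)) (y := y) ?_ hB ?_ (mem_centralizer_singleton_iff.1 x.2)
    · rw [hx']
      rcases hpp with h6 | h6
      · exact Or.inl h6
      · exact Or.inr (Or.inl h6)
    · rw [hx', hy]
      rcases hpp with h6 | h6 <;> omega
  rw [hcc, h5]

/-- an element of order 19 is inverted by an involution -/
theorem exists_real {J : Type*} [Group J] [Finite J] (h : Local J) {k : J} (hk : orderOf k = 2) :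
    ∃ w y : J, orderOf y = 19 ∧ w * w = 1 ∧ w ≠ 1 ∧ w * y * w⁻¹ = y⁻¹ := by
  have hJ := JFacts.isJ1_of_local h hk
  have hs := hJ.1
  have hc := hJ.2
  have : Fact (Nat.Prime 19) := ⟨by norm_num⟩
  obtain ⟨y, hy⟩ := exists_prime_orderOf_dvd_card' (G := J) 19 (by rw [hc]; norm_num)
  obtain ⟨e, m, he, hprod, hmod, hidx⟩ := JFacts.count (K := J) (s := 19) (by norm_num) hy (by rw [hc]; norm_num)
  rw [card_cent h hc hy, hc] at hprod
  have he0 : 0 < e := Nat.pos_of_ne_zero (by rintro rfl; norm_num at hprod)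
  have h1 : e * m = 9240 := by
    have h2 : 19 * (e * m) = 19 * 9240 := by rw [← mul_assoc, hprod]
    exact Nat.eq_of_mul_eq_mul_left (by norm_num) h2
  have hm : m = 9240 / e := by rw [← h1, Nat.mul_div_cancel_left _ he0]
  have he6 : e = 6 := arith e (Nat.mem_divisors.2 ⟨he, by norm_num⟩) (by rw [← hm]; exact hmod)
  have hm' : m = 1540 := by rw [hm, he6]
  have hN : Nat.card (normalizer (zpowers y : Set J)) = 114 := by
    have h2 := (normalizer (zpowers y : Set J)).card_mul_index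
    rw [← hidx, hm', hc] at h2
    omega
  have : Fact (Nat.Prime 2) := ⟨Nat.prime_two⟩
  obtain ⟨w, hw⟩ := exists_prime_orderOf_dvd_card' (G := normalizer (zpowers y : Set J)) 2 (by rw [hN]; norm_num)
  have hwo : orderOf (w : J) = 2 := by rw [Subgroup.orderOf_coe, hw]
  obtain ⟨hw1, hw2⟩ := JInner.sq_of_two hwo
  refine ⟨w, y, hy, hw1, hw2, ?_⟩
  have hwy : (w : J) * y * (w : J)⁻¹ ∈ zpowers y := by
    exact (mem_normalizer_iff.1 w.2 y).1 (mem_zpowers y)
  refine (eq_or_inv (r := 19) (by norm_num) hy hw1 hwy).resolve_left fun hcon => ?_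
  have h3 := JFacts.mem_cent_dvd hcon
  rw [card_cent h hc hy, hwo] at h3
  norm_num at h3

theorem jone_le (hn : K.Normal) (hc : centralizer (K : Set H) = ⊥) (hJ : Local K) {k : K} (hk : orderOf k = 2)
    (B : Subgroup H) : B ≤ K := by
  intro a ha
  obtain ⟨g, hg⟩ := JInner.inner hJ k hk (MulAut.conjNormal a : MulAut K)
  rw [inn hc g.2 (a := a) fun l hl => ?_]
  · exact g.2
  · have h1 := congrArg Subtype.val (hg ⟨l, hl⟩)
    rw [MulAut.conjNormal_apply] at h1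
    exact h1

theorem jone_card (hn : K.Normal) (hc : centralizer (K : Set H) = ⊥) (hJ : Local K) {k : K} (hk : orderOf k = 2)
    {B : Subgroup H} (hB : ∀ b ∈ B, b * b = 1) : Nat.card B ≤ 8 := by
  have h2 : IsPGroup 2 B := fun a => ⟨1, by
    rw [pow_one, pow_two]; exact Subtype.ext (hB a a.2)⟩
  have : Fact (Nat.Prime 2) := ⟨Nat.prime_two⟩
  obtain ⟨n, hn'⟩ := IsPGroup.iff_card.1 h2
  have h3 : Nat.card B ∣ Nat.card K := Subgroup.card_dvd_of_le (jone_le hn hc hJ hk B)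
  have h4 : n ≤ 3 := by
    by_contra hlt
    apply hJ.two
    refine Dvd.dvd.trans ?_ h3
    rw [hn']
    exact pow_dvd_pow 2 (show 4 ≤ n by omega)
  rw [hn']
  exact Nat.pow_le_pow_right (by norm_num) h4

theorem eighteen_le : ∀ d, 0 < d → 19 ∣ 2 ^ d - 1 → 2 * 9 ≤ d := by
  intro d hd h1
  by_contra hlt
  have hd' : d < 18 := by omega
  interval_cases d <;> norm_num at h1

theorem jone_index [Finite W] (h : HW ρ Y M C Θ J W₀) (hn : K.Normal) (hc : centralizer (K : Set H) = ⊥) (hJ : Local K)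
    {k : K} (hk : orderOf k = 2) {a : H} (haa : a * a = 1) (ha1 : a ≠ 1) : 2 ^ 9 ≤ (fx ρ a).index := by
  have haL : a ∈ K := jone_le hn hc hJ hk ⊤ trivial
  obtain ⟨w, y, hy, hw, hw1, hwy⟩ := exists_real hJ hk
  have hao : orderOf (⟨a, haL⟩ : K) = 2 :=
    JInner.two_of_sq (Subtype.ext haa) fun h1 => ha1 (congrArg Subtype.val h1)
  obtain ⟨g, hg⟩ := hJ.conj _ _ hao (JInner.two_of_sq hw hw1)
  have hgw : (g : H) * a * (g : H)⁻¹ = (w : H) := congrArg Subtype.val hg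
  have hyH : orderOf (y : H) = 19 := by rw [Subgroup.orderOf_coe, hy]
  have hy1 : (y : H) ≠ 1 := by
    intro h1
    rw [h1, orderOf_one] at hyH
    omega
  have h1 : 2 ^ 9 ≤ (fx ρ (w : H)).index := by
    refine le_index (a := (w : H)) (y := (y : H)) h.sq (l := 19) (by norm_num) (by norm_num) hyH
      (moved h hy1) ?_ eighteen_le
    exact congrArg Subtype.val hwy
  rwa [← hgw, index_fx_conj] at h1

end jone

/-! ### `Sz(q)` -/

section sz

theorem sz_mem (hn : K.Normal) (hc : centralizer (K : Set H) = ⊥) (hs : Cfsg.Lie.IsoSuzuki K) {a : H}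
    (ha : a * a = 1) : a ∈ K := by
  obtain ⟨F, iF, iF', m, hm, hF, ⟨R⟩⟩ := Cfsg.Agent.ThreePrime.SzRel.exists_rel hs
  obtain ⟨j, hj⟩ := R.inner hm hF (MulAut.conjNormal a) ⟨1, by
    rw [pow_one, pow_two, ← map_mul, ha, map_one]⟩
  rw [inn hc j.2 (a := a) fun k hk => ?_]
  · exact j.2
  · have h1 := congrArg (fun α : MulAut K => ((α ⟨k, hk⟩ : K) : H)) hj
    simpa [MulAut.conjNormal_apply] using h1

theorem sz_facts [Finite W] (h : HW ρ Y M C Θ J W₀) (hn : K.Normal) (hc : centralizer (K : Set H) = ⊥)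
    (hs : Cfsg.Lie.IsoSuzuki K) : ∃ q : ℕ, 2 ≤ q ∧ (∀ B : Subgroup H, (∀ b ∈ B, b * b = 1) → Nat.card B ≤ q) ∧
      ∀ a : H, a * a = 1 → a ≠ 1 → q ^ 2 ≤ (fx ρ a).index := by
  obtain ⟨f, h1, -, -, h4, h5⟩ := ClaimC.Sz.index_ge (ρ := ρ) hs h.sq (fun y _ hy => moved h hy)
  refine ⟨2 ^ f, ?_, ?_, ?_⟩
  · calc 2 = 2 ^ 1 := by norm_num
      _ ≤ 2 ^ f := Nat.pow_le_pow_right (by norm_num) (by omega)
  · intro B hB
    have hBK : B ≤ K := fun b hb => sz_mem hn hc hs (hB b hb)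
    have h6 := h4 (B.subgroupOf K) (fun b hb => Subtype.ext (hB b hb))
    rwa [Nat.card_congr (subgroupOfEquivOfLe hBK).toEquiv] at h6
  · intro a ha ha1
    have h6 := h5 a ⟨a, sz_mem hn hc hs ha⟩ (Subtype.ext ha) (fun h => ha1 (congrArg Subtype.val h)) (fun y _ => rfl)
    rwa [← pow_mul, mul_comm f 2]

end sz

/-! ### numerical kill -/

theorem CS_index_ge {B : Subgroup H} [Finite W] {n : ℕ} (hB : B ≠ ⊥) (hs : ∀ b ∈ B, b * b = 1)
    (hi : ∀ a : H, a * a = 1 → a ≠ 1 → n ≤ (fx ρ a).index) : n ≤ (CS ρ B).index := by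
  obtain ⟨b, hb, hb1⟩ := exists_ne hB
  exact (hi b (hs b hb) hb1).trans (index_le_of_le (CS_le_fx hb))

theorem of_bound {B A : Subgroup H} {N : Subgroup W} {g : H} (d : Dir ρ M C Θ B A N g) {q : ℕ} (hq : 2 ≤ q)
    (hA : Nat.card A ≤ q) (hB : Nat.card B ≤ q) (hi : q ^ 2 ≤ (CS ρ B).index) : False := by
  rcases index_le d with h1 | h1
  · nlinarith
  · have h2 : Nat.card A * Nat.card B ≤ q * q := Nat.mul_le_mul hA hB
    nlinarith

theorem two_le_index [Finite W] (h : HW ρ Y M C Θ J W₀) {a : H} (ha1 : a ≠ 1) : 2 ≤ (fx ρ a).index := by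
  obtain ⟨v, hv⟩ := moved h ha1
  have h1 : (fx ρ a).index ≠ 1 := by
    rw [Ne, index_eq_one]
    intro h2
    apply hv
    have : v ∈ fx ρ a := by rw [h2]; trivial
    exact this
  have h2 : (fx ρ a).index ≠ 0 := index_ne_zero_of_finite
  omega

theorem noo_of_le_two [Finite W] (h : HW ρ Y M C Θ J W₀) {B : Subgroup H} (hB : Nat.card B ≤ 2) :
    Nat.card B ≤ (CS ρ B).index := by
  by_cases hb : B = ⊥
  · rw [hb, card_bot]
    exact Nat.pos_of_ne_zero index_ne_zero_of_finite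
  · obtain ⟨b, hb, hb1⟩ := exists_ne hb
    exact hB.trans ((two_le_index h hb1).trans (index_le_of_le (CS_le_fx hb)))

theorem noo_of_bound [Finite W] {B : Subgroup H} (hs : ∀ b ∈ B, b * b = 1) {q : ℕ} (hB : Nat.card B ≤ q)
    (hi : ∀ a : H, a * a = 1 → a ≠ 1 → q ≤ (fx ρ a).index) : Nat.card B ≤ (CS ρ B).index := by
  by_cases hb : B = ⊥
  · rw [hb, card_bot]
    exact Nat.pos_of_ne_zero index_ne_zero_of_finite
  · exact hB.trans (CS_index_ge hb hs hi)

/-! ### `PGL₂(p)` -/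

section psl

open Matrix Cfsg.Agent.Lib.SL2Mat Cfsg.Agent.OddCyclic.FFSl2 Cfsg.Agent.OddCyclic.FFPslMat
  Cfsg.Agent.OddCyclic.PGLTorus

variable [K.Normal] {F : Type*} [Field F] [Finite F] (R : Cfsg.Agent.GH.L2Aut.Rep F K)

local notation "ψ" => (MulAut.conjNormal (H := K))

theorem psi_ne (hc : centralizer (K : Set H) = ⊥) {a : H} (ha1 : a ≠ 1) : ψ a ≠ 1 := by
  intro h1
  apply ha1
  apply faith hc
  intro l hl
  have h2 := congrArg (fun α : MulAut K => ((α ⟨l, hl⟩ : K) : H)) h1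
  simp only [MulAut.conjNormal_apply, MulAut.one_apply] at h2
  exact mul_inv_eq_iff_eq_mul.1 h2

theorem psi_sq {a : H} (ha : a * a = 1) : ψ a * ψ a = 1 := by
  rw [← map_mul, ha, map_one]

include R in
/-- the matrix of an involution -/
theorem exists_mat (hc : centralizer (K : Set H) = ⊥) (hF : (Nat.card F).Prime) {a : H} (ha : a * a = 1)
    (ha1 : a ≠ 1) : ∃ γ : GL (Fin 2) F, γ.1.trace = 0 ∧ R.gl γ = ψ a := by
  obtain ⟨γ, hγ⟩ := R.mem_PGL.1 (mem_PGL_of_prime R hF (ψ a))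
  refine ⟨γ, ?_, hγ.symm⟩
  apply trace_of_sq R
  · rw [← hγ]; exact psi_ne hc ha1
  · rw [← hγ]; exact psi_sq ha

/-- the matrices of two different commuting involutions are orthogonal -/
theorem orth (hc : centralizer (K : Set H) = ⊥) {a b : H} (hab2 : a * b * (a * b) = 1) (hab : a * b ≠ 1)
    {γ δ : GL (Fin 2) F} (hγ : R.gl γ = ψ a) (hδ : R.gl δ = ψ b) : (γ.1 * δ.1).trace = 0 := by
  have h1 : R.gl (γ * δ) = ψ (a * b) := by rw [map_mul, map_mul, hγ, hδ]
  have h2 := trace_of_sq R (g := γ * δ) (by rw [h1]; exact psi_ne hc hab)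
    (by rw [h1]; exact psi_sq hab2)
  exact h2

include R in
theorem card_le_four (hc : centralizer (K : Set H) = ⊥) (hF : (Nat.card F).Prime) {A : Subgroup H}
    (hs : ∀ a ∈ A, a * a = 1) : Nat.card A ≤ 4 := by
  by_contra hcon
  push Not at hcon
  obtain ⟨a, ha, ha1, -, -, -⟩ := JInner.exists_notin A hcon 1 1 1 1
  obtain ⟨b, hb, hb1, hba, -, -⟩ := JInner.exists_notin A hcon 1 a 1 1
  obtain ⟨c, hc', hc1, hca, hcb, hcab⟩ := JInner.exists_notin A hcon 1 a b (a * b)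
  have hinv : ∀ x ∈ A, x⁻¹ = x := fun x hx => inv_eq_of_mul_eq_one_left (hs x hx)
  have hne : ∀ x ∈ A, ∀ y ∈ A, x ≠ y → x * y ≠ 1 := by
    intro x hx y hy hxy h1
    apply hxy
    rw [← hinv x hx]
    exact (eq_inv_of_mul_eq_one_right h1).symm ▸ rfl
  obtain ⟨γ, hγ0, hγ⟩ := exists_mat R hc hF (hs a ha) ha1
  obtain ⟨δ, hδ0, hδ⟩ := exists_mat R hc hF (hs b hb) hb1
  obtain ⟨ε, hε0, hε⟩ := exists_mat R hc hF (hs c hc') hc1
  have h1 := orth R hc (hs _ (mul_mem ha hb)) (hne a ha b hb hba.symm) hγ hδ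
  have h2 := orth R hc (hs _ (mul_mem ha hc')) (hne a ha c hc' hca.symm) hγ hε
  have h3 := orth R hc (hs _ (mul_mem hb hc')) (hne b hb c hc' hcb.symm) hδ hε
  have h4 := orth R hc (hs _ (mul_mem (mul_mem ha hb) hc')) (hne (a * b) (mul_mem ha hb) c hc' hcab.symm)
    (γ := γ * δ) (δ := ε) (by rw [map_mul, map_mul, hγ, hδ]) hε
  exact no_three hγ0 hδ0 hε0 h1 h2 h3 h4 R.two

theorem mem_of_isSquare (hc : centralizer (K : Set H) = ⊥) {a : H} {γ : GL (Fin 2) F} (hγ : R.gl γ = ψ a)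
    (hs : IsSquare γ.1.det) : a ∈ K := by
  obtain ⟨y, hy⟩ := R.gl_mem_inn.2 hs
  rw [inn hc y.2 (a := a) fun l hl => ?_]
  · exact y.2
  · rw [hγ] at hy
    have h1 := congrArg (fun α : MulAut K => ((α ⟨l, hl⟩ : K) : H)) hy
    simp only [MulAut.conjNormal_apply, MulAut.conj_apply] at h1
    exact h1.symm

include R in
/-- `|H : K| ≤ 2` -/
theorem mul_mem_K (hc : centralizer (K : Set H) = ⊥) (hF : (Nat.card F).Prime) {a b : H} (ha : a ∉ K) (hb : b ∉ K) :
    a * b ∈ K := by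
  obtain ⟨γ, hγ⟩ := R.mem_PGL.1 (mem_PGL_of_prime R hF (ψ a))
  obtain ⟨δ, hδ⟩ := R.mem_PGL.1 (mem_PGL_of_prime R hF (ψ b))
  have h1 : ¬ IsSquare γ.1.det := fun h => ha (mem_of_isSquare R hc hγ.symm h)
  have h2 : ¬ IsSquare δ.1.det := fun h => hb (mem_of_isSquare R hc hδ.symm h)
  apply mem_of_isSquare R hc (γ := γ * δ) (by rw [map_mul, map_mul, ← hγ, ← hδ])
  rw [Units.val_mul, Matrix.det_mul]
  exact Cfsg.Agent.GH.L2Aut.isSquare_mul_of_not h1 h2

include R in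
/-- subgroups of order more than 2 meet `K` -/
theorem exists_mem_K (hc : centralizer (K : Set H) = ⊥) (hF : (Nat.card F).Prime) {B : Subgroup H}
    (hB : 2 < Nat.card B) (hs : ∀ b ∈ B, b * b = 1) : ∃ b ∈ B, b ∈ K ∧ b ≠ 1 := by
  by_contra hcon
  push Not at hcon
  have h1 : ∀ b ∈ B, b ≠ 1 → b ∉ K := fun b hb hb1 hbK => hb1 (hcon b hb hbK)
  by_cases hB1 : B = ⊥
  · rw [hB1, card_bot] at hB
    omega
  obtain ⟨a, ha, ha1⟩ := exists_ne hB1
  have h2 : Nat.card B ≤ 2 := by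
    refine FFPsl.card_le_two_of (a := a) fun b hb => ?_
    by_cases hb1 : b = 1
    · exact Or.inl hb1
    right
    have h3 := hcon _ (mul_mem hb ha) (mul_mem_K R hc hF (h1 b hb hb1) (h1 a ha ha1))
    have h4 := eq_inv_of_mul_eq_one_left h3
    rw [h4]
    exact inv_eq_of_mul_eq_one_left (hs a ha)
  omega

include R in
theorem psl_index [Finite W] (h : HW ρ Y M C Θ J W₀) (hc : centralizer (K : Set H) = ⊥)
    (hF : (Nat.card F).Prime) (h11 : 11 ≤ Nat.card F) {B : Subgroup H} (hB : 2 < Nat.card B)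
    (hs : ∀ b ∈ B, b * b = 1) : 8 < (CS ρ B).index := by
  by_contra hcon
  push Not at hcon
  obtain ⟨b, hb, hbK, hb1⟩ := exists_mem_K R hc hF hB hs
  have h1 : (fx ρ b).index ≤ 8 := (index_le_of_le (CS_le_fx hb)).trans hcon
  refine Psl.false_of_index R (ρ := ρ.comp K.subtype)
    (CompBasic.oddCyc_of_injective h.cyc K.subtype K.subtype_injective) hF h11 h.sq ?_ (a := ⟨b, hbK⟩)
    (fun h => hb1 (congrArg Subtype.val h)) (Subtype.ext (hs b hb)) h1
  intro y hy
  exact moved h (fun h => hy (Subtype.ext h))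

include R in
theorem psl_noo [Finite W] (h : HW ρ Y M C Θ J W₀) (hc : centralizer (K : Set H) = ⊥)
    (hF : (Nat.card F).Prime) (h11 : 11 ≤ Nat.card F) {B : Subgroup H}
    (hs : ∀ b ∈ B, b * b = 1) : Nat.card B ≤ (CS ρ B).index := by
  by_cases hB : Nat.card B ≤ 2
  · exact noo_of_le_two h hB
  · have h1 := psl_index R h hc hF h11 (by omega) hs
    have h2 := card_le_four R hc hF hs
    omega

include R in
theorem psl_false [Finite W] (h : HW ρ Y M C Θ J W₀) (hc : centralizer (K : Set H) = ⊥)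
    (hF : (Nat.card F).Prime) (h11 : 11 ≤ Nat.card F) {B A : Subgroup H} {N : Subgroup W} {g : H}
    (d : Dir ρ M C Θ B A N g) (hB : 2 < Nat.card B) : False := by
  have h1 := psl_index R h hc hF h11 hB d.Bsq
  have h2 := card_le_four R hc hF d.Bsq
  have h3 := card_le_four R hc hF d.Asq
  rcases index_le d with h4 | h4
  · omega
  · have h5 : Nat.card A * Nat.card B ≤ 4 * 4 := Nat.mul_le_mul h3 h2
    omega

end psl

end Cfsg.Agent.OddCyclic.EmpE.Kill
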