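import Cfsg.Agent.OddCyclic.EmpE.Struct
import Cfsg.Agent.OddCyclic.EmpR.Quad
import Cfsg.Agent.OddCyclic.Eq.PrimR
import Cfsg.Agent.OddCyclic.EmpC.LemN
import Cfsg.Agent.OddCyclic.L2Model

/-!
# S0342 T_cyc (Empty), (4.3): the case `K ≅ SL₂(q)`, `q = 2^f ≥ 4`

* `Lin.le_K` : elementary abelian subgroups of `Θ` are contained in `K` and have order at most `q`;
* `Lin.card_le_index` : `|B| ≤ |W : C_W(B)|`;
* `Lin.index_eq` : `W/C_W(K)` is a natural module, `|W : C_W(K)| = q²`.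
-/

set_option autoImplicit false
set_option linter.unusedSectionVars false

namespace Cfsg.Agent.OddCyclic.EmpE.Lin

open Subgroup Cfsg Cfsg.Agent.OddCyclic.T1Module Cfsg.Agent.OddCyclic.FFBasic Cfsg.Agent.OddCyclic.FFRed
  Cfsg.Agent.OddCyclic.EmpNSDefs Cfsg.Agent.OddCyclic.EmpE.Struct Cfsg.Agent.Lib.SL2Mat Cfsg.Agent.Lib.AutSL2
open Cfsg.Agent.Classification.QDW.TypeHom (typ)
open Cfsg.Agent.OddCyclic.FFOuter (ac e_ac ac_coe ac_eq_iff rr fx_rr)
open Cfsg.Agent.OddCyclic.EmpC (Inv sub quo sub_apply quo_apply fx_sub quo_sq index_mul_le CM mem_CM CM_le CM_inv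
  CS_inv CS_eq_top fixed_le odd_relIndex trivial_of_comm)
open scoped Pointwise

universe u

/-! ### matrices -/

section mat

variable {F : Type*} [Field F]

local notation "SL2" => Matrix.SpecialLinearGroup (Fin 2) F

/-- an element mapping a transvection `up c` into the upper unitriangular group is upper triangular -/
theorem ent_eq_zero {s : SL2} {c : F} (hc : c ≠ 0) (h : s * up c * s⁻¹ ∈ upG F) : ent s 1 0 = 0 := by
  obtain ⟨b, hb⟩ := h
  have h1 := congrArg (fun y => ent y 1 0) hb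
  have h2 : ent (s * up c * s⁻¹) 1 0 = -(c * (ent s 1 0) ^ 2) := by
    have hd := ent_inv s
    rw [ent_mul, ent_mul, ent_mul, hd]
    simp only [mk_00, mk_10, up_00, up_01, up_10, up_11]
    ring
  simp only [up_10] at h1
  rw [h2] at h1
  have h3 : c * (ent s 1 0) ^ 2 = 0 := by
    have := neg_eq_zero.1 h1.symm
    exact this
  rcases mul_eq_zero.1 h3 with h4 | h4
  · exact absurd h4 hc
  · exact pow_eq_zero_iff (two_ne_zero) |>.1 h4

theorem pow_ent {k : SL2} (h : ent k 1 0 = 0) (n : ℕ) : ent (k ^ n) 1 0 = 0 ∧ ent (k ^ n) 0 0 = (ent k 0 0) ^ n := by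
  induction n with
  | zero => simp
  | succ n ih =>
    rw [pow_succ, ent_mul, ent_mul, h, ih.1, ih.2]
    constructor
    · ring
    · ring

theorem ent_eq_one [CharP F 2] {k : SL2} (h : ent k 1 0 = 0) {n : ℕ} (hn : k ^ 2 ^ n = 1) : ent k 0 0 = 1 := by
  have h1 := (pow_ent h (2 ^ n)).2
  rw [hn, ent_one_00] at h1
  have h2 : (ent k 0 0 - 1) ^ 2 ^ n = 0 := by
    rw [sub_pow_char_pow, ← h1, one_pow, sub_self]
  exact sub_eq_zero.1 (pow_eq_zero_iff (by positivity) |>.1 h2)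

/-- an upper triangular 2-element is unitriangular -/
theorem mem_upG_of [CharP F 2] {k : SL2} (h : ent k 1 0 = 0) {n : ℕ} (hn : k ^ 2 ^ n = 1) : k ∈ upG F := by
  have h0 := ent_eq_one h hn
  refine ⟨ent k 0 1, ?_⟩
  apply ext_ent
  · rw [up_00, h0]
  · rw [up_01]
  · rw [up_10, h]
  · have hdet := det_eq k
    rw [h, h0] at hdet
    rw [up_11]
    linear_combination -hdet

/-- the automorphism `α` normalises the unitriangular group: it acts on the torus modulo this group by `typ α` -/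
theorem typ_eq_one [Finite F] [CharP F 2] {α : MulAut SL2} (hα : ∀ x ∈ upG F, α x ∈ upG F)
    (h2 : ∀ l : F, ∀ hl : l ≠ 0, ∃ n : ℕ, (α (dg l hl) * (dg l hl)⁻¹) ^ 2 ^ n = 1) : typ α = 1 := by
  obtain ⟨s, hs⟩ := L2Model.exists_form α
  set σ := typ α with hσ
  have hs0 : ent s 1 0 = 0 := by
    refine ent_eq_zero (c := σ 1) ?_ ?_
    · rw [map_one]; exact one_ne_zero
    · have h3 := hα (up 1) (up_mem 1)
      rw [hs, MulAut.mul_apply, fieldAut_up, MulAut.conj_apply] at h3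
      exact h3
  ext l
  by_cases hl : l = 0
  · rw [hl, map_zero, map_zero]
  have hdet := det_eq s
  rw [hs0] at hdet
  obtain ⟨n, hn⟩ := h2 l hl
  have e1 : α (dg l hl) = s * fieldAut σ (dg l hl) * s⁻¹ := by
    conv_lhs => rw [hs]
    rw [MulAut.mul_apply, MulAut.conj_apply]
  have hdl : ent s 0 0 * ent s 1 1 = 1 := by linear_combination hdet
  have a10 : ent (α (dg l hl)) 1 0 = 0 := by
    rw [e1, ent_mul, ent_mul, ent_mul, ent_inv]
    simp only [mk_00, mk_10, fieldAut_ent, dg_00, dg_01, dg_10, dg_11, hs0, map_zero]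
    ring
  have a00 : ent (α (dg l hl)) 0 0 = σ l := by
    rw [e1, ent_mul, ent_mul, ent_mul, ent_inv]
    simp only [mk_00, mk_10, fieldAut_ent, dg_00, dg_01, dg_10, dg_11, hs0, map_zero]
    linear_combination (σ l) * hdl
  have k10 : ent (α (dg l hl) * (dg l hl)⁻¹) 1 0 = 0 := by
    rw [ent_mul, ent_inv, a10]
    simp only [mk_00, mk_10, dg_10, dg_11]
    ring
  have k00 : ent (α (dg l hl) * (dg l hl)⁻¹) 0 0 = σ l * l⁻¹ := by
    rw [ent_mul, ent_inv, a00]
    simp only [mk_00, mk_10, dg_10, dg_11]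
    ring
  have h4 := ent_eq_one k10 hn
  rw [k00] at h4
  have h5 : σ l = l := by
    rw [mul_inv_eq_one₀ hl] at h4
    exact h4
  rw [h5]; rfl

end mat

/-! ### the subgroup `Θ` -/

theorem exists_syl_le {X : Type*} [Group X] [Finite X] {D : Subgroup X} (hD : ¬ 2 ∣ D.index) :
    ∃ P : Sylow 2 X, (P : Subgroup X) ≤ D := by
  have : Fact (Nat.Prime 2) := ⟨Nat.prime_two⟩
  obtain ⟨Q⟩ : Nonempty (Sylow 2 D) := inferInstance
  have h1 : IsPGroup 2 ((Q : Subgroup D).map D.subtype) := Q.2.map _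
  have h2 : ¬ 2 ∣ ((Q : Subgroup D).map D.subtype).index := by
    intro h3
    rw [Subgroup.index_map_subtype] at h3
    rcases (Nat.Prime.dvd_mul Nat.prime_two).1 h3 with h4 | h4
    · exact Q.not_dvd_index h4
    · exact hD h4
  refine ⟨h1.toSylow h2, ?_⟩
  intro x hx
  have hx' : x ∈ (Q : Subgroup D).map D.subtype := hx
  obtain ⟨y, -, rfl⟩ := hx'
  exact y.2

section

variable {H : Type u} [Group H] [Finite H] {W : Type*} [CommGroup W] {ρ : H →* MulAut W}
  {Y M C Θ J K : Subgroup H} {W₀ : Subgroup W} {F : Type} [Field F] [Fintype F] [CharP F 2]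

local notation "SL2" => Matrix.SpecialLinearGroup (Fin 2) F

theorem not_two_dvd (h : HW ρ Y M C Θ J W₀) (s : Simp Y M C K) : ¬ 2 ∣ Y.relIndex K := by
  obtain ⟨T, hT⟩ := exists_syl_le h.syl
  have hn := s.norm
  have h1 := odd_relIndex T K
  intro h2
  have h3 := h2.trans (Subgroup.relIndex_dvd_of_le_left K hT)
  rw [← Nat.not_even_iff_odd, even_iff_two_dvd] at h1
  exact h1 h3

/-- the coordinates on `K` can be chosen with the unitriangular group in `Y` -/
theorem exists_e (h : HW ρ Y M C Θ J W₀) (s : Simp Y M C K) (e : SL2 ≃* K) :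
    ∃ e' : SL2 ≃* K, ∀ x ∈ upG F, (e' x : H) ∈ Y := by
  have : Fact (Nat.Prime 2) := ⟨Nat.prime_two⟩
  have h1 : ¬ 2 ∣ ((Y.subgroupOf K).comap e.toMonoidHom).index := by
    rw [Subgroup.index_comap_of_surjective _ e.surjective]
    exact not_two_dvd h s
  obtain ⟨P, hP⟩ := exists_syl_le h1
  obtain ⟨g, hg⟩ := MulAction.exists_smul_eq SL2 (sylU F 2) P
  refine ⟨(MulAut.conj g).trans e, fun x hx => ?_⟩
  have h2 : g * x * g⁻¹ ∈ (P : Subgroup SL2) := by
    rw [← hg]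
    show g * x * g⁻¹ ∈ g • sylU F 2
    rw [mem_smul_sylow]
    have : g⁻¹ * (g * x * g⁻¹) * g = x := by group
    rw [this]
    exact hx
  exact hP h2

/-- the coordinates on `K` -/
structure Co (Y : Subgroup H) (e : SL2 ≃* K) : Prop where
  up : ∀ x ∈ upG F, (e x : H) ∈ Y

theorem ac_mem (h : HW ρ Y M C Θ J W₀) (s : Simp Y M C K) [K.Normal] (h4 : 4 ≤ Fintype.card F) {e : SL2 ≃* K}
    (c : Co Y e) {y : H} (hy : y ∈ Y) : ∀ x ∈ upG F, ac e y x ∈ upG F := by
  have : Fact (Nat.Prime 2) := ⟨Nat.prime_two⟩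
  have hs := isSimpleGroup_sl2 h4
  obtain ⟨D, hD⟩ : ∃ D : Subgroup SL2, D = (Y.subgroupOf K).comap e.toMonoidHom := ⟨_, rfl⟩
  have hmD : ∀ x, x ∈ D ↔ (e x : H) ∈ Y := by
    intro x
    rw [hD]; rfl
  have hDt : D ≠ ⊤ := by
    intro h1
    apply s.notM
    intro k hk
    obtain ⟨x, hx⟩ := e.surjective ⟨k, hk⟩
    have h2 := (hmD x).1 (by rw [h1]; trivial)
    rw [hx] at h2
    exact h.YM h2
  have h1 : ((sylU F 2 : Sylow 2 SL2) : Subgroup SL2) ≤ D := fun x hx => (hmD x).2 (c.up x hx)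
  have h2 : ((ac e y • sylU F 2 : Sylow 2 SL2) : Subgroup SL2) ≤ D := by
    intro x hx
    have h3 : x ∈ ac e y • sylU F 2 := hx
    rw [Eq.PrimR.mem_aut_smul] at h3
    rw [hmD]
    have h5 : x = ac e y ((ac e y)⁻¹ x) := by rw [MulAut.apply_inv_self]
    rw [h5, e_ac]
    exact mul_mem (mul_mem hy (c.up _ h3)) (inv_mem hy)
  have h3 : ac e y • sylU F 2 = sylU F 2 := by
    by_contra hne
    exact hDt (Eq.PrimR.gen Eq.PrimR.sl h2 h1 hne)
  intro x hx
  have h5 : ac e y x ∈ ac e y • sylU F 2 := by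
    rw [Eq.PrimR.mem_aut_smul, MulAut.inv_apply_self]
    exact hx
  rw [h3] at h5
  exact h5

theorem dg_mem_M (h : HW ρ Y M C Θ J W₀) (s : Simp Y M C K) [K.Normal] (h4 : 4 ≤ Fintype.card F) {e : SL2 ≃* K}
    (c : Co Y e) (l : F) (hl : l ≠ 0) : (e (dg l hl) : H) ∈ M := by
  obtain ⟨U, hU⟩ : ∃ U : Subgroup H, U = (upG F).map (K.subtype.comp e.toMonoidHom) := ⟨_, rfl⟩
  have hmU : ∀ x : SL2, (e x : H) ∈ U ↔ x ∈ upG F := by
    intro x
    rw [hU, Subgroup.mem_map]
    constructor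
    · rintro ⟨z, hz, hzx⟩
      have h1 : z = x := e.injective (Subtype.ext hzx)
      rwa [← h1]
    · intro hx
      exact ⟨x, hx, rfl⟩
  have hU' : ∀ u ∈ U, ∃ x ∈ upG F, (e x : H) = u := by
    intro u hu
    rw [hU, Subgroup.mem_map] at hu
    exact hu
  have h1 : Y ≤ normalizer (U : Set H) := by
    intro y hy
    apply mem_normalizer_fintype
    intro u hu
    obtain ⟨x, hx, rfl⟩ := hU' u hu
    rw [← e_ac]
    exact (hmU _).2 (ac_mem h s h4 c hy x hx)
  have h2 : normalizer (U : Set H) ≠ ⊤ := by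
    intro h3
    have h5 : (e (wm 1 one_ne_zero) : H) ∈ normalizer (U : Set H) := by rw [h3]; trivial
    rw [mem_normalizer_iff] at h5
    have h6 := (h5 (e (up 1))).1 ((hmU _).2 (up_mem 1))
    have h7 : (e (wm 1 one_ne_zero) : H) * e (up 1) * (e (wm 1 one_ne_zero) : H)⁻¹ =
        e (wm 1 one_ne_zero * up 1 * (wm 1 one_ne_zero)⁻¹) := by
      rw [map_mul, map_mul, map_inv]; rfl
    rw [h7, hmU, wm_up, mul_inv_cancel_right] at h6
    obtain ⟨b, hb⟩ := h6
    have h8 := congrArg (fun z => ent z 1 0) hb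
    simp at h8
  have h3 : normalizer (U : Set H) ≤ M := (h.max _ h1).resolve_right h2
  apply h3
  apply mem_normalizer_fintype
  intro u hu
  obtain ⟨x, ⟨b, rfl⟩, rfl⟩ := hU' u hu
  have h7 : (e (dg l hl) : H) * e (up b) * (e (dg l hl) : H)⁻¹ = e (dg l hl * up b * (dg l hl)⁻¹) := by
    rw [map_mul, map_mul, map_inv]; rfl
  rw [h7, SetLike.mem_coe, hmU, dg_up, mul_inv_cancel_right]
  exact up_mem _

theorem two_pow (h : HW ρ Y M C Θ J W₀) (s : Simp Y M C K) {z : H} (hz : z ∈ Θ) (hzK : z ∈ K) :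
    ∃ n : ℕ, z ^ 2 ^ n = 1 := by
  have key : ∀ {r : ℕ}, r.Prime → r ∣ orderOf z → r = 2 := by
    intro r hr hrz
    by_contra hr2
    have h1 : orderOf z ∣ Nat.card K := Subgroup.orderOf_dvd_natCard K hzK
    have h2 : orderOf z ∣ Nat.card Θ := Subgroup.orderOf_dvd_natCard Θ hz
    exact h.cop K s.norm s.simp r hr hr2 (hrz.trans h1) (hrz.trans h2)
  refine ⟨(orderOf z).primeFactorsList.length, ?_⟩
  rw [← Nat.eq_prime_pow_of_unique_prime_dvd (orderOf_pos z).ne' key, pow_orderOf_eq_one]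

/-- **`Θ` is contained in the unitriangular group** -/
theorem exists_up (h : HW ρ Y M C Θ J W₀) (s : Simp Y M C K) (h4 : 4 ≤ Fintype.card F) {e : SL2 ≃* K}
    (c : Co Y e) {t : H} (ht : t ∈ Θ) : ∃ b : F, t = e (up b) := by
  have hn := s.norm
  have hac := ac_mem h s h4 c (h.Θ_le ht)
  have h1 : typ (ac e t) = 1 := by
    refine typ_eq_one hac ?_
    intro l hl
    have h2 : ((e (ac e t (dg l hl) * (dg l hl)⁻¹) : K) : H) = t * (e (dg l hl) * t⁻¹ * (e (dg l hl) : H)⁻¹) := by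
      rw [map_mul, map_inv, Subgroup.coe_mul, Subgroup.coe_inv, e_ac]
      group
    have h3 : ((e (ac e t (dg l hl) * (dg l hl)⁻¹) : K) : H) ∈ Θ := by
      rw [h2]
      exact mul_mem ht (h.Θ_norm _ (dg_mem_M h s h4 c l hl) _ (inv_mem ht))
    obtain ⟨n, hn⟩ := two_pow h s h3 (e _).2
    refine ⟨n, ?_⟩
    apply e.injective
    apply Subtype.ext
    rw [map_pow, Subgroup.coe_pow, hn, map_one]; rfl
  obtain ⟨x, hx⟩ := (L2Model.inner_iff _).1 h1
  have h2 : (e x : H)⁻¹ * t ∈ centralizer (K : Set H) := by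
    rw [mem_centralizer_iff]
    intro k hk
    rw [← ac_coe e x] at hx
    have h3 := (ac_eq_iff e _ _).1 hx k hk
    have h5 : t * k * t⁻¹ = (e x : H) * k * (e x : H)⁻¹ := h3
    calc k * ((e x : H)⁻¹ * t) = (e x : H)⁻¹ * ((e x : H) * k * (e x : H)⁻¹) * t := by group
      _ = (e x : H)⁻¹ * (t * k * t⁻¹) * t := by rw [h5]
      _ = (e x : H)⁻¹ * t * k := by group
  rw [s.cent, mem_bot] at h2
  have h3 : t = e x := by
    rw [← mul_one (e x : H), ← h2]; group
  have hx0 : ent x 1 0 = 0 := by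
    refine ent_eq_zero (c := 1) one_ne_zero ?_
    have h5 := hac (up 1) (up_mem 1)
    rw [hx, MulAut.conj_apply] at h5
    exact h5
  obtain ⟨n, hn2⟩ := two_pow h s ht (by rw [h3]; exact (e x).2)
  have h5 : x ^ 2 ^ n = 1 := by
    apply e.injective
    apply Subtype.ext
    rw [map_pow, Subgroup.coe_pow, ← h3, hn2, map_one]; rfl
  obtain ⟨b, hb⟩ := mem_upG_of hx0 h5
  exact ⟨b, by rw [h3, hb]⟩

theorem card_up_le {e : SL2 ≃* K} {B : Subgroup H} (hB : ∀ t ∈ B, ∃ b : F, t = e (up b)) :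
    Nat.card B ≤ Fintype.card F := by
  choose! f hf using hB
  rw [← Nat.card_eq_fintype_card]
  refine Nat.card_le_card_of_injective (fun t : B => f t) ?_
  intro x y hxy
  have hxy' : f x = f y := hxy
  apply Subtype.ext
  rw [hf x x.2, hf y y.2, hxy']

/-- (a) -/
theorem le_K (h : HW ρ Y M C Θ J W₀) (s : Simp Y M C K) (h4 : 4 ≤ Fintype.card F) (e : SL2 ≃* K) {B : Subgroup H}
    (hB : B ≤ Θ) (_hs : ∀ b ∈ B, b * b = 1) : B ≤ K ∧ Nat.card B ≤ Fintype.card F := by
  obtain ⟨e', he'⟩ := exists_e h s e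
  have h1 : ∀ t ∈ B, ∃ b : F, t = e' (up b) := fun t ht => exists_up h s h4 ⟨he'⟩ (hB ht)
  refine ⟨?_, card_up_le h1⟩
  intro t ht
  obtain ⟨b, rfl⟩ := h1 t ht
  exact (e' (up b)).2

variable [Finite W]

theorem rr_ne (h : HW ρ Y M C Θ J W₀) (h4 : 4 ≤ Fintype.card F) (e : SL2 ≃* K) [K.Normal] :
    ∃ g v, rr ρ e g v ≠ v := by
  have hs := isSimpleGroup_sl2 h4
  obtain ⟨g, hg⟩ := exists_ne (1 : SL2)
  refine ⟨g, ?_⟩
  by_contra hcon
  push Not at hcon
  apply hg
  have h1 : ρ (e g : H) = 1 := by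
    ext v
    exact hcon v
  have h2 := h.inj (h1.trans (map_one ρ).symm)
  apply e.injective
  apply Subtype.ext
  rw [h2, map_one]; rfl

theorem index_ge (h : HW ρ Y M C Θ J W₀) (h4 : 4 ≤ Fintype.card F) (e : SL2 ≃* K) [K.Normal] {x : H} (hx : x ∈ K)
    (hxx : x * x = 1) (hx1 : x ≠ 1) : Fintype.card F ≤ (fx ρ x).index := by
  have h1 := sl2_index h4 h.sq (rr ρ e) (rr_ne h h4 e) (a := e.symm ⟨x, hx⟩)
    (by rw [← map_mul, ← map_one e.symm]; congr 1; exact Subtype.ext hxx)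
    (fun h => hx1 (by
      have := congrArg e h
      rw [e.apply_symm_apply, map_one] at this
      exact congrArg Subtype.val this))
  rwa [fx_rr, e.apply_symm_apply] at h1

theorem CS_le_fx {B : Subgroup H} {b : H} (hb : b ∈ B) : CS ρ B ≤ fx ρ b := fun _ hv => hv b hb

theorem fx_le_index {B : Subgroup H} {b : H} (hb : b ∈ B) : (fx ρ b).index ≤ (CS ρ B).index :=
  Nat.le_of_dvd (Nat.pos_of_ne_zero Subgroup.index_ne_zero_of_finite) (Subgroup.index_dvd_of_le (CS_le_fx hb))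

/-- (b) -/
theorem card_le_index (h : HW ρ Y M C Θ J W₀) (s : Simp Y M C K) (h4 : 4 ≤ Fintype.card F) (e : SL2 ≃* K)
    {B : Subgroup H} (hB : B ≤ Θ) (hs : ∀ b ∈ B, b * b = 1) : Nat.card B ≤ (CS ρ B).index := by
  have hn := s.norm
  by_cases hB1 : B = ⊥
  · rw [hB1, card_bot]
    exact Nat.pos_of_ne_zero Subgroup.index_ne_zero_of_finite
  obtain ⟨⟨b, hb⟩, hb1⟩ := ne_bot_iff_exists_ne_one.1 hB1
  obtain ⟨h1, h2⟩ := le_K h s h4 e hB hs
  exact h2.trans ((index_ge h h4 e (h1 hb) (hs b hb) (fun h0 => hb1 (Subtype.ext h0))).trans (fx_le_index hb))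

/-- `|W : C_W(B)| ≤ |A| r`, `r = 1` or `2 r ≤ |B|` -/
theorem idx_le {A B : Subgroup H} {N : Subgroup W} {g : H} (d : Dir ρ M C Θ B A N g) :
    (CS ρ B).index ≤ Nat.card A ∨ 2 * (CS ρ B).index ≤ Nat.card A * Nat.card B := by
  have h1 : (M.map (MulAut.conj g).toMonoidHom).relIndex A ≤ Nat.card A := by
    rw [Subgroup.relIndex]
    exact Nat.le_of_dvd Nat.card_pos (Subgroup.index_dvd_card _)
  by_cases hN : N ≤ CS ρ B
  · left
    have h2 := d.ineq
    rw [Subgroup.relIndex_eq_one.2 hN, mul_one] at h2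
    exact h2.trans h1
  · right
    have h2 := d.nff N le_rfl hN ⊥ bot_le (by
      intro b hb n _
      rw [mem_bot] at hb
      rw [hb, map_one]; rfl)
    rw [Subgroup.relIndex_bot_left] at h2
    calc 2 * (CS ρ B).index ≤ 2 * ((M.map (MulAut.conj g).toMonoidHom).relIndex A * (CS ρ B).relIndex N) :=
          Nat.mul_le_mul_left _ d.ineq
      _ = (M.map (MulAut.conj g).toMonoidHom).relIndex A * (2 * (CS ρ B).relIndex N) := by ring
      _ ≤ Nat.card A * Nat.card B := Nat.mul_le_mul h1 h2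

/-- `W = [W,K] C_W(K)` -/
theorem sup_eq_top' (h : HW ρ Y M C Θ J W₀) (s : Simp Y M C K) [K.Normal] : CM ρ K ⊔ CS ρ K = ⊤ := by
  apply h.gen
  · intro w hw
    refine fixed_le h.sq (P := Y) ?_ ?_
    · rw [← Nat.not_even_iff_odd, even_iff_two_dvd]
      exact not_two_dvd h s
    · exact fun y hy => h.fix y hy w hw
  · intro g w hw
    rw [Subgroup.mem_sup] at hw
    obtain ⟨x, hx, y, hy, rfl⟩ := hw
    rw [map_mul]
    exact mul_mem (Subgroup.mem_sup_left (CM_inv ρ K g x hx)) (Subgroup.mem_sup_right (CS_inv ρ K g y hy))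

theorem triv_of_quot (h : HW ρ Y M C Θ J W₀) (s : Simp Y M C K) (h4 : 4 ≤ Fintype.card F) (e : SL2 ≃* K) [K.Normal]
    (ht : ∀ k ∈ K, ∀ w : W, ρ k w * w⁻¹ ∈ CS ρ K) : ∀ k ∈ K, ∀ w : W, ρ k w = w := by
  obtain ⟨y, hy, -, hyi⟩ := sl2_exists h4 h.sq (rr ρ e) (rr_ne h h4 e) (a := up 1)
    (by rw [up_mul, CharTwo.add_self_eq_zero, up_zero]) (by
      intro h1
      have h2 := congrArg (fun z => ent z 0 1) h1
      simp at h2)
  have hO : K ≤ Subgroup.closure {k | k ∈ K ∧ Odd (orderOf k)} := by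
    refine EmpC.le_closure_odd s.simp (y := (e y : H)) (e y).2 ?_ ?_
    · intro h1
      have h2 : y = 1 := by
        apply e.injective
        apply Subtype.ext
        rw [h1, map_one]; rfl
      rw [h2, fx_one, Subgroup.index_top] at hyi
      have : 4 ^ 2 ≤ Fintype.card F ^ 2 := Nat.pow_le_pow_left h4 2
      omega
    · rw [Subgroup.orderOf_coe, MulEquiv.orderOf_eq]
      exact hy
  intro k hk w
  refine trivial_of_comm h.sq hO (B := ⊤) ?_ k hk w trivial
  intro k hk l hl b _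
  exact ht k hk b l hl

/-- (c) -/
theorem index_eq (h : HW ρ Y M C Θ J W₀) (s : Simp Y M C K) (h4 : 4 ≤ Fintype.card F) (e : SL2 ≃* K)
    {A B : Subgroup H} {N : Subgroup W} {g : H} (d : Dir ρ M C Θ B A N g) :
    (CS ρ K).index = Fintype.card F ^ 2 := by
  have hn := s.norm
  obtain ⟨hAK, hA⟩ := le_K h s h4 e d.AΘ d.Asq
  obtain ⟨hBK, hB⟩ := le_K h s h4 e d.BΘ d.Bsq
  obtain ⟨⟨b, hb⟩, hb1⟩ := ne_bot_iff_exists_ne_one.1 d.B_ne
  have hb1' : b ≠ 1 := fun h0 => hb1 (Subtype.ext h0)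
  have hidx := idx_le d
  have hq : Fintype.card F ≤ (CS ρ B).index := (index_ge h h4 e (hBK hb) (d.Bsq b hb) hb1').trans (fx_le_index hb)
  obtain ⟨q, hqq⟩ : ∃ q, q = Fintype.card F := ⟨_, rfl⟩
  rw [← hqq] at h4 hA hB hq ⊢
  have hlt : (CS ρ B).index < q * q := by
    rcases hidx with h1 | h1
    · nlinarith
    · have h2 : Nat.card A * Nat.card B ≤ q * q := Nat.mul_le_mul hA hB
      nlinarith
  -- the module for `SL₂(q)`
  obtain ⟨r, hr⟩ : ∃ r, r = rr ρ e := ⟨_, rfl⟩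
  have hr' : ∀ x w, r x w = ρ (e x : H) w := fun x w => by rw [hr]; rfl
  have hZ : Inv r (CS ρ K) := fun x w hw => by
    rw [hr']; exact CS_inv ρ K (e x : H) w hw
  have hesurj : ∀ k ∈ K, ∃ x, (e x : H) = k := by
    intro k hk
    obtain ⟨x, hx⟩ := e.surjective ⟨k, hk⟩
    exact ⟨x, by rw [hx]⟩
  have h4' : 4 ≤ Fintype.card F := hqq ▸ h4
  -- `K` acts nontrivially on `W / C_W(K)`
  have hne : ∃ x v, quo r (CS ρ K) hZ x v ≠ v := by
    by_contra hcon
    push Not at hcon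
    have h1 : ∀ k ∈ K, ∀ w : W, ρ k w * w⁻¹ ∈ CS ρ K := by
      intro k hk w
      obtain ⟨x, rfl⟩ := hesurj k hk
      have h2 := hcon x (w : W ⧸ CS ρ K)
      rw [quo_apply, hr', QuotientGroup.eq] at h2
      have h3 := inv_mem h2
      rw [mul_inv_rev, inv_inv, mul_comm] at h3
      exact h3
    have h2 := triv_of_quot h s h4' e h1
    obtain ⟨x, v, hv⟩ := rr_ne h h4' e
    exact hv (h2 _ (e x).2 v)
  -- irreducibility
  have irr : ∀ N' : Subgroup (W ⧸ CS ρ K), (∀ x, ∀ w ∈ N', quo r (CS ρ K) hZ x w ∈ N') → N' = ⊥ ∨ N' = ⊤ := by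
    intro N' hN'
    obtain ⟨N₀, hN₀⟩ : ∃ N₀ : Subgroup W, N₀ = N'.comap (QuotientGroup.mk' (CS ρ K)) := ⟨_, rfl⟩
    have hm : ∀ w : W, w ∈ N₀ ↔ (w : W ⧸ CS ρ K) ∈ N' := fun w => by rw [hN₀]; rfl
    have hI : Inv r N₀ := by
      intro x w hw
      rw [hm] at hw ⊢
      have := hN' x _ hw
      rwa [quo_apply] at this
    by_cases h1 : ∀ x, ∀ w ∈ N₀, r x w = w
    · left
      rw [eq_bot_iff]
      intro v hv
      obtain ⟨w, rfl⟩ := QuotientGroup.mk_surjective v
      rw [mem_bot, QuotientGroup.eq_one_iff]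
      intro k hk
      obtain ⟨x, rfl⟩ := hesurj k hk
      rw [← hr']
      exact h1 x w ((hm w).2 hv)
    by_cases h2 : ∀ x, ∀ w : W, r x w * w⁻¹ ∈ N₀
    · right
      have h3 : CM ρ K ⊔ CS ρ K ≤ N₀ := by
        apply sup_le
        · apply CM_le
          intro k hk w
          obtain ⟨x, rfl⟩ := hesurj k hk
          rw [← hr']
          exact h2 x w
        · intro w hw
          rw [hm, (QuotientGroup.eq_one_iff w).2 hw]
          exact one_mem _
      rw [sup_eq_top' h s, top_le_iff] at h3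
      rw [eq_top_iff]
      intro v _
      obtain ⟨w, rfl⟩ := QuotientGroup.mk_surjective v
      exact (hm w).1 (by rw [h3]; trivial)
    -- two nontrivial factors
    exfalso
    obtain ⟨x, hx⟩ := hesurj b (hBK hb)
    have hx2 : x * x = 1 := by
      apply e.injective
      apply Subtype.ext
      rw [map_mul, Subgroup.coe_mul, hx, d.Bsq b hb, map_one]; rfl
    have hx1 : x ≠ 1 := by
      rintro rfl
      apply hb1'
      rw [← hx, map_one]; rfl
    have e1 : q ≤ (fx (sub r N₀ hI) x).index := by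
      rw [hqq]
      refine sl2_index h4' (fun v => Subtype.ext (h.sq v)) _ ?_ hx2 hx1
      push Not at h1
      obtain ⟨x', w, hw, hne'⟩ := h1
      exact ⟨x', ⟨w, hw⟩, fun h0 => hne' (congrArg Subtype.val h0)⟩
    have e2 : q ≤ (fx (quo r N₀ hI) x).index := by
      rw [hqq]
      refine sl2_index h4' (quo_sq h.sq) _ ?_ hx2 hx1
      push Not at h2
      obtain ⟨x', w, hne'⟩ := h2
      refine ⟨x', (w : W ⧸ N₀), fun h0 => hne' ?_⟩
      rw [quo_apply, QuotientGroup.eq] at h0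
      have h3 := inv_mem h0
      rw [mul_inv_rev, inv_inv, mul_comm] at h3
      exact h3
    have e3 := index_mul_le hI x
    have e4 : (fx r x).index ≤ (CS ρ B).index := by
      have : fx r x = fx ρ b := by
        rw [hr, fx_rr, hx]
      rw [this]
      exact fx_le_index hb
    have e5 := Nat.mul_le_mul e1 e2
    omega
  -- quadratic subgroups
  have key : ∀ B' ≤ K, (∀ b ∈ B', b * b = 1) →
      (∀ b ∈ B', ∀ b' ∈ B', ∀ w : W, ρ b' (ρ b w * w⁻¹) = ρ b w * w⁻¹) →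
      Nat.card B' ^ 2 ≤ q ∨ (CS ρ K).index = q ^ 2 := by
    intro B' hB' hs' hq'
    obtain ⟨ι, hι⟩ : ∃ ι : SL2 →* H, ι = K.subtype.comp e.toMonoidHom := ⟨_, rfl⟩
    have hι' : ∀ x, ι x = e x := fun x => by rw [hι]; rfl
    have hinj : Function.Injective ι := by
      intro x y hxy
      rw [hι', hι'] at hxy
      exact e.injective (Subtype.ext hxy)
    have hcard : Nat.card (B'.comap ι) = Nat.card B' := by
      rw [← Subgroup.card_map_of_injective hinj, Subgroup.map_comap_eq_self]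
      intro t ht
      obtain ⟨x, hx⟩ := hesurj t (hB' ht)
      exact ⟨x, by rw [hι', hx]⟩
    have h1 := EmpR.quad h4' (quo_sq h.sq) (quo r (CS ρ K) hZ) hne irr (A := B'.comap ι) (by
      intro a ha
      apply hinj
      rw [map_mul, map_one]
      exact hs' _ ha) (by
      intro a ha a' ha' v
      obtain ⟨w, rfl⟩ := QuotientGroup.mk_surjective v
      rw [quo_apply, ← QuotientGroup.mk_inv, ← QuotientGroup.mk_mul, quo_apply, hr', hr']
      have h2 := hq' _ ha _ ha' w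
      rw [hι', hι'] at h2
      rw [h2])
    rw [hcard, ← hqq] at h1
    exact h1
  rcases key A hAK d.Asq d.Aq with h1 | h1
  swap
  · exact h1
  rcases key B hBK d.Bsq d.Bq with h2 | h2
  swap
  · exact h2
  exfalso
  rcases hidx with h3 | h3
  · have h5 : q ≤ Nat.card A := hq.trans h3
    have h6 : q ^ 2 ≤ q := (Nat.pow_le_pow_left h5 2).trans h1
    nlinarith
  · have h5 : (Nat.card A * Nat.card B) ^ 2 ≤ q ^ 2 := by
      rw [mul_pow, sq q]
      exact Nat.mul_le_mul h1 h2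
    have h6 := (Nat.pow_le_pow_iff_left (by norm_num)).1 h5
    omega

end

end Cfsg.Agent.OddCyclic.EmpE.Lin
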