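import Cfsg.Agent.OddCyclic.EmpNSDefs
import Cfsg.Agent.OddCyclic.UniPiece
import Cfsg.Agent.OddCyclic.FFPsl

/-!
# S0342 T_cyc (Empty), (4.1): the structure of `H = P/K_P`

`struct` : elementary abelian subgroups of `Y` have order at most 2, or `H` has a normal simple subgroup `K` with
`K Y = H`, `C_H(K) = 1`, `K ≤ C`, `K ≰ M`.
-/

set_option autoImplicit false
set_option linter.unusedSectionVars false

namespace Cfsg.Agent.OddCyclic.EmpE.Struct

open Subgroup Cfsg Cfsg.Agent.SignalizersComponents.Components Cfsg.Agent.OddCyclic.T1Module Cfsg.Agent.OddCyclic.FFBasic Cfsg.Agent.OddCyclic.FFRed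
  Cfsg.Agent.OddCyclic.EmpNSDefs Cfsg.Agent.OddCyclic.UniStruct
open scoped commutatorElement
open Cfsg.Agent.OddCyclic.T1Defs (OddCyc)
open Cfsg.Agent.OddCyclic.PumpMain (KZero)

universe u

variable {H : Type u} [Group H] [Finite H] {W : Type*} [CommGroup W] {ρ : H →* MulAut W}
  {Y M C Θ J : Subgroup H} {W₀ : Subgroup W}

/-- the normal simple subgroup -/
structure Simp (Y M C K : Subgroup H) : Prop where
  norm : K.Normal
  simp : IsSimpleGroup K
  nab : ∃ x y : K, x * y ≠ y * x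
  sup : K ⊔ Y = ⊤
  cent : centralizer (K : Set H) = ⊥
  leC : K ≤ C
  kz : KZero K
  notM : ¬ K ≤ M

theorem eq_bot_of_le (h : HW ρ Y M C Θ J W₀) {K : Subgroup H} (hK : K.Normal) (hKY : K ≤ Y) : K = ⊥ := by
  have h1 : CS ρ K = ⊤ := by
    apply h.gen
    · intro w hw k hk
      exact h.fix k (hKY hk) w hw
    · intro g x hx k hk
      have h2 := hx (g⁻¹ * k * g) (by simpa using hK.conj_mem k hk g⁻¹)
      calc ρ k (ρ g x) = ρ g (ρ (g⁻¹ * k * g) x) := by
            rw [← MulAut.mul_apply, ← MulAut.mul_apply, ← map_mul, ← map_mul]; congr 2; group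
        _ = ρ g x := by rw [h2]
  rw [eq_bot_iff]
  intro k hk
  rw [mem_bot]
  apply h.inj
  rw [map_one]
  ext w
  have : w ∈ CS ρ K := by rw [h1]; trivial
  exact this k hk

theorem pCore_eq (h : HW ρ Y M C Θ J W₀) : pCore 2 H = ⊥ := by
  rw [Cfsg.Agent.Lib.Cores.pCore_def, eq_bot_iff]
  exact sSup_le fun D hD => (h.o2 D hD.1 hD.2).le

/-- a simple normal subgroup moved by `J` is not contained in `M` -/
theorem not_le_M (h : HW ρ Y M C Θ J W₀) {K : Subgroup H} (hK : K.Normal) (hs : IsSimpleGroup K)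
    (hm : ∃ a ∈ J, ∃ k ∈ K, a * k ≠ k * a) : ¬ K ≤ M := by
  intro hKM
  have hDY : ⁅K, J⁆ ≤ Y := by
    rw [commutator_le]
    intro k hk j hj
    rw [commutatorElement_def]
    exact h.J_comm k (hKM hk) j hj
  have hDK : ⁅K, J⁆ ≤ K := commutator_le_left K J
  have hn : (⁅K, J⁆.subgroupOf K).Normal :=
    normal_subgroupOf_of_le_normalizer (normalizer_commutator_ge_left K J)
  have hK1 : K ≠ ⊥ := by
    rintro rfl
    obtain ⟨a, -, k, hk, hak⟩ := hm
    rw [mem_bot] at hk
    rw [hk, mul_one, one_mul] at hak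
    exact hak rfl
  rcases hs.eq_bot_or_eq_top_of_normal _ hn with h1 | h1
  · obtain ⟨a, ha, k, hk, hak⟩ := hm
    have h2 : k * a * k⁻¹ * a⁻¹ ∈ ⁅K, J⁆ := by
      rw [← commutatorElement_def]
      exact commutator_mem_commutator hk ha
    have h3 : (⟨_, hDK h2⟩ : K) ∈ ⁅K, J⁆.subgroupOf K := h2
    rw [h1, mem_bot] at h3
    have h4 : k * a * k⁻¹ * a⁻¹ = 1 := congrArg Subtype.val h3
    apply hak
    have h5 : k * a * (a * k)⁻¹ = 1 := by rw [← h4]; group
    exact (mul_inv_eq_one.1 h5).symm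
  · have h2 : K ≤ ⁅K, J⁆ := subgroupOf_eq_top.1 h1
    exact hK1 (eq_bot_of_le h hK (h2.trans hDY))

theorem sup_eq_top (h : HW ρ Y M C Θ J W₀) {K : Subgroup H} (hKM : ¬ K ≤ M) : K ⊔ Y = ⊤ := by
  rcases h.max (K ⊔ Y) le_sup_right with h1 | h1
  · exact absurd (le_sup_left.trans h1) hKM
  · exact h1

/-- `C_Y(K) = 1` -/
theorem inf_centralizer (h : HW ρ Y M C Θ J W₀) {K : Subgroup H} (hK : K.Normal) (hKM : ¬ K ≤ M) :
    Y ⊓ centralizer (K : Set H) = ⊥ := by
  apply eq_bot_of_le h ?_ inf_le_left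
  rw [← normalizer_eq_top_iff, eq_top_iff, ← sup_eq_top h hKM]
  have hcn : (centralizer (K : Set H)).Normal := inferInstance
  refine sup_le ?_ ?_
  · intro k hk
    rw [mem_normalizer_iff]
    intro y
    have key : ∀ k ∈ K, ∀ y ∈ Y ⊓ centralizer (K : Set H), k * y * k⁻¹ = y := by
      intro k hk y hy
      have := mem_centralizer_iff.1 hy.2 k hk
      rw [this, mul_inv_cancel_right]
    constructor
    · intro hy
      rw [key k hk y hy]; exact hy
    · intro hy
      have := key k⁻¹ (inv_mem hk) _ hy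
      have e : k⁻¹ * (k * y * k⁻¹) * k⁻¹⁻¹ = y := by group
      rw [e] at this
      rw [this]; exact hy
  · exact (le_inf le_normalizer (by rw [normalizer_eq_top_iff.2 hcn]; exact le_top)).trans
      inf_normalizer_le_normalizer_inf

theorem card_le_two (h : HW ρ Y M C Θ J W₀) {p : ℕ} {x : H} (hp : p.Prime) (hx : orderOf x = p)
    (hxn : (zpowers x).Normal) (hxM : ¬ zpowers x ≤ M) {B : Subgroup H} (hB : B ≤ Y) (hBs : ∀ b ∈ B, b * b = 1) :
    Nat.card B ≤ 2 := by
  have hc := inf_centralizer h hxn hxM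
  by_cases hB1 : B = ⊥
  · rw [hB1, card_bot]; norm_num
  obtain ⟨⟨b₁, hb₁⟩, hb₁'⟩ := ne_bot_iff_exists_ne_one.1 hB1
  have hb₁1 : b₁ ≠ 1 := fun h => hb₁' (Subtype.ext h)
  have key : ∀ b ∈ B, b ≠ 1 → b * x * b⁻¹ = x⁻¹ := by
    intro b hb hb1
    refine (FFRed.eq_or_inv hp hx (hBs b hb) (hxn.conj_mem x (mem_zpowers x) b)).resolve_left fun h1 => ?_
    apply hb1
    have h2 : b ∈ Y ⊓ centralizer (zpowers x : Set H) := by
      refine Subgroup.mem_inf.2 ⟨hB hb, ?_⟩
      rw [mem_centralizer_iff]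
      rintro _ ⟨k, rfl⟩
      have h3 : Commute b x := h1
      exact (h3.zpow_right k).eq.symm
    rw [hc, mem_bot] at h2
    exact h2
  refine FFPsl.card_le_two_of (a := b₁) fun b hb => ?_
  by_cases hb1 : b = 1
  · exact Or.inl hb1
  right
  by_contra hne
  have hbb : b * b₁ ≠ 1 := by
    intro h1
    apply hne
    have h2 := eq_inv_of_mul_eq_one_left h1
    rw [h2]
    exact inv_eq_of_mul_eq_one_left (hBs b₁ hb₁)
  have h1 := key _ (mul_mem hb hb₁) hbb
  have h2 : b * b₁ * x * (b * b₁)⁻¹ = x := by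
    have : b * b₁ * x * (b * b₁)⁻¹ = b * (b₁ * x * b₁⁻¹) * b⁻¹ := by group
    have h3 : b * x⁻¹ * b⁻¹ = (b * x * b⁻¹)⁻¹ := by group
    rw [this, key b₁ hb₁ hb₁1, h3, key b hb hb1, inv_inv]
  have h3 := key b hb hb1
  -- `x = x⁻¹`, so `b` centralises `x`
  rw [h2] at h1
  apply hb1
  have h4 : b ∈ Y ⊓ centralizer (zpowers x : Set H) := by
    refine Subgroup.mem_inf.2 ⟨hB hb, ?_⟩
    rw [mem_centralizer_iff]
    rintro _ ⟨k, rfl⟩
    have h5 : Commute b x := by
      rw [← h1] at h3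
      exact mul_inv_eq_iff_eq_mul.1 h3
    exact (h5.zpow_right k).eq.symm
  rw [hc, mem_bot] at h4
  exact h4

theorem centralizer_eq_bot (h : HW ρ Y M C Θ J W₀) {K : Subgroup H} (hK : K.Normal) (hs : IsSimpleGroup K)
    (hab : ∃ x y : K, x * y ≠ y * x) (hKM : ¬ K ≤ M) : centralizer (K : Set H) = ⊥ := by
  have hc := inf_centralizer h hK hKM
  have hsup := sup_eq_top h hKM
  obtain ⟨D, hD⟩ : ∃ D : Subgroup H, D = centralizer (K : Set H) := ⟨_, rfl⟩
  rw [← hD] at hc ⊢
  have hDn : D.Normal := by rw [hD]; infer_instance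
  by_contra hne
  obtain ⟨r, hr, hrD⟩ := Nat.exists_prime_and_dvd (fun h1 : Nat.card D = 1 => hne (card_eq_one.1 h1))
  -- `|D|` divides `|H : Y|`
  have h1 : Nat.card D ∣ Y.index := by
    have e1 : Nat.card D * D.relIndex (Y ⊔ D) = Nat.card (Y ⊔ D : Subgroup H) := card_mul_relIndex le_sup_right
    rw [Subgroup.relIndex_sup_right] at e1
    have e2 : Nat.card (D ⊓ Y : Subgroup H) * (D ⊓ Y).relIndex Y = Nat.card Y := card_mul_relIndex inf_le_right
    rw [Subgroup.inf_relIndex_right, inf_comm, hc, card_bot, one_mul] at e2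
    have e3 : Nat.card (Y ⊔ D : Subgroup H) ∣ Nat.card H := Subgroup.card_subgroup_dvd_card _
    rw [← e1, e2, ← Y.card_mul_index, mul_comm] at e3
    exact Nat.dvd_of_mul_dvd_mul_left Nat.card_pos e3
  have h2 : Y.index ∣ Nat.card K := by
    have e1 : Nat.card K * K.relIndex (K ⊔ Y) = Nat.card (K ⊔ Y : Subgroup H) := card_mul_relIndex le_sup_left
    rw [Subgroup.relIndex_sup_left, hsup, card_top, ← Y.card_mul_index] at e1
    have e2 : Nat.card (K ⊓ Y : Subgroup H) * (K ⊓ Y).relIndex Y = Nat.card Y := card_mul_relIndex inf_le_right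
    rw [Subgroup.inf_relIndex_right] at e2
    have e3 : K.relIndex Y ≠ 0 := Subgroup.index_ne_zero_of_finite
    refine ⟨Nat.card (K ⊓ Y : Subgroup H), ?_⟩
    apply Nat.eq_of_mul_eq_mul_right (Nat.pos_of_ne_zero e3)
    rw [e1, ← e2]; ring
  have hr2 : r ≠ 2 := by
    rintro rfl
    exact h.syl (hrD.trans h1)
  have hrK : r ∣ Nat.card K := (hrD.trans h1).trans h2
  have hrf : Fact r.Prime := ⟨hr⟩
  obtain ⟨⟨x, hx⟩, hxo⟩ := exists_prime_orderOf_dvd_card' (G := D) r hrD
  obtain ⟨⟨y, hy⟩, hyo⟩ := exists_prime_orderOf_dvd_card' (G := K) r hrK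
  rw [Subgroup.orderOf_mk] at hxo hyo
  have hcomm : Commute x y := by
    rw [hD] at hx
    exact (mem_centralizer_iff.1 hx y hy).symm
  have h3 := CompBasic.zpowers_eq_of_commute h.cyc hr hr2 hxo hyo hcomm
  have hxK : x ∈ K := (zpowers_le.2 hy) (h3 ▸ mem_zpowers x)
  have hn : (D.subgroupOf K).Normal := hDn.subgroupOf K
  rcases hs.eq_bot_or_eq_top_of_normal _ hn with h4 | h4
  · have h5 : (⟨x, hxK⟩ : K) ∈ D.subgroupOf K := hx
    rw [h4, mem_bot] at h5
    rw [show x = 1 from congrArg Subtype.val h5, orderOf_one] at hxo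
    exact hr.one_lt.ne hxo
  · obtain ⟨a, b, hab⟩ := hab
    apply hab
    have h5 : (a : H) ∈ D := subgroupOf_eq_top.1 h4 a.2
    rw [hD] at h5
    exact Subtype.ext (mem_centralizer_iff.1 h5 b b.2).symm

theorem le_C (h : HW ρ Y M C Θ J W₀) {K : Subgroup H} (hs : IsSimpleGroup K)
    (hab : ∃ x y : K, x * y ≠ y * x) : K ≤ C := by
  have hCn := h.C_norm
  rcases hs.eq_bot_or_eq_top_of_normal _ (hCn.subgroupOf K) with h1 | h1
  · exfalso
    have h2 : IsPGroup 2 K := by
      intro k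
      obtain ⟨n, hn⟩ := h.C_two k
      refine ⟨n, ?_⟩
      have h3 : k ^ 2 ^ n ∈ C.subgroupOf K := by
        rw [mem_subgroupOf]
        exact_mod_cast hn
      rw [h1, mem_bot] at h3
      exact h3
    have hf : Fact (Nat.Prime 2) := ⟨Nat.prime_two⟩
    have hnil := h2.isNilpotent
    obtain ⟨a, b, hab⟩ := hab
    have hcen : center K ≠ ⊥ := by
      have : Nontrivial K := hs.toNontrivial
      have := h2.center_nontrivial
      exact (center K).nontrivial_iff_ne_bot.1 this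
    rcases hs.eq_bot_or_eq_top_of_normal _ (inferInstance : (center K).Normal) with h3 | h3
    · exact hcen h3
    · apply hab
      have : b ∈ center K := by rw [h3]; trivial
      exact (mem_center_iff.1 this a)
  · exact subgroupOf_eq_top.1 h1

/-- **(4.1)** -/
theorem struct (h : HW ρ Y M C Θ J W₀) :
    (∀ B ≤ Y, (∀ b ∈ B, b * b = 1) → Nat.card B ≤ 2) ∨ ∃ K : Subgroup H, Simp Y M C K := by
  rcases exists_moved_abs (pCore_eq h) h.cyc h.J_two h.J_ne with ⟨K, hK, a, ha, k, hk, hak⟩ | ⟨p, x, hp, -, hx, hxn, a, ha, hax⟩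
  · right
    have hn := normal h.cyc hK
    have hs := simple (pCore_eq h) h.cyc hK
    have hM := not_le_M h hn hs ⟨a, ha, k, hk, hak⟩
    have hab : ∃ x y : K, x * y ≠ y * x := by
      by_contra hcon
      push Not at hcon
      have h1 := component_commutator_self hK
      have h2 : ⁅K, K⁆ = ⊥ := by
        rw [commutator_eq_bot_iff_le_centralizer]
        intro x hx
        rw [mem_centralizer_iff]
        intro y hy
        exact congrArg Subtype.val (hcon ⟨y, hy⟩ ⟨x, hx⟩)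
      rw [h1] at h2
      exact component_ne_bot hK h2
    exact ⟨K, hn, hs, hab, sup_eq_top h hM, centralizer_eq_bot h hn hs hab hM, le_C h hs hab,
      h.kz K hs hab, hM⟩
  · left
    have hf : Fact p.Prime := ⟨hp⟩
    have hs : IsSimpleGroup (zpowers x) := isSimpleGroup_of_prime_card (p := p) (by rw [Nat.card_zpowers, hx])
    have hM := not_le_M h hxn hs ⟨a, ha, x, mem_zpowers x, hax⟩
    exact fun B hB hBs => card_le_two h hp hx hxn hM hB hBs

end Cfsg.Agent.OddCyclic.EmpE.Struct
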