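import Cfsg.Agent.OddCyclic.EmpE.SevenB
import Cfsg.Agent.OddCyclic.EmpE.Struct
import Cfsg.Agent.OddCyclic.RedSevenA
import Cfsg.Agent.ZN.ChoiceSit

/-!
# S0342 T_cyc (Empty), (4.5): `H = L₃(2)`

* `conj_eq` : a conjugate of a four-group `A` normalising `A` is `A`;
* `meet` : `A ∩ N(A^g) ≠ 1` for all `g`;
* `main`, `noo`.
-/

set_option autoImplicit false
set_option linter.unusedSectionVars false

namespace Cfsg.Agent.OddCyclic.EmpE.SevenK

open Subgroup Cfsg.Agent.GH.L2Aut Cfsg.Agent.OddCyclic.T1Module Cfsg.Agent.OddCyclic.FFBasic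
  Cfsg.Agent.OddCyclic.FFRed Cfsg.Agent.OddCyclic.FFSl2 Cfsg.Agent.OddCyclic.FFThree Cfsg.Agent.OddCyclic.COneSeven
  Cfsg.Agent.OddCyclic.EmpE.SevenA Cfsg.Agent.OddCyclic.EmpE.SevenB Cfsg.Agent.OddCyclic.RedSevenA
open Cfsg.Agent.ZN.ChoiceBase (cj mem_cj cj_cj cj_one cj_eq_of_mem_normalizer mem_normalizer_iff_cj cj_mono card_cj
  cj_normalizer isPGroup_cj cj_inv_cj cj_cj_inv)
open Cfsg.Agent.ZN
open Cfsg.Agent.ZN.ChoiceSit (Syl syl_conj)

universe u

section group

variable {L : Type u} [Group L] [Finite L]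

theorem isFour_cj {A : Subgroup L} (hA : IsFour A) (g : L) : IsFour (cj g A) := by
  refine ⟨by rw [card_cj]; exact hA.card, ?_⟩
  rintro _ ⟨a, ha, rfl⟩
  rw [← map_mul, hA.sq a ha, map_one]

theorem syl_of {S : Sylow 2 L} {X : Subgroup L} (h : (S : Subgroup L) ≤ X) : Syl (S : Subgroup L) X :=
  ⟨h, S.isPGroup', fun _ _ hQ hSQ => S.is_maximal' hQ hSQ⟩

/-- a conjugate of a four-group normalising it is equal to it -/
theorem conj_eq (h : L32 L) {A : Subgroup L} (hA : IsFour A) {g : L} (hg : cj g A ≤ normalizer (A : Set L)) :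
    cj g A = A := by
  have hf : Fact (Nat.Prime 2) := ⟨Nat.prime_two⟩
  have hB := isFour_cj hA g
  by_contra hne
  have h3 : IsPGroup 2 (A ⊔ cj g A : Subgroup L) :=
    IsPGroup.to_sup_of_normal_left' (isPGroup_four hA) (isPGroup_four hB) hg
  obtain ⟨S, hS⟩ := h3.exists_le_sylow
  have hAS : A ≤ S := le_sup_left.trans hS
  have hBS : cj g A ≤ S := le_sup_right.trans hS
  obtain ⟨z, a, b, hza, hzb, -, -, -, -, -, honly, -⟩ := exists_other h S hA hAS
  have hB2 : cj g A = hzb.sub := by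
    rcases honly _ hB hBS with h1 | h1
    · exact absurd h1 hne
    · exact h1
  have hSA := sylow_le_normalizer h S hA hAS
  have hSB := sylow_le_normalizer h S hB hBS
  -- `S` and `gSg⁻¹` in `N(cj g A)`
  have h4 : ((g • S : Sylow 2 L) : Subgroup L) = cj g (S : Subgroup L) := by
    rw [Sylow.coe_subgroup_smul]; rfl
  have h5 : ((g • S : Sylow 2 L) : Subgroup L) ≤ normalizer (cj g A : Set L) := by
    rw [h4, ← cj_normalizer]
    exact cj_mono g hSA
  obtain ⟨n, hn, hnS⟩ := syl_conj (syl_of hSB) (syl_of h5)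
  rw [h4] at hnS
  obtain ⟨k, hk⟩ : ∃ k, k = g⁻¹ * n := ⟨_, rfl⟩
  have hkS : cj k (S : Subgroup L) = S := by
    rw [hk, ← cj_cj, hnS, cj_inv_cj]
  have hkB : cj k (cj g A) = A := by
    rw [hk, ← cj_cj, cj_eq_of_mem_normalizer hn, cj_inv_cj]
  have hkA : cj k A = cj g A := by
    have h6 : cj k A ≤ S := by rw [← hkS]; exact cj_mono k hAS
    rcases honly _ (isFour_cj hA k) h6 with h7 | h7
    · exfalso
      apply hne
      have h8 := congrArg (cj k⁻¹) (hkB.trans h7.symm)
      rwa [cj_inv_cj, cj_inv_cj] at h8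
    · rw [h7, hB2]
  have hkN : k ∈ normalizer ((S : Subgroup L) : Set L) := mem_normalizer_iff_cj.2 hkS
  -- an odd power of `k` lies in `S`
  have hn' : ((S : Subgroup L).subgroupOf (normalizer ((S : Subgroup L) : Set L))).Normal := normal_in_normalizer
  have h6 := pow_index_mem ((S : Subgroup L).subgroupOf (normalizer ((S : Subgroup L) : Set L))) ⟨k, hkN⟩
  have hodd : ¬ 2 ∣ ((S : Subgroup L).subgroupOf (normalizer ((S : Subgroup L) : Set L))).index := by
    intro h7
    apply S.not_dvd_index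
    exact h7.trans (Dvd.intro _ (relIndex_mul_index (le_normalizer (H := (S : Subgroup L)))))
  obtain ⟨m, hm⟩ := Nat.odd_iff.2 (Nat.two_dvd_ne_zero.1 hodd)
  rw [hm] at h6
  have h7 : k ^ (2 * m + 1) ∈ (S : Subgroup L) := h6
  have h8 : ∀ m : ℕ, cj (k ^ (2 * m)) A = A := by
    intro m
    induction m with
    | zero => rw [mul_zero, pow_zero, cj_one]
    | succ m ih =>
      have e : k ^ (2 * (m + 1)) = k ^ (2 * m) * (k * k) := by rw [mul_add, pow_add, mul_one, sq]
      rw [e, ← cj_cj, ← cj_cj, hkA, hkB, ih]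
  apply hne
  have h9 := cj_eq_of_mem_normalizer (hSA h7)
  rw [pow_succ', ← cj_cj, h8 m, hkA] at h9
  exact h9

theorem exists_part (h : L32 L) {A : Subgroup L} (hA : IsFour A) {x : L} (hx : x ∈ A) (hx1 : x ≠ 1) :
    ∃ t, Four x t ∧ t ∈ normalizer (A : Set L) ∧ ∀ y ∈ A, y ≠ 1 → t * y = y * t → y = x := by
  obtain ⟨a, ha, ha1, hxa⟩ := hA.exists_third x
  obtain ⟨hfour, hmem⟩ := hA.exists_pair hx hx1 ha ha1 hxa
  obtain ⟨t, ht, hta⟩ := part h hfour
  have htx : t * x * t⁻¹ = x := by rw [← ht.comm, mul_inv_cancel_right]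
  have htxa : t * (x * a) * t⁻¹ = a := by
    have e1 : t * (x * a) * t⁻¹ = (t * x * t⁻¹) * (t * a * t⁻¹) := by group
    rw [e1, htx, hta, ← mul_assoc, hfour.aa, one_mul]
  refine ⟨t, ht, ?_, ?_⟩
  · have h1 : ∀ y ∈ A, t * y * t⁻¹ ∈ A := by
      intro y hy
      rcases (hmem y).1 hy with rfl | rfl | rfl | rfl
      · rw [mul_one, mul_inv_cancel]; exact one_mem A
      · rw [htx]; exact hx
      · rw [hta]; exact mul_mem hx ha
      · rw [htxa]; exact ha
    rw [mem_normalizer_iff]
    intro y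
    refine ⟨h1 y, fun hy => ?_⟩
    have h2 := h1 _ hy
    have e : t * (t * y * t⁻¹) * t⁻¹ = (t * t) * y * (t * t)⁻¹ := by group
    rwa [e, ht.bb, one_mul, inv_one, mul_one] at h2
  · intro y hy hy1 hty
    rcases (hmem y).1 hy with rfl | rfl | rfl | rfl
    · exact absurd rfl hy1
    · rfl
    · exfalso
      rw [hty, mul_inv_cancel_right] at hta
      exact hx1 (mul_eq_right.1 hta.symm)
    · exfalso
      rw [hty, mul_inv_cancel_right] at htxa
      exact hx1 (mul_eq_right.1 htxa)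

theorem card_ne_one {A : Subgroup L} (hA : IsFour A) : Nat.card {x : L // x ∈ A ∧ x ≠ 1} = 3 := by
  classical
  obtain ⟨z, hz, a, ha, hfour, hmem⟩ := hA.exists_four
  have h1 : {x : L | x ∈ A ∧ x ≠ 1} = (({z, a, z * a} : Finset L) : Set L) := by
    ext x
    simp only [Finset.coe_insert, Finset.coe_singleton, Set.mem_insert_iff, Set.mem_singleton_iff]
    constructor
    · rintro ⟨hx, hx1⟩
      rcases (hmem x).1 hx with h2 | h2 | h2 | h2
      · exact absurd h2 hx1
      · exact Or.inl h2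
      · exact Or.inr (Or.inl h2)
      · exact Or.inr (Or.inr h2)
    · rintro (rfl | rfl | rfl)
      · exact ⟨hz, hfour.a1⟩
      · exact ⟨ha, hfour.b1⟩
      · exact ⟨mul_mem hz ha, hfour.right.b1⟩
  have h2 : Nat.card {x : L // x ∈ A ∧ x ≠ 1} = Nat.card ({x : L | x ∈ A ∧ x ≠ 1} : Set L) := rfl
  rw [h2, h1, Nat.card_coe_set_eq, Set.ncard_coe_finset]
  have e2 : z ∉ ({a, z * a} : Finset L) := by
    simp only [Finset.mem_insert, Finset.mem_singleton, not_or]
    exact ⟨hfour.ne, hfour.right.ne⟩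
  have e3 : a ∉ ({z * a} : Finset L) := by
    simp only [Finset.mem_singleton]
    intro h3
    exact hfour.a1 (mul_eq_right.mp h3.symm)
  rw [Finset.card_insert_of_notMem e2, Finset.card_insert_of_notMem e3, Finset.card_singleton]

/-- every conjugate of `A` meets `N(A)` -/
theorem meet' (h : L32 L) {A : Subgroup L} (hA : IsFour A) {g : L} (hg : g ∉ normalizer (A : Set L)) :
    ∃ t ∈ cj g A, t ≠ 1 ∧ t ∈ normalizer (A : Set L) := by
  classical
  have hf : Fact (Nat.Prime 2) := ⟨Nat.prime_two⟩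
  have hp : ∀ x : {x : L // x ∈ A ∧ x ≠ 1}, ∃ t, Four (x : L) t ∧ t ∈ normalizer (A : Set L) ∧
      ∀ y ∈ A, y ≠ 1 → t * y = y * t → y = x := fun x => exists_part h hA x.2.1 x.2.2
  choose t ht1 ht2 ht3 using hp
  -- the six involutions
  let s : {x : L // x ∈ A ∧ x ≠ 1} × Bool → L := fun p => (if p.2 then (p.1 : L) else 1) * t p.1
  have hs : ∀ p, s p * s p = 1 ∧ s p ≠ 1 ∧ s p ∈ normalizer (A : Set L) ∧
      ∀ y ∈ A, y ≠ 1 → s p * y = y * s p → y = p.1 := by
    rintro ⟨x, b⟩
    cases b with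
    | false =>
      have e : s (x, false) = t x := by simp [s]
      rw [e]
      exact ⟨(ht1 x).bb, (ht1 x).b1, ht2 x, ht3 x⟩
    | true =>
      have e : s (x, true) = x * t x := by simp [s]
      rw [e]
      refine ⟨(ht1 x).right.bb, (ht1 x).right.b1, mul_mem (le_normalizer x.2.1) (ht2 x), fun y hy hy1 hc => ?_⟩
      apply ht3 x y hy hy1
      have hxy : (x : L) * y = y * x := comm_of_sq hA.sq x.2.1 hy
      have h1 : (x : L) * (t x * y) = x * (y * t x) := by
        calc (x : L) * (t x * y) = x * t x * y := by group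
          _ = y * (x * t x) := hc
          _ = (y * x) * t x := by group
          _ = x * y * t x := by rw [hxy]
          _ = x * (y * t x) := by group
      exact mul_left_cancel h1
  have hsA : ∀ p, s p ∉ A := by
    intro p hpA
    obtain ⟨y, hy, hy1, hpy⟩ := hA.exists_third p.1
    exact hpy ((hs p).2.2.2 y hy hy1 (comm_of_sq hA.sq hpA hy)).symm
  have hsinj : ∀ p q, s p = s q → p = q := by
    rintro ⟨x, b⟩ ⟨x', b'⟩ hpq
    have h1 : (x : L) = x' := by
      apply (hs (x', b')).2.2.2 x x.2.1 x.2.2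
      rw [← hpq]
      have h2 : (x : L) * t x = t x * x := (ht1 x).comm
      cases b with
      | false =>
        have e : s (x, false) = t x := by simp [s]
        rw [e, h2]
      | true =>
        have e : s (x, true) = x * t x := by simp [s]
        rw [e, mul_assoc, ← h2]
    have hx : x = x' := Subtype.ext h1
    subst hx
    have h2 : (if b then (x : L) else 1) = (if b' then (x : L) else 1) := mul_right_cancel hpq
    have h3 : b = b' := by
      cases b <;> cases b'
      · rfl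
      · exfalso; simp at h2; exact x.2.2 h2.symm
      · exfalso; simp at h2; exact x.2.2 h2
      · rfl
    rw [h3]
  -- the conjugates
  have hc : ∀ p : {x : L // x ∈ A ∧ x ≠ 1} × Bool, ∃ k, k * (p.1 : L) * k⁻¹ = s p := fun p =>
    h.conj _ _ p.1.2.2 (hA.sq _ p.1.2.1) (hs p).2.1 (hs p).1
  choose k hk using hc
  have hkA : ∀ p, s p ∈ cj (k p) A := by
    intro p
    rw [← hk p]
    exact ⟨p.1, p.1.2.1, rfl⟩
  let F : {x : L // x ∈ A ∧ x ≠ 1} × Bool → {c : L ⧸ normalizer (A : Set L) // c ≠ ((1 : L) : L ⧸ normalizer (A : Set L))} :=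
    fun p => ⟨(k p : L ⧸ normalizer (A : Set L)), fun h1 => by
      have h2 : k p ∈ normalizer (A : Set L) := by
        have h3 := QuotientGroup.eq.1 h1.symm
        rwa [inv_one, one_mul] at h3
      apply hsA p
      have h3 := hkA p
      rwa [cj_eq_of_mem_normalizer h2] at h3⟩
  have hF : Function.Injective F := by
    intro p q hpq
    have h1 : (k p : L ⧸ normalizer (A : Set L)) = k q := congrArg Subtype.val hpq
    have h2 := QuotientGroup.eq.1 h1
    have h3 : cj (k p) A = cj (k q) A := by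
      have h4 := cj_eq_of_mem_normalizer h2
      have h5 := congrArg (cj (k p)) h4
      rw [cj_cj, mul_inv_cancel_left] at h5
      exact h5.symm
    by_contra hne
    have h4 : s p ≠ s q := fun h5 => hne (hsinj p q h5)
    have hp := hkA p
    have hq := hkA q
    rw [← h3] at hq
    obtain ⟨-, hmem⟩ := (isFour_cj hA (k p)).exists_pair hp (hs p).2.1 hq (hs q).2.1 h4
    have h5 : cj (k p) A ≤ normalizer (A : Set L) := by
      intro y hy
      rcases (hmem y).1 hy with rfl | rfl | rfl | rfl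
      · exact one_mem _
      · exact (hs p).2.2.1
      · exact (hs q).2.2.1
      · exact mul_mem (hs p).2.2.1 (hs q).2.2.1
    apply hsA p
    rw [← conj_eq h hA h5]
    exact hp
  obtain ⟨S, hAS⟩ := exists_sylow hA
  have hidx : (normalizer (A : Set L)).index = 7 := by
    have h1 := (normalizer (A : Set L)).card_mul_index
    rw [card_normalizer h S hA hAS, h.card] at h1
    omega
  have hcard : Nat.card ({x : L // x ∈ A ∧ x ≠ 1} × Bool) = 6 := by
    rw [Nat.card_prod, card_ne_one hA, Nat.card_eq_fintype_card, Fintype.card_bool]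
  have hcard2 : Nat.card {c : L ⧸ normalizer (A : Set L) // c ≠ ((1 : L) : L ⧸ normalizer (A : Set L))} = 6 := by
    have hft := Fintype.ofFinite (L ⧸ normalizer (A : Set L))
    rw [Nat.card_eq_fintype_card, Fintype.card_subtype_compl, Fintype.card_subtype_eq]
    have h2 : Fintype.card (L ⧸ normalizer (A : Set L)) = 7 := by
      rw [← Nat.card_eq_fintype_card]; exact hidx
    omega
  have hsurj : Function.Surjective F :=
    ((Nat.bijective_iff_injective_and_card F).2 ⟨hF, by rw [hcard, hcard2]⟩).2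
  obtain ⟨p, hp⟩ := hsurj ⟨(g : L ⧸ normalizer (A : Set L)), fun h1 => hg (by
    have h3 := QuotientGroup.eq.1 h1.symm
    rwa [inv_one, one_mul] at h3)⟩
  have h1 : (k p : L ⧸ normalizer (A : Set L)) = g := congrArg Subtype.val hp
  have h2 := QuotientGroup.eq.1 h1
  refine ⟨s p, ?_, (hs p).2.1, (hs p).2.2.1⟩
  have h4 := cj_eq_of_mem_normalizer h2
  have h5 := congrArg (cj (k p)) h4
  rw [cj_cj, mul_inv_cancel_left] at h5
  rw [h5]
  exact hkA p

/-- `A ∩ N(A)^g ≠ 1` -/
theorem meet (h : L32 L) {A : Subgroup L} (hA : IsFour A) {g : L} (hg : g ∉ normalizer (A : Set L)) :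
    ∃ t ∈ A, t ≠ 1 ∧ t ∈ cj g (normalizer (A : Set L)) := by
  obtain ⟨t, ht, ht1, htN⟩ := meet' h hA (g := g⁻¹) (fun h1 => hg (by simpa using inv_mem h1))
  refine ⟨g * t * g⁻¹, ?_, ?_, ⟨t, htN, rfl⟩⟩
  · have h1 := mem_cj.1 ht
    rwa [inv_inv] at h1
  · intro h1
    apply ht1
    have e : t = g⁻¹ * (g * t * g⁻¹) * g := by group
    rw [e, h1]; group

end group

open Cfsg.Agent.OddCyclic.EmpNSDefs

variable {H : Type u} [Group H] [Finite H] {W : Type*} [CommGroup W] [Finite W] {ρ : H →* MulAut W}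
  {Y M C Θ J : Subgroup H} {W₀ : Subgroup W}

theorem mod_of (h : HW ρ Y M C Θ J W₀) (hs : IsSimpleGroup H) (h168 : Nat.card H = 168) : Mod ρ where
  l32 := l32 hs h168
  sq := h.sq
  faith := by
    intro y hy
    by_contra hcon
    push Not at hcon
    apply hy
    apply h.inj
    rw [map_one]
    ext v
    exact hcon v

/-- the structure: a four-group `A₁` with `Y = M = N(A₁)`, or elementary abelian subgroups of `Θ` have order `≤ 2` -/
theorem exists_four (h : HW ρ Y M C Θ J W₀) (hs : IsSimpleGroup H) (h168 : Nat.card H = 168) {B : Subgroup H}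
    (hB : B ≤ Θ) (hsq : ∀ b ∈ B, b * b = 1) (h4 : 2 < Nat.card B) :
    IsFour B ∧ Y = normalizer (B : Set H) ∧ M = normalizer (B : Set H) ∧ Θ = B := by
  have hf : Fact (Nat.Prime 2) := ⟨Nat.prime_two⟩
  have l := l32 hs h168
  -- a Sylow 2-subgroup of `H` in `Y`
  obtain ⟨T, hTY⟩ : ∃ T : Sylow 2 H, (T : Subgroup H) ≤ Y := by
    obtain ⟨Q⟩ : Nonempty (Sylow 2 Y) := inferInstance
    have h1 : IsPGroup 2 ((Q : Subgroup Y).map Y.subtype) := Q.isPGroup'.map _
    have h2 : ¬ 2 ∣ ((Q : Subgroup Y).map Y.subtype).index := by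
      intro h3
      rw [← relIndex_mul_index (map_subtype_le (Q : Subgroup Y))] at h3
      rcases (Nat.Prime.dvd_mul Nat.prime_two).1 h3 with h4 | h4
      · apply Q.not_dvd_index
        have e : ((Q : Subgroup Y).map Y.subtype).relIndex Y = (Q : Subgroup Y).index := by
          rw [relIndex, subgroupOf, comap_map_eq_self_of_injective Y.subtype_injective]
        rwa [e] at h4
      · exact h.syl h4
    exact ⟨h1.toSylow h2, map_subtype_le _⟩
  -- `|B| = 4`
  have hB4 : IsFour B := by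
    refine ⟨?_, hsq⟩
    have h1 := card_le_four l hsq
    obtain ⟨n, hn⟩ := (IsPGroup.iff_card (p := 2)).1 (show IsPGroup 2 B by
      rintro ⟨x, hx⟩
      exact ⟨1, Subtype.ext (by
        show x ^ 2 ^ 1 = 1
        rw [pow_one, sq, hsq x hx])⟩)
    rw [hn] at h1 h4 ⊢
    have h2 : n = 2 := by
      have h3 : n < 3 := by
        by_contra hcon
        have h5 : 2 ^ 3 ≤ 2 ^ n := Nat.pow_le_pow_right (by norm_num) (by omega)
        omega
      interval_cases n <;> simp_all
    rw [h2]; norm_num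
  -- `Θ` is a 2-group
  have hnab : ∀ K : Subgroup H, K = ⊤ → IsSimpleGroup K := by
    rintro K rfl
    exact (Subgroup.topEquiv (G := H)).isSimpleGroup
  have hcop : ∀ r : ℕ, r.Prime → r ≠ 2 → r ∣ 168 → ¬ r ∣ Nat.card Θ := by
    intro r hr hr2 hd
    exact h.cop ⊤ inferInstance (hnab ⊤ rfl) r hr hr2 (by rw [card_top, h168]; exact hd)
  have hΘ2 : IsPGroup 2 Θ := by
    rw [IsPGroup.iff_card]
    have h1 : Nat.card Θ ∣ 2 ^ 3 := by
      have h2 : Nat.card Θ ∣ 8 * 21 := by
        have h3 := Θ.card_subgroup_dvd_card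
        rw [h168] at h3
        exact h3
      refine (Nat.Coprime.dvd_of_dvd_mul_right ?_ h2).trans (by norm_num)
      have h3 : Nat.Coprime (Nat.card Θ) 3 :=
        ((Nat.Prime.coprime_iff_not_dvd Nat.prime_three).2 (hcop 3 Nat.prime_three (by norm_num) (by norm_num))).symm
      have h7 : Nat.Coprime (Nat.card Θ) 7 :=
        ((Nat.Prime.coprime_iff_not_dvd (by norm_num)).2 (hcop 7 (by norm_num) (by norm_num) (by norm_num))).symm
      exact Nat.Coprime.mul_right h3 h7
    obtain ⟨k, -, hk⟩ := (Nat.dvd_prime_pow Nat.prime_two).1 h1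
    exact ⟨k, hk⟩
  have hTM : (T : Subgroup H) ≤ M := hTY.trans h.YM
  have hΘn : M ≤ normalizer (Θ : Set H) := fun m hm => ChoiceBase.mem_normalizer_of_cj_le (by
    rintro _ ⟨t, ht, rfl⟩
    exact h.Θ_norm m hm t ht)
  have hΘM : Θ ≤ M := h.Θ_le.trans h.YM
  -- `Θ ≤ T`
  have hΘT : Θ ≤ T := by
    have h1 : IsPGroup 2 (T ⊔ Θ : Subgroup H) :=
      IsPGroup.to_sup_of_normal_right' T.isPGroup' hΘ2 (hTM.trans hΘn)
    have h2 := T.is_maximal' h1 le_sup_left
    rw [← h2]
    exact le_sup_right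
  have hBT : B ≤ T := hB.trans hΘT
  obtain ⟨z, a, b, hza, hzb, -, hBT', -, hne, -, honly, hgen⟩ := exists_other l T hB4 hBT
  -- `Y` does not normalise both four-groups
  have hboth : ¬ (Y ≤ normalizer (B : Set H) ∧ Y ≤ normalizer (hzb.sub : Set H)) := by
    rintro ⟨h1, h2⟩
    apply h.M_ne
    rw [eq_top_iff, ← hgen]
    refine sup_le ?_ ?_
    · rcases h.max _ h1 with h3 | h3
      · exact h3
      · exact absurd h3 (normalizer_ne_top l T hB4 hBT)
    · rcases h.max _ h2 with h3 | h3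
      · exact h3
      · exact absurd h3 (normalizer_ne_top l T (isFour_sub hzb) hBT')
  -- elements of `Y` normalising `T` normalise both four-groups
  have hYT : ¬ Y ≤ normalizer ((T : Subgroup H) : Set H) := by
    intro hYN
    apply hboth
    have key : ∀ D : Subgroup H, IsFour D → D ≤ T → Y ≤ normalizer (D : Set H) := by
      intro D hD hDT y hy
      have h1 : cj y D ≤ normalizer (D : Set H) := by
        refine le_trans ?_ (sylow_le_normalizer l T hD hDT)
        rw [← cj_eq_of_mem_normalizer (hYN hy)]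
        exact cj_mono y hDT
      exact mem_normalizer_iff_cj.2 (conj_eq l hD h1)
    exact ⟨key B hB4 hBT, key _ (isFour_sub hzb) hBT'⟩
  -- `Θ = B`
  have hΘB : Θ = B := by
    symm
    apply Subgroup.eq_of_le_of_card_ge hB
    by_contra hcon
    have h1 : Nat.card Θ ∣ 8 := by
      rw [← card_sylow l T]
      exact Subgroup.card_dvd_of_le hΘT
    have h2 : Nat.card Θ = 8 := by
      rw [hB4.card] at hcon
      have h3 : Nat.card Θ ∣ 2 ^ 3 := h1
      obtain ⟨k, hk, hk'⟩ := (Nat.dvd_prime_pow Nat.prime_two).1 h3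
      rw [hk'] at hcon ⊢
      interval_cases k <;> simp_all
    have h3 : Θ = T := Subgroup.eq_of_le_of_card_ge hΘT (by
      have h4 := card_sylow l T
      change Nat.card T ≤ _
      rw [h4, h2])
    apply hYT
    rw [← h3]
    exact h.YM.trans hΘn
  have hMB : M ≤ normalizer (B : Set H) := by
    rw [← hΘB]; exact hΘn
  have hNM : normalizer (B : Set H) ≤ M := by
    rcases h.max _ (h.YM.trans hMB) with h3 | h3
    · exact h3
    · exact absurd h3 (normalizer_ne_top l T hB4 hBT)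
  have hM := le_antisymm hMB hNM
  refine ⟨hB4, ?_, hM, hΘB⟩
  -- `Y = M`
  rw [← hM]
  apply Subgroup.eq_of_le_of_card_ge h.YM
  rw [hM, card_normalizer l T hB4 hBT]
  have h1 : Nat.card Y ∣ 24 := by
    rw [← card_normalizer l T hB4 hBT]
    exact Subgroup.card_dvd_of_le (h.YM.trans hMB)
  have h2 : 8 ∣ Nat.card Y := by
    rw [← card_sylow l T]
    exact Subgroup.card_dvd_of_le hTY
  obtain ⟨k, hk⟩ := h2
  have h3 : k ∣ 3 := by
    rw [hk] at h1
    exact Nat.dvd_of_mul_dvd_mul_left (by norm_num : 0 < 8) h1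
  rcases (Nat.dvd_prime Nat.prime_three).1 h3 with rfl | rfl
  · exfalso
    apply hYT
    have h4 : (T : Subgroup H) = Y := Subgroup.eq_of_le_of_card_ge hTY (by
      have h5 := card_sylow l T
      change _ ≤ Nat.card T
      rw [h5, hk])
    rw [h4]
    exact le_normalizer
  · rw [hk]

theorem noo (h : HW ρ Y M C Θ J W₀) (hs : IsSimpleGroup H) (h168 : Nat.card H = 168) {B : Subgroup H}
    (hB : B ≤ Θ) (hsq : ∀ b ∈ B, b * b = 1) : Nat.card B ≤ (CS ρ B).index := by
  have hm := mod_of h hs h168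
  rcases le_or_gt (Nat.card B) 2 with h2 | h2
  · by_cases hB1 : B = ⊥
    · rw [hB1, card_bot]
      exact Nat.pos_of_ne_zero index_ne_zero_of_finite
    · obtain ⟨⟨b, hb⟩, hb'⟩ := ne_bot_iff_exists_ne_one.1 hB1
      have hb1 : b ≠ 1 := fun h0 => hb' (Subtype.ext h0)
      refine h2.trans ((hm.two_le hb1).trans ?_)
      exact Nat.le_of_dvd (Nat.pos_of_ne_zero index_ne_zero_of_finite) (index_dvd_of_le (CS_le_fx hb))
  · obtain ⟨h4, hY, hM, hΘ⟩ := exists_four h hs h168 hB hsq h2
    rw [h4.card]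
    by_contra hcon
    have h5 := (centre hm h4 (by omega) (fun N hN hN2 => h.gen N (fun w hw => hN2 fun y hy => by
      rw [← hY] at hy
      exact h.fix y hy w hw) hN)).1
    omega

theorem main (h : HW ρ Y M C Θ J W₀) (hs : IsSimpleGroup H) (h168 : Nat.card H = 168) {B A : Subgroup H}
    {N : Subgroup W} {g : H} (d : Dir ρ M C Θ B A N g) : Nat.card B ≤ 2 := by
  by_contra hcon
  have hm := mod_of h hs h168
  obtain ⟨h4, hY, hM, hΘ⟩ := exists_four h hs h168 d.BΘ d.Bsq (by omega)
  have hgen : ∀ N : Subgroup W, (∀ x : H, ∀ v ∈ N, ρ x v ∈ N) → CS ρ (normalizer (B : Set H)) ≤ N → N = ⊤ :=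
    fun N hN hN2 => h.gen N (fun w hw => hN2 fun y hy => by
      rw [← hY] at hy
      exact h.fix y hy w hw) hN
  have hAB : A ≤ B := by rw [← hΘ]; exact d.AΘ
  -- `|A : N_A(V')| ≤ 2`
  have h1 : (M.map (MulAut.conj g).toMonoidHom).relIndex A ≤ 2 := by
    have h2 : Nat.card A ∣ 4 := by rw [← h4.card]; exact Subgroup.card_dvd_of_le hAB
    by_cases hA4 : Nat.card A = 4
    · have hA : A = B := Subgroup.eq_of_le_of_card_ge hAB (by rw [hA4, h4.card])
      obtain ⟨t, htB, ht1, htN⟩ := meet hm.l32 h4 (g := g) (by rw [← hM]; exact d.g_not)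
      have h5 : M.map (MulAut.conj g).toMonoidHom ⊓ A ≠ ⊥ := by
        intro h0
        apply ht1
        rw [← mem_bot, ← h0]
        refine ⟨?_, by rw [hA]; exact htB⟩
        rw [hM]
        exact htN
      have h6 := relIndex_mul_relIndex (⊥ : Subgroup H) (M.map (MulAut.conj g).toMonoidHom ⊓ A) A bot_le inf_le_right
      rw [relIndex_bot_left, relIndex_bot_left, inf_relIndex_right, hA4] at h6
      have h7 : Nat.card (M.map (MulAut.conj g).toMonoidHom ⊓ A : Subgroup H) ≠ 1 := fun h8 => h5 (card_eq_one.1 h8)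
      have h8 : 0 < Nat.card (M.map (MulAut.conj g).toMonoidHom ⊓ A : Subgroup H) := Nat.card_pos
      have h9 : 2 ≤ Nat.card (M.map (MulAut.conj g).toMonoidHom ⊓ A : Subgroup H) := by omega
      by_contra h10
      have h11 : 2 * 3 ≤ Nat.card (M.map (MulAut.conj g).toMonoidHom ⊓ A : Subgroup H) *
          (M.map (MulAut.conj g).toMonoidHom).relIndex A := Nat.mul_le_mul h9 (by omega)
      omega
    · have h5 : Nat.card A ≤ 2 := by
        have h6 : Nat.card A ≤ 4 := Nat.le_of_dvd (by norm_num) h2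
        have h7 : Nat.card A ≠ 3 := by
          intro h8
          rw [h8] at h2
          norm_num at h2
        omega
      have h6 : (M.map (MulAut.conj g).toMonoidHom).relIndex A ∣ Nat.card A := by
        have h7 := relIndex_dvd_card (M.map (MulAut.conj g).toMonoidHom) A
        exact h7
      exact (Nat.le_of_dvd Nat.card_pos h6).trans h5
  -- `N ≰ C(B)`
  have h2 : (CS ρ B).index ≤ 2 * (CS ρ B).relIndex N := d.ineq.trans (Nat.mul_le_mul_right _ h1)
  have hbot : ∀ N' : Subgroup W, ∀ b ∈ (⊥ : Subgroup H), ∀ n ∈ N', ρ b n = n := by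
    intro N' b hb n _
    rw [mem_bot.1 hb, map_one]; rfl
  have h3 : (CS ρ B).index ≤ 4 := by
    by_cases hN : N ≤ CS ρ B
    · rw [relIndex_eq_one.2 hN] at h2
      omega
    · have h5 := d.nff N le_rfl hN ⊥ bot_le (hbot N)
      rw [relIndex_bot_left, h4.card] at h5
      omega
  obtain ⟨h5, h6⟩ := centre hm h4 h3 hgen
  have hN : ¬ N ≤ CS ρ B := by
    intro hN
    rw [relIndex_eq_one.2 hN] at h2
    omega
  obtain ⟨w, hw, hwB⟩ := SetLike.not_le_iff_exists.1 hN
  obtain ⟨b, hb, hb1, hbw⟩ := h6 w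
  -- `B' = C_B(w)`
  obtain ⟨B', hB'⟩ : ∃ B' : Subgroup H, B' = B ⊓ ctr ρ (zpowers w) := ⟨_, rfl⟩
  have hbB' : b ∈ B' := by
    rw [hB']
    refine ⟨hb, ?_⟩
    show b ∈ ctr ρ (zpowers w)
    rw [mem_ctr]
    rintro _ ⟨k, rfl⟩
    show ρ b (w ^ k) = w ^ k
    rw [map_zpow, hbw]
  have hw' : ¬ zpowers w ≤ CS ρ B := fun h7 => hwB (h7 (mem_zpowers w))
  have h7 := d.nff (zpowers w) (zpowers_le.2 hw) hw' B' (by rw [hB']; exact inf_le_left) (by
    intro b hb n hn
    rw [hB'] at hb
    exact mem_ctr.1 hb.2 n hn)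
  have h8 : 2 ≤ (CS ρ B).relIndex (zpowers w) := by
    have h9 : (CS ρ B).relIndex (zpowers w) ≠ 0 := index_ne_zero_of_finite
    have h10 : (CS ρ B).relIndex (zpowers w) ≠ 1 := fun h11 => hw' (relIndex_eq_one.1 h11)
    omega
  have h9 : B' ≤ B := by rw [hB']; exact inf_le_left
  have h10 := relIndex_mul_relIndex (⊥ : Subgroup H) B' B bot_le h9
  rw [relIndex_bot_left, relIndex_bot_left, h4.card] at h10
  have h11 : Nat.card B' ≠ 1 := by
    intro h12
    apply hb1
    rw [card_eq_one.1 h12, mem_bot] at hbB'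
    exact hbB'
  have h12 : 0 < Nat.card B' := Nat.card_pos
  have h13 : 2 * 4 ≤ Nat.card B' * B'.relIndex B := Nat.mul_le_mul (by omega) (by omega)
  omega

end Cfsg.Agent.OddCyclic.EmpE.SevenK
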