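import Cfsg.Agent.OddCyclic.EmpE.SevenA

/-!
# S0342 T_cyc (Empty), (4.4): modules for `L₃(2)` in which all four-groups are quadratic, of the same index `≤ 8`

`Dat.target`: the index is 8, and for every four-group `A` and every `w` there are an involution `b ∈ A` and an
element `y` of order 3 inverted by an element of `A` such that `y` fixes `[w, b]`.
-/

set_option autoImplicit false
set_option linter.unusedSectionVars false

namespace Cfsg.Agent.OddCyclic.EmpE.SevenB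

open Subgroup Cfsg.Agent.GH.L2Aut Cfsg.Agent.OddCyclic.T1Module Cfsg.Agent.OddCyclic.FFBasic
  Cfsg.Agent.OddCyclic.FFRed Cfsg.Agent.OddCyclic.FFSl2 Cfsg.Agent.OddCyclic.FFThree Cfsg.Agent.OddCyclic.COneSeven
  Cfsg.Agent.OddCyclic.EmpE.SevenA

section group

variable {L : Type*} [Group L] [Finite L]

theorem inv_of_sq {a : L} (ha : a * a = 1) : a⁻¹ = a := inv_eq_of_mul_eq_one_left ha

theorem conj_swap {a b t : L} (ha : a * a = 1) (h : t * b * t⁻¹ = a * b) : b * t * b⁻¹ = a * t := by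
  have h1 : t * b = a * b * t := mul_inv_eq_iff_eq_mul.1 h
  have h2 : a * (t * b) = b * t := by rw [h1, ← mul_assoc, ← mul_assoc, ha, one_mul]
  rw [← h2, ← mul_assoc, mul_inv_cancel_right]

/-- `C(a)` is dihedral of order 8 -/
theorem part (h : L32 L) {a b : L} (hab : Four a b) : ∃ t, Four a t ∧ t * b * t⁻¹ = a * b := by
  obtain ⟨T, hAT⟩ := exists_sylow (isFour_sub hab)
  obtain ⟨z, c, t, hzA, hcA, hzc, hzt, -, hct, hmem, -⟩ := exists_partner h T (isFour_sub hab) hAT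
  obtain ⟨y, hyN, -, hy1, hy2⟩ := fuse_mem h hzc hmem
  have key0 : t * c * t⁻¹ = z * c := conj_swap hzc.aa hct
  have key : ∀ x ∈ hab.sub, x ≠ 1 → x ≠ z → t * x * t⁻¹ = z * x := by
    intro x hx hx1 hxz
    rcases (hmem x).1 hx with rfl | rfl | rfl | rfl
    · exact absurd rfl hx1
    · exact absurd rfl hxz
    · exact key0
    · have e1 : t * (z * c) * t⁻¹ = (t * z * t⁻¹) * (t * c * t⁻¹) := by group
      have e2 : t * z * t⁻¹ = z := by rw [← hzt.comm, mul_inv_cancel_right]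
      rw [e1, e2, key0]
  have main : ∀ g : L, (∀ x ∈ hab.sub, g⁻¹ * x * g ∈ hab.sub) → g * z * g⁻¹ = a →
      ∃ t, Four a t ∧ t * b * t⁻¹ = a * b := by
    intro g hg hga
    refine ⟨g * t * g⁻¹, ?_, ?_⟩
    · have := hzt.map (MulAut.conj g)
      rw [MulAut.conj_apply, MulAut.conj_apply, hga] at this
      exact this
    · have hb : b ∈ hab.sub := Or.inr (Or.inr (Or.inl rfl))
      have e1 := key _ (hg b hb) ?_ ?_
      · have e2 : g * t * g⁻¹ * b * (g * t * g⁻¹)⁻¹ = g * (t * (g⁻¹ * b * g) * t⁻¹) * g⁻¹ := by group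
        rw [e2, e1, ← hga]; group
      · intro h1
        apply hab.b1
        have : b = g * (g⁻¹ * b * g) * g⁻¹ := by group
        rw [this, h1]; group
      · intro h1
        apply hab.ne
        have : b = g * (g⁻¹ * b * g) * g⁻¹ := by group
        rw [this, h1, hga]
  have hN : ∀ g ∈ Subgroup.normalizer (hab.sub : Set L), ∀ x ∈ hab.sub, g⁻¹ * x * g ∈ hab.sub := by
    intro g hg x hx
    have := mem_normalizer_conj (inv_mem hg) hx
    rwa [inv_inv] at this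
  have ha : a ∈ hab.sub := Or.inr (Or.inl rfl)
  rcases (hmem a).1 ha with h1 | h1 | h1 | h1
  · exact absurd h1 hab.a1
  · exact main 1 (hN 1 (one_mem _)) (by rw [h1]; group)
  · exact main y (hN y hyN) (by rw [h1]; exact hy1)
  · refine main (y * y) (hN _ (mul_mem hyN hyN)) ?_
    have e1 : y * y * z * (y * y)⁻¹ = y * (y * z * y⁻¹) * y⁻¹ := by group
    rw [e1, hy1, h1, hy2]

/-- an element of order 3 of the normaliser of `⟨x, t⟩` inverted by `b` -/
theorem inv3 (h : L32 L) {x t b : L} (hxt : Four x t) (hb : b * b = 1) (hbx : b * x * b⁻¹ = x)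
    (hbt : b * t * b⁻¹ = x * t) :
    ∃ y, orderOf y = 3 ∧ b * y * b⁻¹ = y⁻¹ ∧ y * x * y⁻¹ = t ∧ y * t * y⁻¹ = x * t := by
  obtain ⟨g, -, hg1, hg2⟩ := h.fuse x t hxt
  have hbi : b⁻¹ = b := inv_of_sq hb
  have hxti : x * t * (x * t) = 1 := hxt.right.bb
  have hg1' : g⁻¹ * t * g = x := by rw [← hg1]; group
  have hg2' : g⁻¹ * (x * t) * g = t := by rw [← hg2]; group
  have hg3' : g⁻¹ * x * g = x * t := by
    have e1 : g * (x * t) * g⁻¹ = x := by
      have : g * (x * t) * g⁻¹ = (g * x * g⁻¹) * (g * t * g⁻¹) := by group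
      rw [this, hg1, hg2, hxt.comm, ← mul_assoc, hxt.bb, one_mul]
    have : g⁻¹ * x * g = g⁻¹ * (g * (x * t) * g⁻¹) * g := by rw [e1]
    rw [this]; group
  have hbxt : b * (x * t) * b⁻¹ = t := by
    have : b * (x * t) * b⁻¹ = (b * x * b⁻¹) * (b * t * b⁻¹) := by group
    rw [this, hbx, hbt, ← mul_assoc, hxt.aa, one_mul]
  set y := b * g * b * g⁻¹ with hy
  have hyx : y * x * y⁻¹ = t := by
    have e1 : y * x * y⁻¹ = b * (g * (b * (g⁻¹ * x * g) * b⁻¹) * g⁻¹) * b⁻¹ := by rw [hy]; group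
    rw [e1, hg3', hbxt, hg2, hbxt]
  have hyt : y * t * y⁻¹ = x * t := by
    have e1 : y * t * y⁻¹ = b * (g * (b * (g⁻¹ * t * g) * b⁻¹) * g⁻¹) * b⁻¹ := by rw [hy]; group
    rw [e1, hg1', hbx, hg1, hbt]
  have hyxt : y * (x * t) * y⁻¹ = x := by
    have : y * (x * t) * y⁻¹ = (y * x * y⁻¹) * (y * t * y⁻¹) := by group
    rw [this, hyx, hyt, hxt.comm, ← mul_assoc, hxt.bb, one_mul]
  refine ⟨y, ?_, ?_, hyx, hyt⟩
  · have h3 : y * y * y = 1 := by
      have c1 : y * y * y * x = x * (y * y * y) := by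
        have e1 : y * y * y * x * (y * y * y)⁻¹ = x := by
          have : y * y * y * x * (y * y * y)⁻¹ = y * (y * (y * x * y⁻¹) * y⁻¹) * y⁻¹ := by group
          rw [this, hyx, hyt, hyxt]
        exact mul_inv_eq_iff_eq_mul.1 e1
      have c2 : y * y * y * t = t * (y * y * y) := by
        have e1 : y * y * y * t * (y * y * y)⁻¹ = t := by
          have : y * y * y * t * (y * y * y)⁻¹ = y * (y * (y * t * y⁻¹) * y⁻¹) * y⁻¹ := by group
          rw [this, hyt, hyxt, hyx]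
        exact mul_inv_eq_iff_eq_mul.1 e1
      have c3 : y * (y * y * y) * y⁻¹ = y * y * y := by group
      rcases h.cent x t _ hxt c1 c2 with h1 | h1 | h1 | h1
      · exact h1
      · rw [h1, hyx] at c3
        exact absurd c3.symm hxt.ne
      · rw [h1, hyt] at c3
        exact absurd (mul_eq_right.1 c3) hxt.a1
      · rw [h1, hyxt] at c3
        exact absurd (left_eq_mul.1 c3) hxt.b1
    have hy1 : y ≠ 1 := by
      intro h1
      apply hxt.ne
      rw [h1] at hyx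
      rw [← hyx]; group
    have : Fact (Nat.Prime 3) := ⟨Nat.prime_three⟩
    exact orderOf_eq_prime (by rw [pow_succ, pow_two]; exact h3) hy1
  · have e1 : b * y * b⁻¹ = (b * b) * (g * b * g⁻¹ * b⁻¹) := by rw [hy]; group
    have e2 : y⁻¹ = g * b⁻¹ * g⁻¹ * b⁻¹ := by rw [hy]; group
    rw [e1, e2, hb, one_mul, hbi]

end group

variable {L : Type*} [Group L] [Finite L] {V : Type*} [CommGroup V] [Finite V] {ρ : L →* MulAut V}

/-- all four-groups are quadratic, of the same index `m ≤ 8` -/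
structure Dat (ρ : L →* MulAut V) (m : ℕ) : Prop where
  mod : Mod ρ
  quad : ∀ a b : L, Four a b → ∀ v, ρ b (cm ρ a v) = cm ρ a v
  idx : ∀ A : Subgroup L, IsFour A → (CS ρ A).index = m
  le : m ≤ 8

theorem cm_conj (g a : L) (v : V) : cm ρ (g * a * g⁻¹) v = ρ g (cm ρ a (ρ g⁻¹ v)) := by
  have e : ρ g (ρ g⁻¹ v) = v := by
    rw [← MulAut.mul_apply, ← map_mul, mul_inv_cancel, map_one]; rfl
  have e2 : ρ g ((ρ g⁻¹ v)⁻¹) = v⁻¹ := (map_inv (ρ g) (ρ g⁻¹ v)).trans (congrArg (·⁻¹) e)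
  calc cm ρ (g * a * g⁻¹) v = ρ (g * a * g⁻¹) v * v⁻¹ := rfl
    _ = ρ g (ρ a (ρ g⁻¹ v)) * v⁻¹ := by rw [map_mul ρ, map_mul ρ]; rfl
    _ = ρ g (ρ a (ρ g⁻¹ v)) * ρ g ((ρ g⁻¹ v)⁻¹) := by rw [e2]
    _ = ρ g (cm ρ a (ρ g⁻¹ v)) := (map_mul (ρ g) _ _).symm

theorem Dat.mem_CS {m : ℕ} (h : Dat ρ m) {A : Subgroup L} (hA : IsFour A) {a : L} (ha : a ∈ A) (v : V) :
    cm ρ a v ∈ CS ρ A := by
  intro b hb
  by_cases ha1 : a = 1
  · rw [ha1]
    have : cm ρ (1 : L) v = 1 := by rw [cm_apply, map_one]; simp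
    rw [this, map_one]
  by_cases hb1 : b = 1
  · rw [hb1, map_one]; rfl
  by_cases hab : a = b
  · rw [← hab]; exact cm_mem_fx h.mod (hA.sq a ha) v
  · exact h.quad a b ⟨hA.sq a ha, hA.sq b hb, ha1, hb1, hab, comm_of_sq hA.sq ha hb⟩ v

theorem Dat.not_ax {m : ℕ} (h : Dat ρ m) (A : Subgroup L) : ¬ Ax ρ A := by
  intro hA
  obtain ⟨T, hAT⟩ := exists_sylow hA.four
  -- all four-groups are axes
  obtain ⟨a, ha, ha1, -⟩ := hA.four.exists_third 1
  have haa := hA.four.sq a ha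
  have hfa : (fx ρ a).index = m := by rw [hA.fix a ha ha1, h.idx A hA.four]
  have hall : ∀ B : Subgroup L, IsFour B → Ax ρ B := by
    intro B hB
    refine ⟨hB, fun b hb hb1 => ?_⟩
    symm
    apply eq_of_index_le (CS_le_fx hb)
    rw [h.idx B hB, h.mod.idx hb1 (hB.sq b hb) ha1 haa, hfa]
  obtain ⟨B, hB⟩ := FFThree.par h.mod.l32 T hA.four hAT hA.fix
  obtain ⟨C, hC⟩ := FFThree.par h.mod.l32 T hB.four hB.le (hall B hB.four).fix
  have hCA : C = A := by
    rcases hB.only C hC.four hC.le with h1 | h1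
    · exact h1
    · exact absurd h1.symm hC.ne
  subst hCA
  have hT : CS ρ (T : Subgroup L) ≤ CS ρ ⊤ := by
    intro v hv
    rw [mem_CS_iff, ← hB.gen]
    refine sup_le ?_ ?_
    · exact fun x hx => hC.cent x hx v hv
    · exact fun x hx => hB.cent x hx v hv
  have hcA : CS ρ C ≤ CS ρ ⊤ := by
    rw [← hC.fix]; exact hT
  have htop : ∀ x ∈ (⊤ : Subgroup L), ∀ v ∈ CS ρ (⊤ : Subgroup L), ρ x v = v := fun x hx v hv => hv x hx
  have hinv : ∀ x : L, x ≠ 1 → x * x = 1 → ∀ v, cm ρ x v ∈ CS ρ (⊤ : Subgroup L) := by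
    intro x hx1 hxx v
    obtain ⟨g, rfl⟩ := h.mod.l32.conj a x ha1 haa hx1 hxx
    rw [cm_conj]
    have h1 := hcA (h.mem_CS hA.four ha (ρ g⁻¹ v))
    rw [htop g (mem_top g) _ h1]
    exact h1
  obtain ⟨w, b, c, hw, hw1, hb, hb1, hc, hc1, hu, -⟩ := h.mod.l32.gen
  have hmul : ∀ x y : L, (∀ v, cm ρ x v ∈ CS ρ (⊤ : Subgroup L)) → (∀ v, cm ρ y v ∈ CS ρ (⊤ : Subgroup L)) →
      ∀ v, cm ρ (x * y) v ∈ CS ρ (⊤ : Subgroup L) := by
    intro x y hx hy v
    rw [cm_mul]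
    exact mul_mem (mul_mem (hx _) (hy v)) (hx v)
  have h1 := hmul _ _ (hmul _ _ (hinv b hb1 hb) (hinv c hc1 hc)) (hinv w hw1 hw)
  have hu1 : b * c * w ≠ 1 := by
    intro h0
    rw [h0, orderOf_one] at hu
    norm_num at hu
  obtain ⟨v, hv⟩ := h.mod.faith _ hu1
  apply hv
  have h2 := eq_one_of_fix h.mod.sq (y := b * c * w) (by rw [hu]; decide) (w := cm ρ (b * c * w) v) ⟨v, rfl⟩
    (h1 v _ (mem_top _))
  rwa [cm_apply, mul_inv_eq_one] at h2

theorem Dat.index_fx {m : ℕ} (h : Dat ρ m) : m = 8 ∧ ∀ a : L, a ≠ 1 → a * a = 1 → (fx ρ a).index = 4 := by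
  obtain ⟨p, q, hpq⟩ := h.mod.l32.four
  have hA := isFour_sub hpq
  have hm := h.idx _ hA
  obtain ⟨d, hd⟩ := index_pow h.mod.sq (fx ρ p)
  obtain ⟨e, he⟩ := index_pow h.mod.sq (CS ρ hpq.sub)
  have h2 := h.mod.two_le hpq.a1
  have hle : (fx ρ p).index ≤ (CS ρ hpq.sub).index := index_le_of_le (CS_le_fx (Or.inr (Or.inl rfl)))
  have hne : (fx ρ p).index ≠ (CS ρ hpq.sub).index := by
    intro h1
    apply h.not_ax hpq.sub
    refine ⟨hA, fun a ha ha1 => ?_⟩
    symm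
    apply eq_of_index_le (CS_le_fx ha)
    rw [h.mod.idx ha1 (hA.sq a ha) hpq.a1 hpq.aa, h1]
  have h2' : (fx ρ p).index ≠ 2 := by
    intro h1
    have hα := alpha_of h.mod hpq.a1 hpq.aa h1
    obtain ⟨T, -⟩ := exists_sylow hA
    obtain ⟨A, h3, -, h4⟩ := Alpha.exists_axis h.mod hα T
    exact h.not_ax A ⟨h3, h4⟩
  have hle8 := h.le
  rw [← hm, he] at hle8
  rw [hd] at h2 h2' hle hne
  rw [he] at hle hne
  have he3 : e ≤ 3 := (Nat.pow_le_pow_iff_right (by norm_num)).1 (hle8.trans (by norm_num : 8 ≤ 2 ^ 3))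
  have hde : d ≤ e := (Nat.pow_le_pow_iff_right (by norm_num)).1 hle
  have hd0 : d ≠ 0 := by rintro rfl; norm_num at h2
  have hd1 : d ≠ 1 := by rintro rfl; norm_num at h2'
  have hde' : d ≠ e := fun h1 => hne (by rw [h1])
  have hd2 : d = 2 := by omega
  have he3' : e = 3 := by omega
  refine ⟨by rw [← hm, he, he3']; norm_num, fun a ha1 ha => ?_⟩
  rw [h.mod.idx ha1 ha hpq.a1 hpq.aa, hd, hd2]; norm_num

theorem eq_of_le_two {V : Type*} [Group V] [Finite V] {A B : Subgroup V} (hAB : A ≤ B) (hA : Nat.card A = 2)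
    (hB : Nat.card B = 2) : A = B := Subgroup.eq_of_le_of_card_ge hAB (by rw [hA, hB])

/-- `[C_V(b), a]` -/
def KK (ρ : L →* MulAut V) (a b : L) : Subgroup V := (fx ρ b).map (cm ρ a)

/-- `C_V(a) C_V(b)` -/
def EE (ρ : L →* MulAut V) (a b : L) : Subgroup V := fx ρ a ⊔ fx ρ b

theorem EE_comm (a b : L) : EE ρ a b = EE ρ b a := sup_comm _ _

section dat

variable {m : ℕ} (h : Dat ρ m)
include h

theorem index_inf {a b : L} (hab : Four a b) : (fx ρ a ⊓ fx ρ b).index = 8 := by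
  rw [← CS_sub hab, h.idx _ (isFour_sub hab)]
  exact h.index_fx.1

theorem card_fx {a : L} (ha1 : a ≠ 1) (ha : a * a = 1) : Nat.card (fx ρ a) * 4 = Nat.card V := by
  rw [← h.index_fx.2 a ha1 ha]; exact Subgroup.card_mul_index _

theorem card_inf {a b : L} (hab : Four a b) : Nat.card (fx ρ a ⊓ fx ρ b : Subgroup V) * 8 = Nat.card V := by
  rw [← index_inf h hab]; exact Subgroup.card_mul_index _

theorem index_EE {a b : L} (hab : Four a b) : (EE ρ a b).index = 2 := by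
  have h1 := card_sup_mul (fx ρ a) (fx ρ b)
  have h2 := card_fx h hab.a1 hab.aa
  have h3 := card_fx h hab.b1 hab.bb
  have h4 := card_inf h hab
  have h5 := (EE ρ a b).card_mul_index
  have h0 : 0 < Nat.card (fx ρ a ⊓ fx ρ b : Subgroup V) := Nat.card_pos
  have h6 : Nat.card (fx ρ a) = 2 * Nat.card (fx ρ a ⊓ fx ρ b : Subgroup V) := by omega
  have h7 : Nat.card (fx ρ b) = 2 * Nat.card (fx ρ a ⊓ fx ρ b : Subgroup V) := by omega
  rw [h6, h7] at h1
  have h8 : Nat.card (fx ρ a ⊔ fx ρ b : Subgroup V) = 4 * Nat.card (fx ρ a ⊓ fx ρ b : Subgroup V) := by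
    apply Nat.eq_of_mul_eq_mul_right h0
    rw [h1]; ring
  change Nat.card (fx ρ a ⊔ fx ρ b : Subgroup V) * _ = _ at h5
  rw [h8, ← h4] at h5
  have h9 : Nat.card (fx ρ a ⊓ fx ρ b : Subgroup V) * (4 * (EE ρ a b).index) =
      Nat.card (fx ρ a ⊓ fx ρ b : Subgroup V) * 8 := by rw [← h5]; ring
  have h10 := Nat.eq_of_mul_eq_mul_left h0 h9
  omega

theorem card_KK {a b : L} (hab : Four a b) : Nat.card (KK ρ a b) = 2 := by
  have h1 : Nat.card (KK ρ a b) = (cm ρ a).ker.relIndex (fx ρ b) := by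
    rw [KK, Subgroup.relIndex_ker]
  rw [h1, ker_cm]
  have h2 := card_mul_relIndex (A := fx ρ a ⊓ fx ρ b) (B := fx ρ b) inf_le_right
  rw [Subgroup.inf_relIndex_right] at h2
  have h3 := card_fx h hab.b1 hab.bb
  have h4 := card_inf h hab
  have h0 : 0 < Nat.card (fx ρ a ⊓ fx ρ b : Subgroup V) := Nat.card_pos
  have h5 : Nat.card (fx ρ b) = Nat.card (fx ρ a ⊓ fx ρ b : Subgroup V) * 2 := by omega
  rw [h5] at h2
  exact Nat.eq_of_mul_eq_mul_left h0 h2

theorem fx_mul_le {a b : L} (hab : Four a b) : fx ρ (a * b) ≤ EE ρ a b := by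
  obtain ⟨t, hat, htb⟩ := part h.mod.l32 hab
  intro v hv
  rw [← htb, fx_conj] at hv
  obtain ⟨w, hw, rfl⟩ := hv
  change ρ t w ∈ EE ρ a b
  rw [SetLike.mem_coe] at hw
  have h1 : cm ρ a (ρ t w) = cm ρ a w := by
    have h2 : t * a * t⁻¹ = a := by rw [← hat.comm, mul_inv_cancel_right]
    have h3 := cm_conj (ρ := ρ) t a (ρ t w)
    rw [h2] at h3
    have e : ρ t⁻¹ (ρ t w) = w := by
      rw [← MulAut.mul_apply, ← map_mul, inv_mul_cancel, map_one]; rfl
    rw [h3, e]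
    exact h.quad a t hat w
  have h2 : ρ t w * w⁻¹ ∈ fx ρ a := by
    rw [← ker_cm, MonoidHom.mem_ker, map_mul, map_inv, h1, mul_inv_cancel]
  have h3 : ρ t w = (ρ t w * w⁻¹) * w := by group
  rw [h3]
  exact mul_mem (mem_sup_left h2) (mem_sup_right hw)

theorem EE_right {a b : L} (hab : Four a b) : EE ρ a (a * b) = EE ρ a b := by
  apply eq_of_index_le
  · exact sup_le le_sup_left (fx_mul_le h hab)
  · rw [index_EE h hab.right, index_EE h hab]

theorem KK_right {a b : L} (hab : Four a b) : KK ρ a (a * b) = KK ρ a b := by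
  apply eq_of_le_two ?_ (card_KK h hab.right) (card_KK h hab)
  rintro _ ⟨v, hv, rfl⟩
  obtain ⟨x, hx, y, hy, rfl⟩ := Subgroup.mem_sup.1 (fx_mul_le h hab hv)
  refine ⟨y, hy, ?_⟩
  rw [map_mul]
  have : cm ρ a x = 1 := by rw [← MonoidHom.mem_ker, ker_cm]; exact hx
  rw [this, one_mul]

theorem KK_left {a b : L} (_hab : Four a b) : KK ρ (a * b) b = KK ρ a b := by
  have h1 : ∀ v ∈ fx ρ b, cm ρ (a * b) v = cm ρ a v := by
    intro v hv
    rw [cm_apply, cm_apply, map_mul, MulAut.mul_apply, (mem_fx ρ).1 hv]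
  apply le_antisymm
  · rintro _ ⟨v, hv, rfl⟩
    exact ⟨v, hv, (h1 v hv).symm⟩
  · rintro _ ⟨v, hv, rfl⟩
    exact ⟨v, hv, h1 v hv⟩

theorem KK_comm {a b : L} (hab : Four a b) : KK ρ a b = KK ρ b a := by
  -- `K(a,b) = K(a,ab) = K(b,ab) = K(b,a)`
  have e1 := KK_right h hab
  have hr : Four a (a * b) := hab.right
  have e2 := KK_left h hr
  have e3 : a * (a * b) = b := by rw [← mul_assoc, hab.aa, one_mul]
  rw [e3] at e2
  have e4 := KK_right h hab.symm
  have e5 : b * a = a * b := hab.comm.symm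
  rw [e5] at e4
  rw [← e1, ← e2, e4]

theorem KK_le_range (a b : L) : KK ρ a b ≤ (cm ρ a).range := by
  rintro _ ⟨v, -, rfl⟩
  exact ⟨v, rfl⟩

theorem KK_le_fx {a b : L} (ha : a * a = 1) : KK ρ a b ≤ fx ρ a := by
  rintro _ ⟨v, -, rfl⟩
  exact cm_mem_fx h.mod ha v

theorem cm_mem_iff {a b : L} (_hab : Four a b) (w : V) : cm ρ a w ∈ KK ρ a b ↔ w ∈ EE ρ a b := by
  constructor
  · rintro ⟨e, he, h1⟩
    have h2 : w * e⁻¹ ∈ fx ρ a := by
      rw [← ker_cm, MonoidHom.mem_ker, map_mul, map_inv, h1, mul_inv_cancel]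
    have h3 : w = (w * e⁻¹) * e := by group
    rw [h3]
    exact mul_mem (mem_sup_left h2) (mem_sup_right he)
  · intro hw
    obtain ⟨x, hx, y, hy, rfl⟩ := Subgroup.mem_sup.1 hw
    refine ⟨y, hy, ?_⟩
    rw [map_mul]
    have : cm ρ a x = 1 := by rw [← MonoidHom.mem_ker, ker_cm]; exact hx
    rw [this, one_mul]

theorem cm_mem_iff' {a b : L} (hab : Four a b) (w : V) : cm ρ b w ∈ KK ρ a b ↔ w ∈ EE ρ a b := by
  rw [KK_comm h hab, cm_mem_iff h hab.symm, EE_comm]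

theorem cm_mem_iff'' {a b : L} (hab : Four a b) (w : V) : cm ρ (a * b) w ∈ KK ρ a b ↔ w ∈ EE ρ a b := by
  rw [← KK_right h hab, KK_comm h hab.right, cm_mem_iff h hab.right.symm, EE_comm, EE_right h hab]

theorem cm_ab {a b : L} (hab : Four a b) (w : V) : cm ρ (a * b) w = cm ρ b w * cm ρ a w := by
  have h1 : cm ρ a (cm ρ b w) = 1 := by
    rw [cm_apply ρ a, h.quad b a hab.symm, mul_inv_cancel]
  rw [cm_mul, h1, one_mul]

theorem range_inf {a b : L} (hab : Four a b) : (cm ρ a).range ⊓ (cm ρ b).range ≤ KK ρ a b := by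
  rintro r ⟨⟨w, rfl⟩, ⟨w', hw'⟩⟩
  rw [cm_mem_iff h hab]
  by_contra hw
  have hw'' : w' ∉ EE ρ a b := by
    intro h1
    apply hw
    rw [← cm_mem_iff h hab, ← hw']
    exact (cm_mem_iff' h hab w').2 h1
  have h1 : w' * w⁻¹ ∈ EE ρ a b := by
    have h2 := (Subgroup.mul_mem_iff_of_index_two (index_EE h hab) (a := w') (b := w⁻¹)).2
      ⟨fun h => absurd h hw'', fun h => absurd (inv_mem_iff.1 h) hw⟩
    exact h2
  have h2 := (cm_mem_iff' h hab _).2 h1
  rw [map_mul, map_inv, hw'] at h2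
  have h3 : cm ρ (a * b) w ∈ KK ρ a b := by
    rw [cm_ab h hab]
    have h4 : (cm ρ b w)⁻¹ = cm ρ b w := inv_eq_of_mul_eq_one_left (h.mod.sq _)
    rw [h4, mul_comm] at h2
    exact h2
  exact hw ((cm_mem_iff'' h hab w).1 h3)

/-- the two four-groups containing `z` have different centres -/
theorem KK_ne {z a c : L} (hza : Four z a) (hzc : Four z c) (hac : a * c * a⁻¹ = z * c) : KK ρ z a ≠ KK ρ z c := by
  intro heq
  have hE : EE ρ z a = EE ρ z c := by
    ext w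
    rw [← cm_mem_iff h hza, ← cm_mem_iff h hzc, heq]
  set K := KK ρ z a with hK
  set X := EE ρ z a with hX
  have hidx : X.index = 2 := index_EE h hza
  have hKX : K ≤ X := (KK_le_fx h hza.aa).trans le_sup_left
  have ka : ∀ w, cm ρ a w ∈ K ↔ w ∈ X := fun w => cm_mem_iff' h hza w
  have kc : ∀ w, cm ρ c w ∈ K ↔ w ∈ X := fun w => by rw [heq, hE]; exact cm_mem_iff' h hzc w
  have kX : ∀ x : L, x * x = 1 → (∀ w, cm ρ x w ∈ K ↔ w ∈ X) → ∀ w, cm ρ x w ∈ X := by
    intro x hx hxw w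
    have h1 : ∀ w ∈ X, ρ x w ∈ X := by
      intro w hw
      have h2 : ρ x w = cm ρ x w * w := by rw [cm_apply]; group
      rw [h2]
      exact mul_mem (hKX ((hxw w).2 hw)) hw
    have h2 : ρ x w ∈ X ↔ w ∈ X := by
      refine ⟨fun h3 => ?_, h1 w⟩
      have h4 := h1 _ h3
      have h5 : ρ x (ρ x w) = w := by rw [← MulAut.mul_apply, ← map_mul, hx, map_one]; rfl
      rwa [h5] at h4
    rw [cm_apply]
    exact (Subgroup.mul_mem_iff_of_index_two hidx).2 (h2.trans inv_mem_iff.symm)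
  have g1 : ∀ w, cm ρ (a * c) w ∈ X := by
    intro w
    rw [cm_mul]
    exact mul_mem (mul_mem (kX a hza.bb ka _) (kX c hzc.bb kc _)) (kX a hza.bb ka _)
  have g2 : ∀ w ∈ X, cm ρ (a * c) w ∈ K := by
    intro w hw
    rw [cm_mul]
    exact mul_mem (mul_mem ((ka _).2 (hKX ((kc w).2 hw))) ((kc w).2 hw)) ((ka w).2 hw)
  have g3 : a * c * (a * c) = z := by
    have h1 : a * c = z * c * a := mul_inv_eq_iff_eq_mul.1 hac
    calc a * c * (a * c) = z * c * a * (a * c) := by rw [← h1]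
      _ = z * c * (a * a) * c := by group
      _ = z := by rw [hza.bb, mul_one, mul_assoc, hzc.bb, mul_one]
  have g4 : ∀ w, cm ρ z w ∈ K := by
    intro w
    rw [← g3, cm_mul, mul_assoc, h.mod.sq, mul_one]
    exact g2 _ (g1 w)
  have g5 : X = ⊤ := by
    rw [eq_top_iff]
    intro w _
    rw [hX, ← cm_mem_iff h hza]
    exact g4 w
  rw [g5, Subgroup.index_top] at hidx
  norm_num at hidx

/-- the images of `K(a, b)` -/
theorem map_KK (g a b : L) {v : V} (hv : v ∈ KK ρ a b) : ρ g v ∈ KK ρ (g * a * g⁻¹) (g * b * g⁻¹) := by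
  obtain ⟨w, hw, rfl⟩ := hv
  refine ⟨ρ g w, ?_, ?_⟩
  · have : ρ g w ∈ (fx ρ b).map (ρ g : V ≃* V).toMonoidHom := ⟨w, hw, rfl⟩
    rw [← fx_conj] at this
    exact this
  · have e : ρ g⁻¹ (ρ g w) = w := by
      rw [← MulAut.mul_apply, ← map_mul, inv_mul_cancel, map_one]; rfl
    rw [cm_conj, e]

theorem eq_of_mem_two {A : Subgroup V} (hA : Nat.card A = 2) {x y : V} (hx : x ∈ A) (hy : y ∈ A) (hx1 : x ≠ 1)
    (hy1 : y ≠ 1) : x = y := by
  obtain ⟨u, hu⟩ := (Nat.card_eq_two_iff' (1 : A)).1 hA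
  have q1 := hu.2 ⟨_, hx⟩ (fun h0 => hx1 (congrArg Subtype.val h0))
  have q2 := hu.2 ⟨_, hy⟩ (fun h0 => hy1 (congrArg Subtype.val h0))
  exact (congrArg Subtype.val q1).trans (congrArg Subtype.val q2).symm

theorem exists_gen {A : Subgroup V} (hA : Nat.card A = 2) : ∃ x ∈ A, x ≠ 1 := by
  obtain ⟨u, hu⟩ := (Nat.card_eq_two_iff' (1 : A)).1 hA
  exact ⟨u, u.2, fun h0 => hu.1 (Subtype.ext h0)⟩

/-- `y` fixes `K(x, t)` -/
theorem fix_KK {x t y : L} (hxt : Four x t) (h1 : y * x * y⁻¹ = t) (h2 : y * t * y⁻¹ = x * t) {p : V}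
    (hp : p ∈ KK ρ x t) : ρ y p = p := by
  by_cases hp1 : p = 1
  · rw [hp1, map_one]
  have h3 := map_KK h y x t hp
  rw [h1, h2] at h3
  have h4 : KK ρ t (x * t) = KK ρ x t := by
    have e1 := KK_right h hxt.symm
    rw [← hxt.comm] at e1
    rw [e1, KK_comm h hxt.symm]
  rw [h4] at h3
  exact eq_of_mem_two h (card_KK h hxt) h3 hp (fun h0 => hp1 ((ρ y).injective (by rw [h0, map_one]))) hp1

/-- the values of `[w, a]` for `w ∉ E` -/
theorem cm_or {a b t : L} (hab : Four a b) (hat : Four a t) (hbt : b * t * b⁻¹ = a * t) {f p : V}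
    (hf : f ∈ KK ρ a b) (hf1 : f ≠ 1) (hp : p ∈ KK ρ a t) (hp1 : p ≠ 1) {w : V} (hw : w ∉ EE ρ a b) :
    cm ρ a w = p ∨ cm ρ a w = f * p := by
  have hR : Nat.card (cm ρ a).range = 4 := by rw [card_range_cm]; exact h.index_fx.2 a hab.a1 hab.aa
  have hfp : f ≠ p := by
    intro h0
    apply KK_ne h hab hat hbt
    apply le_antisymm
    · intro x hx
      by_cases hx1 : x = 1
      · rw [hx1]; exact one_mem _
      · rw [eq_of_mem_two h (card_KK h hab) hx hf hx1 hf1, h0]; exact hp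
    · intro x hx
      by_cases hx1 : x = 1
      · rw [hx1]; exact one_mem _
      · rw [eq_of_mem_two h (card_KK h hat) hx hp hx1 hp1, ← h0]; exact hf
  have hfR := KK_le_range h a b hf
  have hpR := KK_le_range h a t hp
  have hcw : cm ρ a w ∉ KK ρ a b := fun h0 => hw ((cm_mem_iff h hab w).1 h0)
  have hc1 : cm ρ a w ≠ 1 := fun h0 => hcw (by rw [h0]; exact one_mem _)
  have hcf : cm ρ a w ≠ f := fun h0 => hcw (by rw [h0]; exact hf)
  by_contra hcon
  push Not at hcon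
  have hfinv : f⁻¹ = f := inv_eq_of_mul_eq_one_left (h.mod.sq f)
  -- five different elements of the range
  have hcl : ({1, f, p, f * p, cm ρ a w} : Set V) ⊆ (cm ρ a).range := by
    rintro x (rfl | rfl | rfl | rfl | rfl)
    · exact one_mem _
    · exact hfR
    · exact hpR
    · exact mul_mem hfR hpR
    · exact ⟨w, rfl⟩
  have hn : ({1, f, p, f * p, cm ρ a w} : Set V).ncard = 5 := by
    have e1 : f * p ≠ 1 := fun h0 => hfp (by
      have := eq_inv_of_mul_eq_one_right h0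
      rw [this, hfinv])
    have e2 : f ≠ f * p := fun h0 => hp1 (left_eq_mul.1 h0)
    have e3 : p ≠ f * p := fun h0 => hf1 (right_eq_mul.1 h0)
    rw [Set.ncard_insert_of_notMem, Set.ncard_insert_of_notMem, Set.ncard_insert_of_notMem, Set.ncard_pair]
    · exact fun h0 => hcon.2 h0.symm
    · rintro (h0 | h0)
      · exact e3 h0
      · exact hcon.1 h0.symm
    · rintro (h0 | h0 | h0)
      · exact hfp h0
      · exact e2 h0
      · exact hcf h0.symm
    · rintro (h0 | h0 | h0 | h0)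
      · exact hf1 h0.symm
      · exact hp1 h0.symm
      · exact e1 h0.symm
      · exact hc1 h0.symm
  have := Set.ncard_le_ncard hcl (Set.toFinite _)
  rw [hn, ← Nat.card_coe_set_eq] at this
  change 5 ≤ Nat.card (cm ρ a).range at this
  omega

theorem target_four {a b : L} (hab : Four a b) (w : V) :
    ∃ x ∈ hab.sub, x ≠ 1 ∧ ∃ s ∈ hab.sub, ∃ y : L, orderOf y = 3 ∧ s * y * s⁻¹ = y⁻¹ ∧
      ρ y (cm ρ x w) = cm ρ x w := by
  obtain ⟨t, hat, htb⟩ := part h.mod.l32 hab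
  obtain ⟨s, hbs, hsa⟩ := part h.mod.l32 hab.symm
  have haA : a ∈ hab.sub := Or.inr (Or.inl rfl)
  have hbA : b ∈ hab.sub := Or.inr (Or.inr (Or.inl rfl))
  have habA : a * b ∈ hab.sub := Or.inr (Or.inr (Or.inr rfl))
  have hbt : b * t * b⁻¹ = a * t := conj_swap hab.aa htb
  have has : a * s * a⁻¹ = b * s := conj_swap hab.bb hsa
  have hba' : b * a * b⁻¹ = a := by rw [← hab.comm, mul_inv_cancel_right]
  have hab' : a * b * a⁻¹ = b := by rw [hab.comm, mul_inv_cancel_right]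
  obtain ⟨y, hy3, hyi, hy1, hy2⟩ := inv3 h.mod.l32 hat hab.bb hba' hbt
  by_cases hw : w ∈ EE ρ a b
  · have h1 := (cm_mem_iff h hab w).2 hw
    have h2 := (cm_mem_iff' h hab w).2 hw
    obtain ⟨x, hx, hx1, hx2⟩ : ∃ x ∈ hab.sub, x ≠ 1 ∧ cm ρ x w = 1 := by
      by_cases e1 : cm ρ a w = 1
      · exact ⟨a, haA, hab.a1, e1⟩
      by_cases e2 : cm ρ b w = 1
      · exact ⟨b, hbA, hab.b1, e2⟩
      refine ⟨a * b, habA, hab.right.b1, ?_⟩
      rw [cm_ab h hab, eq_of_mem_two h (card_KK h hab) h2 h1 e2 e1, h.mod.sq]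
    refine ⟨x, hx, hx1, b, hbA, y, hy3, hyi, ?_⟩
    rw [hx2, map_one]
  · obtain ⟨f, hf, hf1⟩ := exists_gen h (card_KK h hab)
    obtain ⟨p, hp, hp1⟩ := exists_gen h (card_KK h hat)
    obtain ⟨q, hq, hq1⟩ := exists_gen h (card_KK h hbs)
    have hfb : f ∈ KK ρ b a := by rw [← KK_comm h hab]; exact hf
    have hwb : w ∉ EE ρ b a := by rw [← EE_comm]; exact hw
    -- the partner of `a b`
    have htba : t * a * t⁻¹ = a := by rw [← hat.comm, mul_inv_cancel_right]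
    set s' := t * s * t⁻¹ with hs'
    have habs : Four (a * b) s' := by
      have := hbs.map (MulAut.conj t)
      rw [MulAut.conj_apply, MulAut.conj_apply, htb] at this
      exact this
    have hq' : ρ t q ∈ KK ρ (a * b) s' := by
      have := map_KK h t b s hq
      rwa [htb] at this
    have hq1' : ρ t q ≠ 1 := fun h0 => hq1 ((ρ t).injective (by rw [h0, map_one]))
    have hs'a : s' * a * s'⁻¹ = b := by
      have e1 : s' * a * s'⁻¹ = t * (s * (t⁻¹ * a * t) * s⁻¹) * t⁻¹ := by rw [hs']; group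
      have e2 : t⁻¹ * a * t = a := by
        rw [mul_assoc, hat.comm, ← mul_assoc, inv_mul_cancel, one_mul]
      have e3 : t * (b * a) * t⁻¹ = (t * b * t⁻¹) * (t * a * t⁻¹) := by group
      rw [e1, e2, hsa, e3, htb, htba, mul_assoc, ← hab.comm, ← mul_assoc, hab.aa, one_mul]
    have has' : a * s' * a⁻¹ = a * b * s' := by
      have e1 : s' * a = b * s' := mul_inv_eq_iff_eq_mul.1 hs'a
      rw [inv_of_sq hab.aa, mul_assoc, e1, mul_assoc]
    have haab : a * (a * b) * a⁻¹ = a * b := by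
      rw [hab.right.comm, mul_inv_cancel_right]
    have hfab : f ∈ KK ρ (a * b) a := by
      rw [← KK_comm h hab.right, KK_right h hab]; exact hf
    have hwab : w ∉ EE ρ (a * b) a := by rw [← EE_comm, EE_right h hab]; exact hw
    rcases cm_or h hab hat hbt hf hf1 hp hp1 hw with h1 | h1
    · refine ⟨a, haA, hab.a1, b, hbA, y, hy3, hyi, ?_⟩
      rw [h1]
      exact fix_KK h hat hy1 hy2 hp
    rcases cm_or h hab.symm hbs has hfb hf1 hq hq1 hwb with h2 | h2
    · obtain ⟨y', hy3', hyi', hy1', hy2'⟩ := inv3 h.mod.l32 hbs hab.aa hab' has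
      refine ⟨b, hbA, hab.b1, a, haA, y', hy3', hyi', ?_⟩
      rw [h2]
      exact fix_KK h hbs hy1' hy2' hq
    rcases cm_or h hab.right.symm habs has' hfab hf1 hq' hq1' hwab with h3 | h3
    · obtain ⟨y', hy3', hyi', hy1', hy2'⟩ := inv3 h.mod.l32 habs hab.aa haab has'
      refine ⟨a * b, habA, hab.right.b1, a, haA, y', hy3', hyi', ?_⟩
      rw [h3]
      exact fix_KK h habs hy1' hy2' hq'
    exfalso
    have h4 := cm_ab h hab w
    rw [h1, h2, h3] at h4
    -- `[q, t] = f p`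
    have hinv : ∀ v : V, v⁻¹ = v := fun v => inv_eq_of_mul_eq_one_left (h.mod.sq v)
    have h5 : cm ρ t q = f * p := by
      have e1 : ρ t q = q * (f * p) := by
        apply mul_left_cancel (a := f)
        rw [h4, mul_assoc]
      rw [cm_apply, e1, mul_comm q, mul_inv_cancel_right]
    have h6 : f ∈ (cm ρ t).range := by
      have e1 : f = cm ρ t q * p⁻¹ := by rw [h5, mul_inv_cancel_right]
      rw [e1]
      refine mul_mem ⟨q, rfl⟩ (inv_mem ?_)
      rw [KK_comm h hat] at hp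
      exact KK_le_range h t a hp
    have h7 : f ∈ KK ρ a t := range_inf h hat ⟨KK_le_range h a b hf, h6⟩
    apply KK_ne h hab hat hbt
    apply eq_of_le_two ?_ (card_KK h hab) (card_KK h hat)
    intro x hx
    by_cases hx1 : x = 1
    · rw [hx1]; exact one_mem _
    · rw [eq_of_mem_two h (card_KK h hab) hx hf hx1 hf1]; exact h7

theorem target {A : Subgroup L} (hA : IsFour A) :
    m = 8 ∧ ∀ w, ∃ x ∈ A, x ≠ 1 ∧ ∃ s ∈ A, ∃ y : L, orderOf y = 3 ∧ s * y * s⁻¹ = y⁻¹ ∧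
      ρ y (cm ρ x w) = cm ρ x w := by
  refine ⟨h.index_fx.1, fun w => ?_⟩
  obtain ⟨z, hz, a, ha, hza, hmem⟩ := hA.exists_four
  have : hza.sub = A := by ext x; exact (hmem x).symm
  rw [← this]
  exact target_four h hza w

end dat

end Cfsg.Agent.OddCyclic.EmpE.SevenB
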