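import Cfsg.Agent.OddCyclic.EmpE.Kill
import Cfsg.Agent.OddCyclic.EmpE.SevenB
import Cfsg.Agent.OddCyclic.COneSeven
import Cfsg.Agent.GH.L2AutD

/-!
# S0342 T_cyc (Empty), (4.4): `PGL₂(7)`

`K ≅ L₂(7)` normal in `H`, `C_H(K) = 1`, `K ≠ H`.
-/

set_option autoImplicit false
set_option linter.unusedSectionVars false

namespace Cfsg.Agent.OddCyclic.EmpE.SevenP

open Matrix Subgroup Cfsg.Agent.GH.L2Aut Cfsg.Agent.Lib.SL2Mat Cfsg.Agent.OddCyclic.T1Module
  Cfsg.Agent.OddCyclic.FFBasic Cfsg.Agent.OddCyclic.FFRed Cfsg.Agent.OddCyclic.FFSl2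
  Cfsg.Agent.OddCyclic.FFPslMat Cfsg.Agent.OddCyclic.PGLTorus Cfsg.Agent.OddCyclic.FFThree
  Cfsg.Agent.OddCyclic.EmpNSDefs Cfsg.Agent.OddCyclic.EmpE.Struct Cfsg.Agent.OddCyclic.EmpE.Kill
open Cfsg.Agent.OddCyclic.T1Defs (OddCyc)

universe u

/-! ### the torus of an involution of split type -/

section mat

variable {F : Type*} [Field F] [Finite F] {L : Type*} [Group L] (R : Cfsg.Agent.GH.L2Aut.Rep F L)

theorem torus_three (h7 : (7 : F) = 0) {g : GL (Fin 2) F} (hg : g.1.trace = 0) {s : F} (hs : s * s = -g.1.det) :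
    ∃ y : SpecialLinearGroup (Fin 2) F, ent y 0 0 + ent y 1 1 = 1 ∧ R.gl g (R.π y) = R.π y ∧
      ∀ d : GL (Fin 2) F, d.1.trace = 0 → (g.1 * d.1).trace = 0 → R.gl d (R.π y) = (R.π y)⁻¹ := by
  have hd0 : g.1.det ≠ 0 := (Matrix.GeneralLinearGroup.det g).ne_zero
  have hs0 : s ≠ 0 := by
    rintro rfl
    apply hd0
    rw [mul_zero] at hs
    exact neg_eq_zero.1 hs.symm
  have hd := hs
  rw [Matrix.trace_fin_two] at hg
  rw [Matrix.det_fin_two] at hd
  obtain ⟨p, hp⟩ : ∃ p, p = g.1 0 0 := ⟨_, rfl⟩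
  obtain ⟨q, hq⟩ : ∃ q, q = g.1 0 1 := ⟨_, rfl⟩
  obtain ⟨r, hr⟩ : ∃ r, r = g.1 1 0 := ⟨_, rfl⟩
  rw [← hp] at hg
  have h11 : g.1 1 1 = -p := by linear_combination hg
  rw [h11, ← hp, ← hq, ← hr] at hd
  have hd' : s * s = p * p + q * r := by linear_combination hd
  have hdet : (4 + p / s) * (4 - p / s) - (q / s) * (r / s) = 1 := by
    field_simp
    linear_combination hd' + (2 * s * s) * h7
  refine ⟨mk (4 + p / s) (q / s) (r / s) (4 - p / s) hdet, ?_, ?_, ?_⟩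
  · rw [mk_00, mk_11]
    linear_combination h7
  · rw [R.gl_apply]
    congr 1
    apply Subtype.ext
    rw [conjGL_val]
    have h1 : g.1 * (mk (4 + p / s) (q / s) (r / s) (4 - p / s) hdet).1 =
        (mk (4 + p / s) (q / s) (r / s) (4 - p / s) hdet).1 * g.1 := by
      have e00 : (mk (4 + p / s) (q / s) (r / s) (4 - p / s) hdet).1 0 0 = 4 + p / s := rfl
      have e01 : (mk (4 + p / s) (q / s) (r / s) (4 - p / s) hdet).1 0 1 = q / s := rfl
      have e10 : (mk (4 + p / s) (q / s) (r / s) (4 - p / s) hdet).1 1 0 = r / s := rfl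
      have e11 : (mk (4 + p / s) (q / s) (r / s) (4 - p / s) hdet).1 1 1 = 4 - p / s := rfl
      ext i j
      rw [Matrix.mul_apply, Matrix.mul_apply, Fin.sum_univ_two, Fin.sum_univ_two]
      fin_cases i <;> fin_cases j
      · simp only [Fin.zero_eta, Fin.isValue]
        rw [e00, e10, e01, ← hp, ← hq, ← hr]; ring
      · simp only [Fin.zero_eta, Fin.isValue, Fin.mk_one]
        rw [e01, e11, e00, h11, ← hp, ← hq]; ring
      · simp only [Fin.zero_eta, Fin.isValue, Fin.mk_one]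
        rw [e00, e10, e11, h11, ← hp, ← hr]; ring
      · simp only [Fin.isValue, Fin.mk_one]
        rw [e01, e11, e10, h11, ← hq, ← hr]; ring
    show g.1 * (mk (4 + p / s) (q / s) (r / s) (4 - p / s) hdet).1 * g⁻¹.1 = _
    rw [h1, Matrix.mul_assoc]
    have : g.1 * g⁻¹.1 = 1 := by rw [← Units.val_mul, mul_inv_cancel]; rfl
    rw [this, Matrix.mul_one]
  · intro d hd1 hd2
    refine gl_inv R hd1 ?_
    rw [Matrix.trace_fin_two] at hd1
    rw [Matrix.trace_fin_two, Matrix.mul_apply, Matrix.mul_apply, Fin.sum_univ_two, Fin.sum_univ_two] at hd2 ⊢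
    show d.1 0 0 * (4 + p / s) + d.1 0 1 * (r / s) + (d.1 1 0 * (q / s) + d.1 1 1 * (4 - p / s)) = 0
    rw [h11, ← hp, ← hq, ← hr] at hd2
    field_simp
    linear_combination (4 * s) * hd1 + hd2

end mat

variable {H : Type u} [Group H] [Finite H] {W : Type*} [CommGroup W] {ρ : H →* MulAut W}
  {Y M C Θ J K : Subgroup H} {W₀ : Subgroup W}

variable [K.Normal] {F : Type*} [Field F] [Finite F] (R : Cfsg.Agent.GH.L2Aut.Rep F K)

local notation "ψ" => (MulAut.conjNormal (H := K))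

include R in
/-- **no outer involutions** -/
theorem le_K [Finite W] (h : HW ρ Y M C Θ J W₀) (hc : centralizer (K : Set H) = ⊥) (hF : Nat.card F = 7)
    {B : Subgroup H} (hs : ∀ b ∈ B, b * b = 1) (h4 : 2 < Nat.card B) (hi : (CS ρ B).index ≤ 8) : B ≤ K := by
  intro t ht
  by_contra htK
  have ht1 : t ≠ 1 := fun h1 => htK (h1 ▸ one_mem K)
  have hpr : (Nat.card F).Prime := by rw [hF]; norm_num
  have h7 : (7 : F) = 0 := cast_seven hF
  have h3F : (3 : F) ≠ 0 := FFPsl.three_ne hpr (by omega)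
  have h2F := R.two
  obtain ⟨γ, hγ0, hγ⟩ := exists_mat R hc hpr (hs t ht) ht1
  have hnd : ¬ IsSquare γ.1.det := fun h => htK (mem_of_isSquare R hc hγ h)
  have hm1 : ¬ IsSquare (-1 : F) := by
    intro hm1
    have := Fintype.ofFinite F
    have h4 := FiniteField.isSquare_neg_one_iff.1 hm1
    rw [← Nat.card_eq_fintype_card, hF] at h4
    exact h4 rfl
  obtain ⟨s, hs'⟩ : IsSquare (-γ.1.det) := by
    have h1 := Cfsg.Agent.GH.L2Aut.isSquare_mul_of_not hm1 hnd
    rwa [neg_one_mul] at h1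
  obtain ⟨u, hu1, hup, hui⟩ := split_inv R hγ0 hs'.symm
  have hch := FFPsl.charP hpr
  have hfact : Fact (Nat.card F).Prime := ⟨hpr⟩
  have h1 := hup (Nat.card F) (CharP.cast_eq_zero F (Nat.card F))
  have hu7 : orderOf ((R.π u : K) : H) = 7 := by
    rw [Subgroup.orderOf_coe, ← hF]
    exact orderOf_eq_prime (by rw [← map_pow, h1, map_one]) hu1
  rw [hγ] at hui
  have hti := FFPsl.conj_of_psi hui
  have hne7 : ((R.π u : K) : H) ≠ 1 := fun h => hu1 (Subtype.ext h)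
  have hodd7 : Odd (orderOf ((R.π u : K) : H)) := by rw [hu7]; decide
  -- `|W : C_W(t)| = 8`
  have ht8 : (fx ρ t).index ≤ 8 := (index_le_of_le (CS_le_fx ht)).trans hi
  have hle7 := half' ρ hodd7 hti
  obtain ⟨d, hd, hd1, hd2⟩ := prim (ρ := ρ) h.sq (by norm_num : Nat.Prime 7) (by norm_num) hu7 (moved h hne7)
  obtain ⟨e, he⟩ := prim_even (ρ := ρ) h.sq (hs t ht) hodd7 hti
  have hde : d = 2 * e := by
    rw [hd1, ← pow_mul] at he
    have := Nat.pow_right_injective le_rfl he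
    omega
  have hd6 : d ≤ 6 := by
    have h2 : 2 ^ d ≤ 2 ^ 6 := by
      rw [← hd1]
      exact hle7.trans ((Nat.pow_le_pow_left ht8 2).trans (by norm_num))
    exact (Nat.pow_le_pow_iff_right (by norm_num)).1 h2
  have hd6' : d = 6 := by
    have he3 : e ≤ 3 := by omega
    subst hde
    interval_cases e
    · omega
    · revert hd2; norm_num
    · revert hd2; norm_num
    · rfl
  rw [hd6'] at hd1
  have ht8' : (fx ρ t).index = 8 := by
    rw [hd1] at hle7
    have h2 : 8 ^ 2 ≤ (fx ρ t).index ^ 2 := by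
      calc 8 ^ 2 = 2 ^ 6 := by norm_num
        _ ≤ _ := hle7
    have h3 := (Nat.pow_le_pow_iff_left (by norm_num : (2 : ℕ) ≠ 0)).1 h2
    omega
  have hCS : CS ρ B = fx ρ t := eq_of_index_le (CS_le_fx ht) (by rw [ht8']; exact hi)
  -- the element `y` of order three
  obtain ⟨a, ha, haK, ha1⟩ := exists_mem_K R hc hpr h4 hs
  have hta : t * a ≠ 1 := by
    intro h2
    apply htK
    rw [eq_inv_of_mul_eq_one_left h2]
    exact inv_mem haK
  obtain ⟨δ, hδ0, hδ⟩ := exists_mat R hc hpr (hs a ha) ha1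
  have hort := orth R hc (hs _ (mul_mem ht ha)) hta hγ hδ
  obtain ⟨y, hy1, hyt, hya⟩ := torus_three R h7 hγ0 hs'.symm
  have hya' := hya δ hδ0 hort
  rw [hγ] at hyt
  rw [hδ] at hya'
  have hai := FFPsl.conj_of_psi hya'
  have htc : t * ((R.π y : K) : H) * t⁻¹ = ((R.π y : K) : H) := by
    have h2 := congrArg (fun z : K => (z : H)) hyt
    simpa [MulAut.conjNormal_apply] using h2
  have hy3 : orderOf ((R.π y : K) : H) = 3 := FFPsl.orderOf_three R h3F hy1
  set Yy : H := ((R.π y : K) : H) with hYy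
  have hle : fx ρ t ≤ fx ρ Yy := by
    intro v hv
    have hva : ρ a v = v := by
      rw [← hCS] at hv
      exact hv a ha
    have h2 : ρ Yy v ∈ fx ρ t := by
      rw [mem_fx] at hv ⊢
      have h3 : t * Yy = Yy * t := mul_inv_eq_iff_eq_mul.1 htc
      rw [← MulAut.mul_apply, ← map_mul, h3, map_mul, MulAut.mul_apply, hv]
    have h3 : ρ a (ρ Yy v) = ρ Yy v := by
      rw [← hCS] at h2
      exact h2 a ha
    have h4 : a * Yy = Yy⁻¹ * a := mul_inv_eq_iff_eq_mul.1 hai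
    rw [← MulAut.mul_apply, ← map_mul, h4, map_mul, MulAut.mul_apply, hva] at h3
    have h5 : ρ (Yy * Yy) v = v := by
      rw [map_mul, MulAut.mul_apply, ← h3, ← MulAut.mul_apply, ← map_mul, mul_inv_cancel, map_one]; rfl
    have h6 : Yy = Yy * Yy * (Yy * Yy) := by
      have h7 : Yy ^ 3 = 1 := by rw [← hy3]; exact pow_orderOf_eq_one _
      have h8 : Yy * Yy * (Yy * Yy) = Yy ^ 3 * Yy := by rw [pow_succ, pow_two]; group
      rw [h8, h7, one_mul]
    rw [mem_fx, h6, map_mul, MulAut.mul_apply, h5, h5]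
  have hY8 : (fx ρ Yy).index ≤ 8 := (index_le_of_le hle).trans ht8
  have hY1 : Yy ≠ 1 := by
    intro h2
    rw [h2, orderOf_one] at hy3
    omega
  have hY4 : (fx ρ Yy).index ≤ 4 := by
    obtain ⟨k, hk, hk1, hk2⟩ := prim (ρ := ρ) h.sq Nat.prime_three (by norm_num) hy3 (moved h hY1)
    rw [hk1] at hY8 ⊢
    have hk3 : k ≤ 3 := (Nat.pow_le_pow_iff_right (by norm_num : 1 < 2)).1 hY8
    interval_cases k <;> revert hk2 <;> norm_num
  have hall : ∀ z : H, orderOf z = 3 → (fx ρ z).index ≤ 4 := fun z hz => by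
    rw [← FFPsl.index_eq_of_orderOf ρ h.cyc Nat.prime_three (by norm_num) hy3 hz]; exact hY4
  have hdz : (0 : F) * 1 - (-(1 / 2)) * 2 = 1 := by field_simp; ring
  have hdz' : (-1 : F) * 2 - (-(3 / 2)) * 2 = 1 := by field_simp; ring
  let z : Matrix.SpecialLinearGroup (Fin 2) F := mk 0 (-(1 / 2)) 2 1 hdz
  let z' : Matrix.SpecialLinearGroup (Fin 2) F := mk (-1) (-(3 / 2)) 2 2 hdz'
  have hz : orderOf ((R.π z : K) : H) = 3 := FFPsl.orderOf_three R h3F (by simp only [z, mk_00, mk_11]; ring)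
  have hz' : orderOf ((R.π z' : K) : H) = 3 := FFPsl.orderOf_three R h3F (by simp only [z', mk_00, mk_11]; ring)
  have hzz : z * z' = -up 1 := by
    refine ext_ent ?_ ?_ ?_ ?_
    · rw [ent_mul]; show 0 * (-1) + (-(1 / 2)) * 2 = -(1 : F); field_simp; ring
    · rw [ent_mul]; show 0 * (-(3 / 2)) + (-(1 / 2)) * 2 = -(1 : F); field_simp; ring
    · rw [ent_mul]; show 2 * (-1) + 1 * 2 = -(0 : F); ring
    · rw [ent_mul]; show 2 * (-(3 / 2)) + 1 * 2 = -(1 : F); field_simp; ring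
  have hu : ((R.π (up 1) : K) : H) = (R.π z : K) * (R.π z' : K) := by
    rw [← Subgroup.coe_mul, ← map_mul, hzz, R.π_neg]
  have hiu : (fx ρ ((R.π (up 1) : K) : H)).index ≤ 16 := by
    rw [hu]
    exact (FFPsl.index_mul_le ρ _ _).trans (Nat.mul_le_mul (hall _ hz) (hall _ hz'))
  have hou := FFPsl.orderOf_u R hpr
  rw [hF] at hou
  rw [← FFPsl.index_eq_of_orderOf ρ h.cyc (by norm_num : Nat.Prime 7) (by norm_num) hu7 hou, hd1] at hiu
  norm_num at hiu

/-! ### all four-groups of `K` are conjugate in `H` -/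

omit [Finite H] in
theorem psi_mul (x y : H) (k : K) : ψ (x * y) k = ψ x (ψ y k) := by rw [map_mul, MulAut.mul_apply]

omit [Finite H] in
theorem psi_coe (x k : K) : ψ (x : H) k = x * k * x⁻¹ := by
  apply Subtype.ext
  rw [MulAut.conjNormal_apply]
  rfl

include R in
theorem not_fix (hc : centralizer (K : Set H) = ⊥) (hF : (Nat.card F).Prime) {x : H} (hx : x ∉ K) {a b : K}
    (hab : Four a b) (ha : ψ x a = a) (hb : ψ x b = b) : False := by
  refine R.dtype_no_four (mem_PGL_of_prime R hF (ψ x)) ?_ hab ha hb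
  rintro ⟨k, hk⟩
  apply hx
  rw [inn hc k.2 (a := x) fun l hl => ?_]
  · exact k.2
  · have h1 := congrArg (fun α : MulAut K => ((α ⟨l, hl⟩ : K) : H)) hk
    simp only [MulAut.conjNormal_apply, MulAut.conj_apply] at h1
    exact h1.symm

omit [Finite H] [K.Normal] in
/-- `N_K(A)` induces all permutations of a four-group `A` -/
theorem perm (h : L32 K) {z a p q : K} (hza : Four z a) (hpq : Four p q)
    (hp : p = z ∨ p = a ∨ p = z * a) (hq : q = z ∨ q = a ∨ q = z * a) :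
    ∃ k : K, k * p * k⁻¹ = z ∧ k * q * k⁻¹ = a := by
  have rot : ∀ p q : K, Four p q → (∃ k : K, k * p * k⁻¹ = z ∧ k * q * k⁻¹ = a) →
      ∃ k : K, k * q * k⁻¹ = z ∧ k * (p * q) * k⁻¹ = a := by
    rintro p q hpq ⟨k, hk1, hk2⟩
    obtain ⟨y, -, hy1, hy2⟩ := h.fuse p q hpq
    refine ⟨k * y⁻¹, ?_, ?_⟩
    · rw [← hk1, ← hy1]; group
    · rw [← hk2, ← hy2]; group
  have swp : ∀ p q : K, Four p q → (∃ k : K, k * p * k⁻¹ = z ∧ k * q * k⁻¹ = a) →
      ∃ k : K, k * q * k⁻¹ = z ∧ k * p * k⁻¹ = a := by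
    rintro p q hpq ⟨k, hk1, hk2⟩
    obtain ⟨d, hd1, hd2⟩ := h.swap p q hpq
    refine ⟨k * d⁻¹, ?_, ?_⟩
    · rw [← hk1]
      have : k * d⁻¹ * q * (k * d⁻¹)⁻¹ = k * (d⁻¹ * q * d) * k⁻¹ := by group
      rw [this, ← hd1]; group
    · rw [← hk2]
      have : k * d⁻¹ * p * (k * d⁻¹)⁻¹ = k * (d⁻¹ * p * d) * k⁻¹ := by group
      rw [this, ← hd2]; group
  have h1 : ∃ k : K, k * z * k⁻¹ = z ∧ k * a * k⁻¹ = a := ⟨1, by group, by group⟩
  have h2 := rot z a hza h1
  have hr : Four a (z * a) := by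
    have := hza.symm.right
    rwa [← hza.comm] at this
  have h3 := rot a (z * a) hr h2
  have e3 : a * (z * a) = z := by
    rw [hza.comm, ← mul_assoc, hza.bb, one_mul]
  rw [e3] at h3
  have hr' : Four (z * a) z := hza.right.symm
  rcases hp with rfl | rfl | rfl <;> rcases hq with rfl | rfl | rfl
  · exact absurd rfl hpq.ne
  · exact h1
  · exact swp _ _ hr' h3
  · exact swp _ _ hza h1
  · exact absurd rfl hpq.ne
  · exact h2
  · exact h3
  · exact swp _ _ hr h2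
  · exact absurd rfl hpq.ne

/-- `A^x` -/
def cA (x : H) (A : Subgroup K) : Subgroup K := A.map (ψ x : MulAut K).toMonoidHom

omit [Finite H] in
theorem mem_cA {x : H} {A : Subgroup K} {k : K} : k ∈ cA x A ↔ ∃ a ∈ A, ψ x a = k := Iff.rfl

omit [Finite H] in
theorem cA_four {x : H} {A : Subgroup K} (hA : IsFour A) : IsFour (cA x A) := by
  refine ⟨?_, ?_⟩
  · rw [cA, Subgroup.card_map_of_injective (f := (ψ x : MulAut K).toMonoidHom) (MulEquiv.injective (ψ x : MulAut K))]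
    exact hA.card
  · rintro _ ⟨a, ha, rfl⟩
    rw [← map_mul, hA.sq a ha, map_one]

omit [Finite H] in
theorem cA_mul (x y : H) (A : Subgroup K) : cA (x * y) A = cA x (cA y A) := by
  ext k
  constructor
  · rintro ⟨a, ha, rfl⟩
    exact ⟨ψ y a, ⟨a, ha, rfl⟩, (psi_mul x y a).symm⟩
  · rintro ⟨_, ⟨a, ha, rfl⟩, rfl⟩
    exact ⟨a, ha, psi_mul x y a⟩

omit [Finite H] in
theorem cA_inv (x : H) (A : Subgroup K) : cA x⁻¹ (cA x A) = A := by
  rw [← cA_mul, inv_mul_cancel]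
  ext k
  constructor
  · rintro ⟨a, ha, rfl⟩
    change ψ 1 a ∈ A
    rw [map_one]; exact ha
  · intro hk
    exact ⟨k, hk, by change ψ 1 k = k; rw [map_one]; rfl⟩

include R in
/-- an element outside `K` does not normalise a four-group -/
theorem cA_ne (hc : centralizer (K : Set H) = ⊥) (hF : (Nat.card F).Prime) (h : L32 K) {x : H} (hx : x ∉ K)
    {A : Subgroup K} (hA : IsFour A) : cA x A ≠ A := by
  intro heq
  obtain ⟨z, hz, a, ha, hza, hmem⟩ := hA.exists_four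
  have hz' : ψ x z ∈ A := by rw [← heq]; exact ⟨z, hz, rfl⟩
  have ha' : ψ x a ∈ A := by rw [← heq]; exact ⟨a, ha, rfl⟩
  have hinj := (MulEquiv.injective (ψ x))
  have hpq : Four (ψ x z) (ψ x a) := by
    refine ⟨?_, ?_, ?_, ?_, ?_, ?_⟩
    · rw [← map_mul, hza.aa, map_one]
    · rw [← map_mul, hza.bb, map_one]
    · intro h1; exact hza.a1 (hinj (by rw [h1, map_one]))
    · intro h1; exact hza.b1 (hinj (by rw [h1, map_one]))
    · intro h1; exact hza.ne (hinj h1)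
    · rw [← map_mul, ← map_mul, hza.comm]
  obtain ⟨k, hk1, hk2⟩ := perm h hza hpq (((hmem _).1 hz').resolve_left hpq.a1) (((hmem _).1 ha').resolve_left hpq.b1)
  refine not_fix R hc hF (x := k * x) ?_ hza ?_ ?_
  · intro h1
    apply hx
    have := mul_mem (inv_mem k.2) h1
    rwa [inv_mul_cancel_left] at this
  · rw [psi_mul, psi_coe, hk1]
  · rw [psi_mul, psi_coe, hk2]

include R in
theorem all_conj (hc : centralizer (K : Set H) = ⊥) (hF : (Nat.card F).Prime) (h : L32 K) (hne : K ≠ ⊤)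
    {A B : Subgroup K} (hA : IsFour A) (hB : IsFour B) : ∃ x : H, cA x A = B := by
  obtain ⟨T, hT⟩ := SevenA.exists_sylow hA
  obtain ⟨T', hT'⟩ := SevenA.exists_sylow hB
  obtain ⟨k, hk⟩ := MulAction.exists_smul_eq K T T'
  have hkT : ∀ t ∈ T, k * t * k⁻¹ ∈ T' := by
    intro t ht
    rw [← hk]
    exact ⟨t, ht, rfl⟩
  have h1 : cA (k : H) A ≤ T' := by
    rintro _ ⟨a, ha, rfl⟩
    change ψ (k : H) a ∈ T'
    rw [psi_coe]
    exact hkT a (hT ha)
  obtain ⟨z, a, b, hza, hzb, hBe, hzbT, -, hne', -, honly, -⟩ := exists_other h T' hB hT'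
  rcases honly _ (cA_four hA) h1 with h2 | h2
  · exact ⟨k, h2⟩
  -- an element of `N_H(T')` outside `K`
  have hfr : normalizer ((T'.1.map K.subtype : Subgroup H) : Set H) ⊔ K = ⊤ := T'.normalizer_sup_eq_top
  obtain ⟨x, hx, hxK⟩ : ∃ x ∈ normalizer ((T'.1.map K.subtype : Subgroup H) : Set H), x ∉ K := by
    by_contra hcon
    push Not at hcon
    apply hne
    rw [← hfr]
    exact (sup_eq_right.2 hcon).symm
  have hxT : ∀ t ∈ T', ψ x t ∈ T' := by
    intro t ht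
    have h3 : (t : H) ∈ T'.1.map K.subtype := ⟨t, ht, rfl⟩
    have h4 := (mem_normalizer_iff.1 hx t).1 h3
    obtain ⟨s, hs, hs'⟩ := h4
    have : s = ψ x t := by
      apply Subtype.ext
      rw [MulAut.conjNormal_apply]
      exact hs'
    rw [← this]
    exact hs
  refine ⟨x * k, ?_⟩
  rw [cA_mul, h2]
  have h3 : cA x hzb.sub ≤ T' := by
    rintro _ ⟨a, ha, rfl⟩
    exact hxT a (hzbT ha)
  rcases honly _ (cA_four (isFour_sub hzb)) h3 with h4 | h4
  · exact h4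
  · exact absurd h4 (cA_ne R hc hF h hxK (isFour_sub hzb))

/-! ### the data of `SevenB` -/

omit [Finite H] in
theorem CS_cA (x : H) (A : Subgroup K) :
    CS (ρ.comp K.subtype) (cA x A) = (CS (ρ.comp K.subtype) A).map (ρ x : W ≃* W).toMonoidHom := by
  have e0 : ∀ v : W, ρ x (ρ x⁻¹ v) = v := fun v => by
    rw [← MulAut.mul_apply, ← map_mul, mul_inv_cancel, map_one]; rfl
  ext v
  constructor
  · intro hv
    refine ⟨ρ x⁻¹ v, ?_, e0 v⟩
    intro a ha
    have h1 := hv _ ⟨a, ha, rfl⟩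
    change ρ ((ψ x a : K) : H) v = v at h1
    rw [MulAut.conjNormal_apply] at h1
    change ρ (a : H) (ρ x⁻¹ v) = ρ x⁻¹ v
    calc ρ (a : H) (ρ x⁻¹ v) = ρ ((a : H) * x⁻¹) v := by rw [map_mul ρ]; rfl
      _ = ρ (x⁻¹ * (x * a * x⁻¹)) v := by congr 2; group
      _ = ρ x⁻¹ (ρ (x * a * x⁻¹) v) := by rw [map_mul ρ x⁻¹]; rfl
      _ = ρ x⁻¹ v := by rw [h1]
  · rintro ⟨w, hw, rfl⟩
    rintro _ ⟨a, ha, rfl⟩
    have h1 : ρ (a : H) w = w := hw a ha
    change ρ ((ψ x a : K) : H) (ρ x w) = ρ x w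
    rw [MulAut.conjNormal_apply, ← MulAut.mul_apply, ← map_mul]
    have e1 : x * (a : H) * x⁻¹ * x = x * a := by group
    rw [e1, map_mul, MulAut.mul_apply, h1]

omit [Finite H] in
theorem index_CS_cA (x : H) (A : Subgroup K) :
    (CS (ρ.comp K.subtype) (cA x A)).index = (CS (ρ.comp K.subtype) A).index := by
  rw [CS_cA]
  exact Subgroup.index_map_equiv _ (ρ x)

omit [Finite H] [K.Normal] in
theorem CS_subgroupOf {B : Subgroup H} (hB : B ≤ K) : CS (ρ.comp K.subtype) (B.subgroupOf K) = CS ρ B := by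
  ext v
  constructor
  · intro hv b hb
    exact hv ⟨b, hB hb⟩ hb
  · intro hv b hb
    exact hv b hb

omit [K.Normal] in
theorem mod [Finite W] (h : HW ρ Y M C Θ J W₀) (hl : L32 K) : Mod (ρ.comp K.subtype) :=
  ⟨hl, h.sq, fun _ hy => moved h fun h1 => hy (Subtype.ext h1)⟩

omit [Finite H] [K.Normal] in
theorem isFour_subgroupOf {B : Subgroup H} (hB : B ≤ K) (hs : ∀ b ∈ B, b * b = 1) (h4 : Nat.card B = 4) :
    IsFour (B.subgroupOf K) :=
  ⟨by rw [Nat.card_congr (subgroupOfEquivOfLe hB).toEquiv, h4], fun b hb => Subtype.ext (hs b hb)⟩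

include R in
theorem dat [Finite W] (h : HW ρ Y M C Θ J W₀) (hc : centralizer (K : Set H) = ⊥) (hF : (Nat.card F).Prime)
    (hl : L32 K) (hne : K ≠ ⊤) {B : Subgroup H} (hB : B ≤ K) (hs : ∀ b ∈ B, b * b = 1) (h4 : Nat.card B = 4)
    (hq : ∀ b ∈ B, ∀ b' ∈ B, ∀ w : W, ρ b' (ρ b w * w⁻¹) = ρ b w * w⁻¹) (hi : (CS ρ B).index ≤ 8) :
    SevenB.Dat (ρ.comp K.subtype) (CS ρ B).index := by
  have hB4 := isFour_subgroupOf hB hs h4
  refine ⟨mod h hl, ?_, ?_, hi⟩
  · intro a b hab v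
    obtain ⟨x, hx⟩ := all_conj R hc hF hl hne hB4 (isFour_sub hab)
    have ha : a ∈ cA x (B.subgroupOf K) := by rw [hx]; exact Or.inr (Or.inl rfl)
    have hb : b ∈ cA x (B.subgroupOf K) := by rw [hx]; exact Or.inr (Or.inr (Or.inl rfl))
    obtain ⟨a₀, ha₀, rfl⟩ := ha
    obtain ⟨b₀, hb₀, rfl⟩ := hb
    have h1 := hq (a₀ : H) ha₀ (b₀ : H) hb₀ (ρ x⁻¹ v)
    have e0 : ∀ v : W, ρ x (ρ x⁻¹ v) = v := fun v => by
      rw [← MulAut.mul_apply, ← map_mul, mul_inv_cancel, map_one]; rfl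
    have e1 : ∀ (k : K) (v : W), ρ ((ψ x k : K) : H) v = ρ x (ρ (k : H) (ρ x⁻¹ v)) := by
      intro k v
      rw [MulAut.conjNormal_apply, map_mul, map_mul]; rfl
    change ρ ((ψ x b₀ : K) : H) (ρ ((ψ x a₀ : K) : H) v * v⁻¹) = ρ ((ψ x a₀ : K) : H) v * v⁻¹
    have e2 : ρ ((ψ x a₀ : K) : H) v * v⁻¹ = ρ x (ρ (a₀ : H) (ρ x⁻¹ v) * (ρ x⁻¹ v)⁻¹) := by
      rw [e1, map_mul (ρ x), map_inv (ρ x), e0]
    rw [e2, e1]
    have e3 : ∀ w : W, ρ x⁻¹ (ρ x w) = w := fun w => by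
      rw [← MulAut.mul_apply, ← map_mul, inv_mul_cancel, map_one]; rfl
    rw [e3, h1]
  · intro A hA
    obtain ⟨x, hx⟩ := all_conj R hc hF hl hne hB4 hA
    rw [← hx, index_CS_cA, CS_subgroupOf hB]

/-- subgroups of exponent two and order more than 2 have order 4 -/
theorem card_eq_four {B : Subgroup H} (hs : ∀ b ∈ B, b * b = 1) (h2 : 2 < Nat.card B) (h4 : Nat.card B ≤ 4) :
    Nat.card B = 4 := by
  have hp : IsPGroup 2 B := fun a => ⟨1, by
    rw [pow_one, pow_two]; exact Subtype.ext (hs a a.2)⟩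
  have : Fact (Nat.Prime 2) := ⟨Nat.prime_two⟩
  obtain ⟨n, hn⟩ := IsPGroup.iff_card.1 hp
  rw [hn] at h2 h4 ⊢
  have hn2 : n ≤ 2 := (Nat.pow_le_pow_iff_right (by norm_num : 1 < 2)).1 (by simpa using h4)
  interval_cases n <;> omega

include R in
/-- no over-offenders -/
theorem noo [Finite W] (h : HW ρ Y M C Θ J W₀) (hc : centralizer (K : Set H) = ⊥) (hF : Nat.card F = 7)
    (hl : L32 K) (hne : K ≠ ⊤) {B : Subgroup H} (hs : ∀ b ∈ B, b * b = 1)
    (hq : ∀ b ∈ B, ∀ b' ∈ B, ∀ w : W, ρ b' (ρ b w * w⁻¹) = ρ b w * w⁻¹) : Nat.card B ≤ (CS ρ B).index := by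
  have hpr : (Nat.card F).Prime := by rw [hF]; norm_num
  by_cases h2 : Nat.card B ≤ 2
  · exact noo_of_le_two h h2
  push Not at h2
  have h4 := card_eq_four hs h2 (card_le_four R hc hpr hs)
  by_contra hcon
  push Not at hcon
  have hi : (CS ρ B).index ≤ 8 := by omega
  have hBK := le_K R h hc hF hs h2 hi
  have h8 := (SevenB.target (dat R h hc hpr hl hne hBK hs h4 hq hi) (isFour_subgroupOf hBK hs h4)).1
  omega

include R in
/-- **`PGL₂(7)` does not occur** -/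
theorem main [Finite W] (h : HW ρ Y M C Θ J W₀) (hc : centralizer (K : Set H) = ⊥) (hF : Nat.card F = 7)
    (hl : L32 K) (hne : K ≠ ⊤) (hKC : K ≤ C) {B A : Subgroup H} {N : Subgroup W} {g : H}
    (d : Dir ρ M C Θ B A N g) : Nat.card B ≤ 2 := by
  by_contra h2
  push Not at h2
  have hpr : (Nat.card F).Prime := by rw [hF]; norm_num
  have h4 := card_eq_four d.Bsq h2 (card_le_four R hc hpr d.Bsq)
  have hA := card_le_four R hc hpr d.Asq
  have hi : (CS ρ B).index ≤ 8 := by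
    rcases index_le d with h5 | h5
    · omega
    · rw [h4] at h5
      omega
  have hBK := le_K R h hc hF d.Bsq h2 hi
  have hB4 := isFour_subgroupOf hBK d.Bsq h4
  obtain ⟨h8, htar⟩ := SevenB.target (dat R h hc hpr hl hne hBK d.Bsq h4 d.Bq hi) hB4
  have hN : ¬ N ≤ CS ρ B := by
    intro hN
    have h1 := d.ineq
    rw [relIndex_eq_one.2 hN, mul_one] at h1
    have h3 : (M.map (MulAut.conj g).toMonoidHom).relIndex A ≤ Nat.card A :=
      Nat.le_of_dvd Nat.card_pos ((M.map (MulAut.conj g).toMonoidHom).subgroupOf A).index_dvd_card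
    omega
  obtain ⟨w, hwN, hw⟩ := SetLike.not_le_iff_exists.1 hN
  -- `C_B(w) = 1`
  have hfree : ∀ b ∈ B, ρ b w = w → b = 1 := by
    let B' : Subgroup H :=
      { carrier := {b | b ∈ B ∧ ρ b w = w}
        mul_mem' := fun {a b} ha hb => ⟨mul_mem ha.1 hb.1, by rw [map_mul, MulAut.mul_apply, hb.2, ha.2]⟩
        one_mem' := ⟨one_mem B, by rw [map_one]; rfl⟩
        inv_mem' := fun {a} ha => ⟨inv_mem ha.1, fx_inv ρ ha.2⟩ }
    have h1 := d.nff (zpowers w) (zpowers_le.2 hwN) (fun h1 => hw (h1 (mem_zpowers w))) B' (fun b hb => hb.1)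
      (fun b hb n hn => by
        obtain ⟨k, rfl⟩ := hn
        show ρ b (w ^ k) = w ^ k
        rw [map_zpow, hb.2])
    have h3 : 2 ≤ (CS ρ B).relIndex (zpowers w) := by
      have h5 : (CS ρ B).relIndex (zpowers w) ≠ 1 := by
        rw [Ne, relIndex_eq_one]
        exact fun h1 => hw (h1 (mem_zpowers w))
      have h6 : (CS ρ B).relIndex (zpowers w) ≠ 0 := index_ne_zero_of_finite
      omega
    have h5 : Nat.card B' * B'.relIndex B = Nat.card B := card_mul_relIndex fun b hb => hb.1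
    have h6 : Nat.card B' ≤ 1 := by
      by_contra hcon
      push Not at hcon
      have h7 : 2 * 4 ≤ Nat.card B' * B'.relIndex B := Nat.mul_le_mul hcon (by omega)
      omega
    intro b hb hbw
    have h7 : (⟨b, hb, hbw⟩ : B') = 1 := by
      have := Finite.card_le_one_iff_subsingleton.1 h6
      exact Subsingleton.elim _ _
    exact congrArg Subtype.val h7
  obtain ⟨x, hx, hx1, s, hs, y, hy3, hsy, hyx⟩ := htar w
  apply hx1
  apply Subtype.ext
  apply hfree x hx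
  refine d.cp w hwN x hx s hs (y : H) (hKC y.2) ?_ ?_ ?_ ?_
  · rw [Subgroup.orderOf_coe, hy3]; decide
  · intro h1
    have h5 : y = 1 := Subtype.ext h1
    rw [h5, orderOf_one] at hy3
    omega
  · exact congrArg Subtype.val hsy
  · exact hyx

end Cfsg.Agent.OddCyclic.EmpE.SevenP
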