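import Cfsg.Agent.OddCyclic.EmpNSEnd
import Cfsg.Agent.OddCyclic.EmpE.Lin
import Cfsg.Agent.OddCyclic.EmpE.SevenP
import Cfsg.Agent.OddCyclic.EmpE.SevenK
import Cfsg.Agent.OddCyclic.FFMain

/-!
# S0342 T_cyc (Empty), [E]: sections 4.1–4.5 of blueprints/S0342-Empty-NS-helper347.md

`main` : `HW` ⟹ no over-offender in `Θ`, and `EOut`.
-/

set_option autoImplicit false
set_option linter.unusedSectionVars false

namespace Cfsg.Agent.OddCyclic.EmpE.Main

open Subgroup Cfsg.Agent.OddCyclic.T1Module Cfsg.Agent.OddCyclic.FFBasic Cfsg.Agent.OddCyclic.FFRed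
  Cfsg.Agent.OddCyclic.EmpNSDefs Cfsg.Agent.OddCyclic.EmpE.Struct Cfsg.Agent.OddCyclic.EmpE.Kill
  Cfsg.Agent.OddCyclic.EmpNSEnd
open Cfsg.Agent.OddCyclic.PumpMain (KZero)

universe u

variable {H : Type u} [Group H] [Finite H] {W : Type*} [CommGroup W] {ρ : H →* MulAut W}
  {Y M C Θ J K : Subgroup H} {W₀ : Subgroup W}

/-- the list of simple groups, sorted -/
theorem list {K : Type*} [Group K] [Finite K] (hK : KZero K) :
    (∃ (F : Type) (_ : Field F) (_ : Fintype F) (_ : CharP F 2), 4 ≤ Fintype.card F ∧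
      Nonempty (Matrix.SpecialLinearGroup (Fin 2) F ≃* K)) ∨
    (∃ (F : Type) (_ : Field F) (_ : Finite F), Nonempty (Cfsg.Agent.GH.L2Aut.Rep F K) ∧ Nat.card F = 7) ∨
    (∃ (F : Type) (_ : Field F) (_ : Finite F), Nonempty (Cfsg.Agent.GH.L2Aut.Rep F K) ∧ (Nat.card F).Prime ∧
      11 ≤ Nat.card F) ∨
    Cfsg.Lie.IsoSuzuki K ∨ (Cfsg.Agent.SporRec.J1.Defs.Local K ∧ ∃ k : K, orderOf k = 2) := by
  rcases hK with ⟨F, _, _, hp, h5, ⟨e⟩⟩ | ⟨F, _, _, f, hf, hF, ⟨e⟩⟩ | hK | hK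
  · have hodd : Odd (Fintype.card F) := hp.odd_of_ne_two (by omega)
    by_cases h5' : Fintype.card F = 5
    · obtain ⟨K', _, _, _, hK4, ⟨e'⟩⟩ := T1Socle.exists_four h5'
      exact Or.inl ⟨K', _, _, inferInstance, by rw [hK4], ⟨(e.trans e').symm⟩⟩
    · have R := Cfsg.Agent.GH.L2Aut.Rep.ofEquiv (Cfsg.Agent.GH.L2Aut.two_ne_zero_of_odd hodd) e
      by_cases h7 : Fintype.card F = 7
      · exact Or.inr (Or.inl ⟨F, _, inferInstance, ⟨R⟩, by rw [Nat.card_eq_fintype_card, h7]⟩)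
      · refine Or.inr (Or.inr (Or.inl ⟨F, _, inferInstance, ⟨R⟩, by rw [Nat.card_eq_fintype_card]; exact hp, ?_⟩))
        rw [Nat.card_eq_fintype_card]
        by_contra hlt
        push Not at hlt
        generalize Fintype.card F = n at *
        interval_cases n
        · exact h5' rfl
        · revert hp; norm_num
        · exact h7 rfl
        · revert hp; norm_num
        · revert hp; norm_num
        · revert hp; norm_num
  · have h4 : 4 ≤ Fintype.card F := by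
      rw [hF]
      calc 4 = 2 ^ 2 := by norm_num
        _ ≤ 2 ^ f := Nat.pow_le_pow_right (by norm_num) hf
    have hch : CharP F 2 := by
      have hch := ringChar.charP F
      have h1 : ringChar F ∣ 2 ^ f := by
        rw [← hF, ← CharP.cast_eq_zero_iff F (ringChar F), Nat.cast_card_eq_zero]
      have h2 : (ringChar F).Prime := CharP.char_is_prime F (ringChar F)
      have h3 : ringChar F = 2 := (Nat.prime_dvd_prime_iff_eq h2 Nat.prime_two).1 (h2.dvd_of_dvd_pow h1)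
      rwa [h3] at hch
    obtain ⟨g⟩ := WeakTI.PslTwo.nonempty_equiv (F := F)
    exact Or.inl ⟨F, _, _, hch, h4, ⟨g.trans e.symm⟩⟩
  · exact Or.inr (Or.inr (Or.inr (Or.inl hK)))
  · exact Or.inr (Or.inr (Or.inr (Or.inr hK)))

/-- the simple group `H = K` of order 168 -/
theorem simple_top (hs : IsSimpleGroup K) (hK : K = ⊤) (hc : Nat.card K = 168) :
    IsSimpleGroup H ∧ Nat.card H = 168 := by
  subst hK
  exact ⟨topEquiv.isSimpleGroup_congr.1 hs, by rw [← hc, card_top]⟩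

theorem main [Finite W] (h : HW ρ Y M C Θ J W₀) : Noo ρ Θ ∧ EOut ρ Y M C Θ := by
  rcases struct h with h2 | ⟨K, s⟩
  · exact ⟨fun B hB hs _ => noo_of_le_two h (h2 B (hB.trans h.Θ_le) hs),
      Or.inl fun B A N g d => h2 B (d.BΘ.trans h.Θ_le) d.Bsq⟩
  have hn := s.norm
  rcases list s.kz with ⟨F, _, _, _, h4, ⟨e⟩⟩ | ⟨F, _, _, ⟨R⟩, h7⟩ | ⟨F, _, _, ⟨R⟩, hp, h11⟩ | hsz | ⟨hJ, k, hk⟩
  · exact ⟨fun B hB hs _ => Lin.card_le_index h s h4 e hB hs,
      Or.inr ⟨K, F, _, _, inferInstance, ⟨s, h4, ⟨e⟩, fun B hB hs => Lin.le_K h s h4 e hB hs⟩,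
        fun B A N g d => Lin.index_eq h s h4 e d⟩⟩
  · have hl := FFThree.l32_of R h7
    by_cases hK : K = ⊤
    · obtain ⟨hs, hc⟩ := simple_top s.simp hK hl.card
      exact ⟨fun B hB hsq _ => SevenK.noo h hs hc hB hsq,
        Or.inl fun B A N g d => SevenK.main h hs hc d⟩
    · exact ⟨fun B _ hsq hq => SevenP.noo R h s.cent h7 hl hK hsq hq,
        Or.inl fun B A N g d => SevenP.main R h s.cent h7 hl hK s.leC d⟩
  · exact ⟨fun B _ hsq _ => psl_noo R h s.cent hp h11 hsq,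
      Or.inl fun B A N g d => by
        by_contra h2
        push Not at h2
        exact psl_false R h s.cent hp h11 d h2⟩
  · obtain ⟨q, hq, hB, hi⟩ := sz_facts h hn s.cent hsz
    refine ⟨fun B _ hsq _ => noo_of_bound hsq (hB B hsq) fun a ha ha1 => ?_,
      Or.inl fun B A N g d => ?_⟩
    · exact (Nat.le_self_pow (by norm_num) q).trans (hi a ha ha1)
    · exact (of_bound d hq (hB A d.Asq) (hB B d.Bsq) (CS_index_ge d.B_ne d.Bsq hi)).elim
  · refine ⟨fun B _ hsq _ => noo_of_bound hsq (jone_card hn s.cent hJ hk hsq) fun a ha ha1 => ?_,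
      Or.inl fun B A N g d => ?_⟩
    · exact (show 8 ≤ 2 ^ 9 by norm_num).trans (jone_index h hn s.cent hJ hk ha ha1)
    · refine (of_bound d (q := 8) (by norm_num) (jone_card hn s.cent hJ hk d.Asq) (jone_card hn s.cent hJ hk d.Bsq)
        ?_).elim
      refine (show 8 ^ 2 ≤ 2 ^ 9 by norm_num).trans (CS_index_ge d.B_ne d.Bsq fun a ha ha1 => ?_)
      exact jone_index h hn s.cent hJ hk ha ha1

end Cfsg.Agent.OddCyclic.EmpE.Main
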