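import Cfsg.Agent.OddCyclic.EmpE.Lin
import Cfsg.Agent.OddCyclic.EmpR.QuadNat
import Cfsg.Agent.OddCyclic.FFPslMat

/-!
# S0342 T_cyc (Empty): `K ≅ SL₂(q)`, `W/C_W(K)` is natural (input of section 5)

`Natl ρ K q` : elements of odd order of `K` act fixed point freely on `W/C_W(K)`, `|C_{W/C_W(K)}(P)| ≤ q` for `P` Sylow
in `K`; `main` : from `HW`, `Simp`, `Dir`.
-/

set_option autoImplicit false
set_option linter.unusedSectionVars false
set_option linter.dupNamespace false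

namespace Cfsg.Agent.OddCyclic.EmpE.Natl

open Subgroup Cfsg Cfsg.Agent.OddCyclic.T1Module Cfsg.Agent.OddCyclic.FFBasic Cfsg.Agent.OddCyclic.FFRed
  Cfsg.Agent.OddCyclic.EmpNSDefs Cfsg.Agent.OddCyclic.EmpE.Struct Cfsg.Agent.Lib.SL2Mat Cfsg.Agent.Lib.AutSL2
  Cfsg.Agent.OddCyclic.EmpE.Lin
open Cfsg.Agent.OddCyclic.FFOuter (ac e_ac ac_coe ac_eq_iff rr fx_rr)
open Cfsg.Agent.OddCyclic.EmpC (Inv sub quo sub_apply quo_apply fx_sub quo_sq index_mul_le CM mem_CM CM_le CM_inv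
  CS_inv CS_eq_top fixed_le odd_relIndex trivial_of_comm)
open Cfsg.Agent.OddCyclic.FFSl2 (IsNat stb mem_stb mem_CS_iff)
open scoped Pointwise

universe u

structure Natl {H : Type*} [Group H] {W : Type*} [CommGroup W] (ρ : H →* MulAut W) (K : Subgroup H) (q : ℕ) :
    Prop where
  fpf : ∀ t ∈ K, Odd (orderOf t) → t ≠ 1 → ∀ w : W, ρ t w = w → w ∈ CS ρ K
  cent : ∀ (P : Sylow 2 K) (X : Subgroup W), (∀ w ∈ X, ∀ u ∈ (P : Subgroup K), ρ (u : H) w = w) → X ⊓ CS ρ K = ⊥ →
    Nat.card X ≤ q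

section mat

variable {F : Type*} [Field F] [CharP F 2]

local notation "SL2" => Matrix.SpecialLinearGroup (Fin 2) F

theorem sq_of_trace {x : SL2} (h : ent x 0 0 + ent x 1 1 = 0) : x * x = 1 := by
  have hd := det_eq x
  have h11 : ent x 1 1 = ent x 0 0 := (CharTwo.add_eq_zero.1 h).symm
  rw [h11] at hd
  have h2 : (2 : F) = 0 := CharTwo.two_eq_zero
  refine ext_ent ?_ ?_ ?_ ?_
  · rw [ent_mul, ent_one_00]
    linear_combination hd + ent x 0 1 * ent x 1 0 * h2
  · rw [ent_mul, h11]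
    show _ = (0 : F)
    linear_combination ent x 0 0 * ent x 0 1 * h2
  · rw [ent_mul, h11]
    show _ = (0 : F)
    linear_combination ent x 0 0 * ent x 1 0 * h2
  · rw [ent_mul, h11, ent_one_11]
    linear_combination hd + ent x 0 1 * ent x 1 0 * h2

variable [Finite F]

/-- elements of odd order are real -/
theorem real {x : SL2} (hx : Odd (orderOf x)) (hx1 : x ≠ 1) : ∃ a : SL2, a * a = 1 ∧ a ≠ 1 ∧ a * x * a⁻¹ = x⁻¹ := by
  have hxx : x * x ≠ 1 := by
    intro h1
    apply hx1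
    have h2 : orderOf x ∣ 2 := orderOf_dvd_of_pow_eq_one (by rw [pow_two]; exact h1)
    rcases (Nat.dvd_prime Nat.prime_two).1 h2 with h3 | h3
    · exact orderOf_eq_one_iff.1 h3
    · rw [h3] at hx
      exact absurd hx (by decide)
  have ht : ent x 0 0 + ent x 1 1 ≠ 0 := fun h => hxx (sq_of_trace h)
  have h2 : (2 : F) = 0 := CharTwo.two_eq_zero
  obtain ⟨p, q, r, h1, h3⟩ : ∃ p q r : F, p * (ent x 0 0 + ent x 1 1) + q * ent x 1 0 + r * ent x 0 1 = 0 ∧
      p * p - q * r ≠ 0 := by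
    by_cases hc : ent x 1 0 = 0
    · by_cases hb : ent x 0 1 = 0
      · exact ⟨0, 1, 1, by rw [hb, hc]; ring, by simp⟩
      · refine ⟨ent x 0 1 / (ent x 0 0 + ent x 1 1), 0, 1, ?_, ?_⟩
        · rw [div_mul_cancel₀ _ ht]
          linear_combination ent x 0 1 * h2
        · rw [zero_mul, sub_zero]
          exact mul_ne_zero (div_ne_zero hb ht) (div_ne_zero hb ht)
    · refine ⟨ent x 1 0 / (ent x 0 0 + ent x 1 1), 1, 0, ?_, ?_⟩
      · rw [div_mul_cancel₀ _ ht]
        linear_combination ent x 1 0 * h2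
      · rw [mul_zero, sub_zero]
        exact mul_ne_zero (div_ne_zero hc ht) (div_ne_zero hc ht)
  obtain ⟨s, hs⟩ : ∃ s : F, (p * p - q * r)⁻¹ = s * s :=
    FiniteField.isSquare_of_char_two (ringChar.eq_iff.2 inferInstance) _
  have hdet : s * p * (s * p) - s * q * (s * r) = 1 := by
    have : s * p * (s * p) - s * q * (s * r) = s * s * (p * p - q * r) := by ring
    rw [this, ← hs, inv_mul_cancel₀ h3]
  obtain ⟨a, ha⟩ : ∃ a : SL2, a = mk (s * p) (s * q) (s * r) (s * p) hdet := ⟨_, rfl⟩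
  have h00 : ent a 0 0 = s * p := by rw [ha, mk_00]
  have h01 : ent a 0 1 = s * q := by rw [ha, mk_01]
  have h10 : ent a 1 0 = s * r := by rw [ha, mk_10]
  have h11 : ent a 1 1 = s * p := by rw [ha, mk_11]
  have haa : a * a = 1 := sq_of_trace (by rw [h00, h11]; exact CharTwo.add_self_eq_zero _)
  have hax : a * x * a⁻¹ = x⁻¹ := by
    have hM : a.1.trace = 0 := by
      rw [Matrix.trace_fin_two]
      show ent a 0 0 + ent a 1 1 = 0
      rw [h00, h11]; exact CharTwo.add_self_eq_zero _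
    have hMx : (a.1 * x.1).trace = 0 := by
      rw [Matrix.trace_fin_two, Matrix.mul_apply, Matrix.mul_apply, Fin.sum_univ_two, Fin.sum_univ_two]
      show ent a 0 0 * ent x 0 0 + ent a 0 1 * ent x 1 0 + (ent a 1 0 * ent x 0 1 + ent a 1 1 * ent x 1 1) = 0
      rw [h00, h01, h10, h11]
      linear_combination s * h1
    have h4 := FFPslMat.mul_eq hM hMx
    have h5 : a * x = x⁻¹ * a := Subtype.ext h4
    rw [h5, mul_inv_cancel_right]
  refine ⟨a, haa, ?_, hax⟩
  rintro rfl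
  apply hxx
  rw [one_mul, inv_one, mul_one] at hax
  nth_rewrite 1 [hax]
  exact inv_mul_cancel x

end mat

section nat

variable {F : Type} [Field F] [Fintype F] [CharP F 2]

local notation "SL2" => Matrix.SpecialLinearGroup (Fin 2) F

variable {V : Type*} [CommGroup V] [Finite V] {r : Matrix.SpecialLinearGroup (Fin 2) F →* MulAut V}

theorem isNat_fpf (h4 : 4 ≤ Fintype.card F) (hV : ∀ v : V, v * v = 1) (hN : IsNat r) (htop : CS r ⊤ = ⊥) {x : SL2}
    (hx : Odd (orderOf x)) (hx1 : x ≠ 1) {v : V} (hv : r x v = v) : v = 1 := by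
  have hs := isSimpleGroup_sl2 h4
  have hf2 : Fact (Nat.Prime 2) := ⟨Nat.prime_two⟩
  by_contra hv1
  obtain ⟨a, haa, ha1, hax⟩ := real hx hx1
  have hra : ∀ v : V, r a (r a v) = v := fun v => by
    rw [← MulAut.mul_apply, ← map_mul, haa, map_one]; rfl
  have hxa : r x (r a v) = r a v := by
    have h1 : x * a = a * x⁻¹ := by
      rw [← hax]
      have : a⁻¹ = a := inv_eq_of_mul_eq_one_left haa
      rw [this]
      have h2 : a * (a * x * a) = (a * a) * x * a := by group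
      rw [h2, haa, one_mul]
    rw [← MulAut.mul_apply, ← map_mul, h1, map_mul, MulAut.mul_apply, fx_inv r hv]
  obtain ⟨w, hw1, hxw, haw⟩ : ∃ w : V, w ≠ 1 ∧ r x w = w ∧ r a w = w := by
    by_cases h1 : v * r a v = 1
    · refine ⟨v, hv1, hv, ?_⟩
      rw [eq_inv_of_mul_eq_one_right h1]
      exact inv_eq_of_mul_eq_one_left (hV v)
    · refine ⟨v * r a v, h1, ?_, ?_⟩
      · rw [map_mul, hv, hxa]
      · rw [map_mul, hra, mul_comm]
  have hp : IsPGroup 2 (zpowers a) := IsPGroup.of_card (n := 1) (by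
    rw [Nat.card_zpowers, pow_one]
    exact orderOf_eq_prime (by rw [pow_two, haa]) ha1)
  obtain ⟨U, hU⟩ := hp.exists_le_sylow
  have haU : a ∈ U := hU (mem_zpowers a)
  have hwU : w ∈ CS r (U : Subgroup SL2) := by
    rw [← hN.fix U a haU ha1]; exact haw
  by_cases hne : x • U = U
  · -- `x` normalises `U`
    have h1 : x * a⁻¹ * x⁻¹ ∈ U := by
      rw [← hne]
      exact ⟨a⁻¹, inv_mem haU, rfl⟩
    have h2 : x⁻¹ * x⁻¹ ∈ U := by
      have h3 : a * (x * a⁻¹ * x⁻¹) = x⁻¹ * x⁻¹ := by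
        have : a * (x * a⁻¹ * x⁻¹) = (a * x * a⁻¹) * x⁻¹ := by group
        rw [this, hax]
      rw [← h3]
      exact mul_mem haU h1
    obtain ⟨n, hn⟩ := U.2 ⟨_, h2⟩
    have hn' : (x⁻¹ * x⁻¹) ^ 2 ^ n = 1 := congrArg Subtype.val hn
    apply hx1
    have h3 : x ^ 2 ^ (n + 1) = 1 := by
      have h4 : (x⁻¹ * x⁻¹) ^ 2 ^ n = (x ^ 2 ^ (n + 1))⁻¹ := by
        rw [← pow_two, ← pow_mul, ← pow_succ', inv_pow]
      rw [h4, inv_eq_one] at hn'
      exact hn'
    have h4 := orderOf_dvd_of_pow_eq_one h3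
    have h5 : Nat.Coprime (orderOf x) (2 ^ (n + 1)) := Nat.Coprime.pow_right _ (Nat.coprime_two_right.2 hx)
    exact orderOf_eq_one_iff.1 (Nat.Coprime.eq_one_of_dvd h5 h4)
  · have h1 : stb r w = ⊤ := by
      refine Eq.PrimR.gen (X := SL2) Eq.PrimR.sl (Q := U) (R := x • U) ?_ ?_ (fun h => hne h.symm)
      · exact mem_CS_iff.1 hwU
      · rintro _ ⟨u, hu, rfl⟩
        show x * u * x⁻¹ ∈ stb r w
        exact mul_mem (mul_mem hxw (mem_CS_iff.1 hwU hu)) (inv_mem (show x ∈ stb r w from hxw))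
    apply hw1
    have h2 : w ∈ CS r ⊤ := mem_CS_iff.2 (by rw [h1])
    rw [htop, mem_bot] at h2
    exact h2

end nat

section

variable {H : Type u} [Group H] [Finite H] {W : Type*} [CommGroup W] {ρ : H →* MulAut W}
  {Y M C Θ J K : Subgroup H} {W₀ : Subgroup W} {F : Type} [Field F] [Fintype F] [CharP F 2]

local notation "SL2" => Matrix.SpecialLinearGroup (Fin 2) F

variable [Finite W] [K.Normal]

/-- `W/C_W(K)` is natural -/
theorem nat (h : HW ρ Y M C Θ J W₀) (s : Simp Y M C K) (h4 : 4 ≤ Fintype.card F) (e : SL2 ≃* K)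
    {A B : Subgroup H} {N : Subgroup W} {g : H} (d : Dir ρ M C Θ B A N g) :
    ∃ hZ : Inv (rr ρ e) (CS ρ K), IsNat (quo (rr ρ e) (CS ρ K) hZ) := by
  obtain ⟨hAK, hA⟩ := le_K h s h4 e d.AΘ d.Asq
  obtain ⟨hBK, hB⟩ := le_K h s h4 e d.BΘ d.Bsq
  obtain ⟨⟨b, hb⟩, hb1⟩ := ne_bot_iff_exists_ne_one.1 d.B_ne
  have hb1' : b ≠ 1 := fun h0 => hb1 (Subtype.ext h0)
  have hidx := idx_le d
  have hq : Fintype.card F ≤ (CS ρ B).index := (index_ge h h4 e (hBK hb) (d.Bsq b hb) hb1').trans (fx_le_index hb)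
  obtain ⟨q, hqq⟩ : ∃ q, q = Fintype.card F := ⟨_, rfl⟩
  rw [← hqq] at h4 hA hB hq
  have hlt : (CS ρ B).index < q * q := by
    rcases hidx with h1 | h1
    · nlinarith
    · have h2 : Nat.card A * Nat.card B ≤ q * q := Nat.mul_le_mul hA hB
      nlinarith
  -- the module for `SL₂(q)`
  obtain ⟨r, hr⟩ : ∃ r, r = rr ρ e := ⟨_, rfl⟩
  have hr' : ∀ x w, r x w = ρ (e x : H) w := fun x w => by rw [hr]; rfl
  have hZ : Inv r (CS ρ K) := fun x w hw => by
    rw [hr']; exact CS_inv ρ K (e x : H) w hw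
  have hesurj : ∀ k ∈ K, ∃ x, (e x : H) = k := by
    intro k hk
    obtain ⟨x, hx⟩ := e.surjective ⟨k, hk⟩
    exact ⟨x, by rw [hx]⟩
  have h4' : 4 ≤ Fintype.card F := hqq ▸ h4
  -- `K` acts nontrivially on `W / C_W(K)`
  have hne : ∃ x v, quo r (CS ρ K) hZ x v ≠ v := by
    by_contra hcon
    push Not at hcon
    have h1 : ∀ k ∈ K, ∀ w : W, ρ k w * w⁻¹ ∈ CS ρ K := by
      intro k hk w
      obtain ⟨x, rfl⟩ := hesurj k hk
      have h2 := hcon x (w : W ⧸ CS ρ K)
      rw [quo_apply, hr', QuotientGroup.eq] at h2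
      have h3 := inv_mem h2
      rw [mul_inv_rev, inv_inv, mul_comm] at h3
      exact h3
    have h2 := triv_of_quot h s h4' e h1
    obtain ⟨x, v, hv⟩ := rr_ne h h4' e
    exact hv (h2 _ (e x).2 v)
  -- irreducibility
  have irr : ∀ N' : Subgroup (W ⧸ CS ρ K), (∀ x, ∀ w ∈ N', quo r (CS ρ K) hZ x w ∈ N') → N' = ⊥ ∨ N' = ⊤ := by
    intro N' hN'
    obtain ⟨N₀, hN₀⟩ : ∃ N₀ : Subgroup W, N₀ = N'.comap (QuotientGroup.mk' (CS ρ K)) := ⟨_, rfl⟩
    have hm : ∀ w : W, w ∈ N₀ ↔ (w : W ⧸ CS ρ K) ∈ N' := fun w => by rw [hN₀]; rfl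
    have hI : Inv r N₀ := by
      intro x w hw
      rw [hm] at hw ⊢
      have := hN' x _ hw
      rwa [quo_apply] at this
    by_cases h1 : ∀ x, ∀ w ∈ N₀, r x w = w
    · left
      rw [eq_bot_iff]
      intro v hv
      obtain ⟨w, rfl⟩ := QuotientGroup.mk_surjective v
      rw [mem_bot, QuotientGroup.eq_one_iff]
      intro k hk
      obtain ⟨x, rfl⟩ := hesurj k hk
      rw [← hr']
      exact h1 x w ((hm w).2 hv)
    by_cases h2 : ∀ x, ∀ w : W, r x w * w⁻¹ ∈ N₀
    · right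
      have h3 : CM ρ K ⊔ CS ρ K ≤ N₀ := by
        apply sup_le
        · apply CM_le
          intro k hk w
          obtain ⟨x, rfl⟩ := hesurj k hk
          rw [← hr']
          exact h2 x w
        · intro w hw
          rw [hm, (QuotientGroup.eq_one_iff w).2 hw]
          exact one_mem _
      rw [sup_eq_top' h s, top_le_iff] at h3
      rw [eq_top_iff]
      intro v _
      obtain ⟨w, rfl⟩ := QuotientGroup.mk_surjective v
      exact (hm w).1 (by rw [h3]; trivial)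
    -- two nontrivial factors
    exfalso
    obtain ⟨x, hx⟩ := hesurj b (hBK hb)
    have hx2 : x * x = 1 := by
      apply e.injective
      apply Subtype.ext
      rw [map_mul, Subgroup.coe_mul, hx, d.Bsq b hb, map_one]; rfl
    have hx1 : x ≠ 1 := by
      rintro rfl
      apply hb1'
      rw [← hx, map_one]; rfl
    have e1 : q ≤ (fx (sub r N₀ hI) x).index := by
      rw [hqq]
      refine sl2_index h4' (fun v => Subtype.ext (h.sq v)) _ ?_ hx2 hx1
      push Not at h1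
      obtain ⟨x', w, hw, hne'⟩ := h1
      exact ⟨x', ⟨w, hw⟩, fun h0 => hne' (congrArg Subtype.val h0)⟩
    have e2 : q ≤ (fx (quo r N₀ hI) x).index := by
      rw [hqq]
      refine sl2_index h4' (quo_sq h.sq) _ ?_ hx2 hx1
      push Not at h2
      obtain ⟨x', w, hne'⟩ := h2
      refine ⟨x', (w : W ⧸ N₀), fun h0 => hne' ?_⟩
      rw [quo_apply, QuotientGroup.eq] at h0
      have h3 := inv_mem h0
      rw [mul_inv_rev, inv_inv, mul_comm] at h3
      exact h3
    have e3 := index_mul_le hI x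
    have e4 : (fx r x).index ≤ (CS ρ B).index := by
      have : fx r x = fx ρ b := by
        rw [hr, fx_rr, hx]
      rw [this]
      exact fx_le_index hb
    have e5 := Nat.mul_le_mul e1 e2
    omega
  -- quadratic subgroups
  have key : ∀ B' ≤ K, (∀ b ∈ B', b * b = 1) →
      (∀ b ∈ B', ∀ b' ∈ B', ∀ w : W, ρ b' (ρ b w * w⁻¹) = ρ b w * w⁻¹) →
      Nat.card B' ^ 2 ≤ q ∨ IsNat (quo r (CS ρ K) hZ) := by
    intro B' hB' hs' hq'
    obtain ⟨ι, hι⟩ : ∃ ι : SL2 →* H, ι = K.subtype.comp e.toMonoidHom := ⟨_, rfl⟩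
    have hι' : ∀ x, ι x = e x := fun x => by rw [hι]; rfl
    have hinj : Function.Injective ι := by
      intro x y hxy
      rw [hι', hι'] at hxy
      exact e.injective (Subtype.ext hxy)
    have hcard : Nat.card (B'.comap ι) = Nat.card B' := by
      rw [← Subgroup.card_map_of_injective hinj, Subgroup.map_comap_eq_self]
      intro t ht
      obtain ⟨x, hx⟩ := hesurj t (hB' ht)
      exact ⟨x, by rw [hι', hx]⟩
    have h1 := EmpR.QuadNat.quad_nat h4' (quo_sq h.sq) (quo r (CS ρ K) hZ) hne irr (A := B'.comap ι) (by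
      intro a ha
      apply hinj
      rw [map_mul, map_one]
      exact hs' _ ha) (by
      intro a ha a' ha' v
      obtain ⟨w, rfl⟩ := QuotientGroup.mk_surjective v
      rw [quo_apply, ← QuotientGroup.mk_inv, ← QuotientGroup.mk_mul, quo_apply, hr', hr']
      have h2 := hq' _ ha _ ha' w
      rw [hι', hι'] at h2
      rw [h2])
    rw [hcard, ← hqq] at h1
    exact h1
  rcases key A hAK d.Asq d.Aq with h1 | h1
  swap
  · subst hr
    exact ⟨hZ, h1⟩
  rcases key B hBK d.Bsq d.Bq with h2 | h2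
  swap
  · subst hr
    exact ⟨hZ, h2⟩
  exfalso
  rcases hidx with h3 | h3
  · have h5 : q ≤ Nat.card A := hq.trans h3
    have h6 : q ^ 2 ≤ q := (Nat.pow_le_pow_left h5 2).trans h1
    nlinarith
  · have h5 : (Nat.card A * Nat.card B) ^ 2 ≤ q ^ 2 := by
      rw [mul_pow, sq q]
      exact Nat.mul_le_mul h1 h2
    have h6 := (Nat.pow_le_pow_iff_left (by norm_num)).1 h5
    omega


omit [K.Normal] in
/-- **the natural module** -/
theorem main (h : HW ρ Y M C Θ J W₀) (s : Simp Y M C K) (h4 : 4 ≤ Fintype.card F) (e : SL2 ≃* K)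
    {A B : Subgroup H} {N : Subgroup W} {g : H} (d : Dir ρ M C Θ B A N g) : Natl ρ K (Fintype.card F) := by
  have hn := s.norm
  have hidx := index_eq h s h4 e d
  obtain ⟨hZ, hN⟩ := nat h s h4 e d
  obtain ⟨r, hr⟩ : ∃ r, r = quo (rr ρ e) (CS ρ K) hZ := ⟨_, rfl⟩
  rw [← hr] at hN
  have hr' : ∀ x (w : W), r x (w : W ⧸ CS ρ K) = ((ρ (e x : H) w : W) : W ⧸ CS ρ K) := by
    intro x w
    rw [hr, quo_apply]; rfl
  have hcard : Nat.card (W ⧸ CS ρ K) = Fintype.card F ^ 2 := hidx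
  have hq0 : 0 < Fintype.card F := Fintype.card_pos
  have htop : CS r ⊤ = ⊥ := by
    have h1 := (CS r ⊤).card_mul_index
    rw [hN.top, hcard] at h1
    have h2 : 0 < Fintype.card F ^ 2 := by positivity
    have h3 : Nat.card (CS r ⊤) = 1 := Nat.eq_of_mul_eq_mul_right h2 (by rw [h1, one_mul])
    exact card_eq_one.1 h3
  refine ⟨?_, ?_⟩
  · intro t ht hto ht1 w hw
    obtain ⟨x, hx⟩ := e.surjective ⟨t, ht⟩
    have hx' : (e x : H) = t := by rw [hx]
    have hxo : Odd (orderOf x) := by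
      rw [← MulEquiv.orderOf_eq e x, ← Subgroup.orderOf_coe, hx']
      exact hto
    have hx1 : x ≠ 1 := by
      rintro rfl
      apply ht1
      rw [← hx', map_one]; rfl
    have h1 := isNat_fpf h4 (quo_sq h.sq) hN htop hxo hx1 (v := (w : W ⧸ CS ρ K)) (by rw [hr', hx', hw])
    exact (QuotientGroup.eq_one_iff w).1 h1
  · intro P X hX hXK
    have hinj : Function.Injective (fun w : X => ((w : W) : W ⧸ CS ρ K)) := by
      intro w w' hww
      have h1 : (w : W)⁻¹ * w' ∈ CS ρ K := QuotientGroup.eq.1 hww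
      have h2 : (w : W)⁻¹ * w' ∈ X ⊓ CS ρ K := ⟨X.mul_mem (X.inv_mem w.2) w'.2, h1⟩
      rw [hXK, mem_bot] at h2
      exact Subtype.ext (inv_mul_eq_one.1 h2)
    obtain ⟨U, hU⟩ : ∃ U : Sylow 2 SL2, ∀ x ∈ U, e x ∈ P := by
      refine ⟨P.comapOfInjective e.toMonoidHom e.injective (by
        rw [MonoidHom.range_eq_top.2 e.surjective]; exact le_top), fun x hx => hx⟩
    have hcU : Nat.card (CS r (U : Subgroup SL2)) = Fintype.card F := by
      have h1 := (CS r (U : Subgroup SL2)).card_mul_index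
      rw [hN.index U, hcard, pow_two] at h1
      exact Nat.eq_of_mul_eq_mul_right hq0 h1
    rw [← hcU]
    refine Nat.card_le_card_of_injective (fun w : X => (⟨((w : W) : W ⧸ CS ρ K), ?_⟩ : CS r (U : Subgroup SL2))) ?_
    · intro x hx
      rw [hr', hX w w.2 (e x) (hU x hx)]
    · intro w w' hww
      exact hinj (congrArg Subtype.val hww)

end

end Cfsg.Agent.OddCyclic.EmpE.Natl
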